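import Mathlib
import Cfsg.Prelude.Def_PLocal
import Cfsg.Agent.Lib.helper3.Basic
import Cfsg.Agent.Lib.helper3.Normalizer
import Cfsg.Agent.Lib.helper8.CoprimeAction
import Cfsg.Agent.Lib.helper9.Generation
import Cfsg.Agent.Lib.helper9.PPrimeCore
import Cfsg.Agent.S1324

set_option autoImplicit false
set_option linter.style.haveILetI false

namespace Cfsg.Agent.Lib.helper3

open scoped commutatorElement

universe u

/-- An element centralizing `B` and `Z` centralizes `B ⊔ Z`. -/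
theorem mem_centralizer_sup {G : Type u} [Group G] {B Z : Subgroup G} {x : G}
    (h1 : x ∈ Subgroup.centralizer (B : Set G)) (h2 : x ∈ Subgroup.centralizer (Z : Set G)) :
    x ∈ Subgroup.centralizer ((B ⊔ Z : Subgroup G) : Set G) := by
  have hB : B ≤ Subgroup.centralizer ({x} : Set G) := by
    intro b hb
    refine Subgroup.mem_centralizer_iff.mpr ?_
    intro y hy
    rw [Set.mem_singleton_iff] at hy
    rw [hy]
    exact (Subgroup.mem_centralizer_iff.mp h1 b hb).symm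
  have hZ : Z ≤ Subgroup.centralizer ({x} : Set G) := by
    intro b hb
    refine Subgroup.mem_centralizer_iff.mpr ?_
    intro y hy
    rw [Set.mem_singleton_iff] at hy
    rw [hy]
    exact (Subgroup.mem_centralizer_iff.mp h2 b hb).symm
  refine Subgroup.mem_centralizer_iff.mpr ?_
  intro h hh
  have := (sup_le hB hZ) hh
  exact (Subgroup.mem_centralizer_iff.mp this x rfl).symm

section FF

variable {G : Type u} [Group G] [Finite G] {p : ℕ} [Fact p.Prime] (V H : Subgroup G)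

/-- The image in `G` of `O_{p'}(H)`. -/
def ffQ (p : ℕ) (H : Subgroup G) : Subgroup G := (Cfsg.pPrimeCore p ↥H).map H.subtype

omit [Finite G] [Fact p.Prime] in
theorem ffQ_le : ffQ p H ≤ H := Subgroup.map_subtype_le _

omit [Finite G] [Fact p.Prime] in
theorem ffQ_normal : H ≤ Subgroup.normalizer ((ffQ p H : Subgroup G) : Set G) := by
  apply le_normalizer_of_conj_mem
  rintro g hg x ⟨y, hy, rfl⟩
  have hn := Cfsg.Agent.Lib.helper9.ppc_normal p ↥H
  refine ⟨⟨g, hg⟩ * y * ⟨g, hg⟩⁻¹, hn.conj_mem y hy ⟨g, hg⟩, ?_⟩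
  simp

omit [Fact p.Prime] in
theorem ffQ_coprime : (Nat.card (ffQ p H)).Coprime p := by
  rw [ffQ, Subgroup.card_map_of_injective H.subtype_injective]
  exact Cfsg.Agent.Lib.helper9.pPrimeCore_coprime p ↥H

omit [Finite G] [Fact p.Prime] in
theorem ffQ_self_centralizing
    (hS1 : Subgroup.centralizer (Cfsg.pPrimeCore p ↥H : Set ↥H) ≤ Cfsg.pPrimeCore p ↥H)
    {h : G} (hh : h ∈ H) (hc : ∀ x ∈ ffQ p H, x * h = h * x) : h ∈ ffQ p H := by
  have : (⟨h, hh⟩ : ↥H) ∈ Subgroup.centralizer (Cfsg.pPrimeCore p ↥H : Set ↥H) := by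
    refine Subgroup.mem_centralizer_iff.mpr ?_
    intro y hy
    apply Subtype.ext
    exact hc y ⟨y, hy, rfl⟩
  exact ⟨⟨h, hh⟩, hS1 this, rfl⟩

omit [Finite G] [Fact p.Prime] in
/-- A best offender inside a faithful group is elementary abelian. -/
theorem ff_offender_ea (hf : H ⊓ Subgroup.centralizer (V : Set G) = ⊥) (A : Subgroup G)
    (hAH : A ≤ H) (hA : Cfsg.IsBestOffenderOn p V A) :
    (∀ x ∈ A, ∀ y ∈ A, x * y = y * x) ∧ ∀ a ∈ A, a ^ p = 1 := by
  constructor
  · intro x hx y hy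
    have h0 : ⁅x, y⁆ ∈ A := by
      rw [commutatorElement_def]
      exact mul_mem (mul_mem (mul_mem hx hy) (inv_mem hx)) (inv_mem hy)
    have h1 : ⁅x, y⁆ ∈ H ⊓ Subgroup.centralizer (V : Set G) :=
      ⟨hAH h0, hA.2.1 (Subgroup.commutator_mem_commutator hx hy)⟩
    rw [hf, Subgroup.mem_bot] at h1
    exact commutatorElement_eq_one_iff_mul_comm.mp h1
  · intro a ha
    have h1 : a ^ p ∈ H ⊓ Subgroup.centralizer (V : Set G) := ⟨hAH (pow_mem ha p), hA.2.2 a ha⟩
    rw [hf, Subgroup.mem_bot] at h1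
    exact h1

omit [Finite G] [Fact p.Prime] in
theorem ff_isPGroup (hf : H ⊓ Subgroup.centralizer (V : Set G) = ⊥) (A : Subgroup G)
    (hAH : A ≤ H) (hA : Cfsg.IsBestOffenderOn p V A) : IsPGroup p A := by
  intro x
  refine ⟨1, ?_⟩
  apply Subtype.ext
  rw [pow_one]
  simpa using (ff_offender_ea V H hf A hAH hA).2 x x.2

/-- `B` is a good hyperplane of `A`: `A = B⟨a⟩` and `A` does not centralize `C_Q(B)`. -/
def FFGood (p : ℕ) (H A B : Subgroup G) : Prop :=
  B ≤ A ∧ (∃ a ∈ A, B ⊔ Subgroup.zpowers a = A) ∧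
    ¬ (ffQ p H ⊓ Subgroup.centralizer (B : Set G) ≤ Subgroup.centralizer (A : Set G))

theorem ff_coprime (hf : H ⊓ Subgroup.centralizer (V : Set G) = ⊥) (A : Subgroup G)
    (hAH : A ≤ H) (hA : Cfsg.IsBestOffenderOn p V A) :
    (Nat.card A).Coprime (Nat.card (ffQ p H)) := by
  obtain ⟨n, hn⟩ := IsPGroup.iff_card.mp (ff_isPGroup V H hf A hAH hA)
  rw [hn]; exact Nat.Coprime.pow_left n (ffQ_coprime H).symm

theorem ff_exists_good (hf : H ⊓ Subgroup.centralizer (V : Set G) = ⊥)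
    (hS1 : Subgroup.centralizer (Cfsg.pPrimeCore p ↥H : Set ↥H) ≤ Cfsg.pPrimeCore p ↥H)
    (A : Subgroup G) (hAH : A ≤ H) (hA : Cfsg.IsBestOffenderOn p V A) (hA1 : A ≠ ⊥) :
    ∃ B : Subgroup G, FFGood p H A B := by
  obtain ⟨hab, hexp⟩ := ff_offender_ea V H hf A hAH hA
  haveI : IsMulCommutative A := ⟨⟨fun x y => Subtype.ext (hab x x.2 y y.2)⟩⟩
  have hcop := ff_coprime V H hf A hAH hA
  have hAQ : A ≤ Subgroup.normalizer ((ffQ p H : Subgroup G) : Set G) := hAH.trans (ffQ_normal H)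
  by_contra hcon
  push Not at hcon
  have hQ : ffQ p H ≤ Subgroup.centralizer (A : Set G) := by
    apply Cfsg.Agent.Lib.helper9.gen_main A (ffQ p H) hAQ hcop
    intro B hB hex
    by_contra hng
    exact hcon B ⟨hB, hex, hng⟩
  apply hA1
  rw [eq_bot_iff]
  intro a ha
  have haQ : a ∈ ffQ p H := ffQ_self_centralizing H hS1 (hAH ha)
    (fun x hx => (Subgroup.mem_centralizer_iff.mp (hQ hx) a ha).symm)
  have : a ∈ A ⊓ ffQ p H := ⟨ha, haQ⟩
  rw [Subgroup.inf_eq_bot_of_coprime hcop] at this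
  exact this

theorem ff_good_unique (hf : H ⊓ Subgroup.centralizer (V : Set G) = ⊥)
    (hS1 : Subgroup.centralizer (Cfsg.pPrimeCore p ↥H : Set ↥H) ≤ Cfsg.pPrimeCore p ↥H)
    (A : Subgroup G) (hAH : A ≤ H) (hA : Cfsg.IsBestOffenderOn p V A) (B : Subgroup G)
    (hB : FFGood p H A B) (huniq : ∀ B', FFGood p H A B' → B' = B) : B = ⊥ := by
  obtain ⟨hab, hexp⟩ := ff_offender_ea V H hf A hAH hA
  haveI : IsMulCommutative A := ⟨⟨fun x y => Subtype.ext (hab x x.2 y y.2)⟩⟩
  have hcop := ff_coprime V H hf A hAH hA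
  have hAQ : A ≤ Subgroup.normalizer ((ffQ p H : Subgroup G) : Set G) := hAH.trans (ffQ_normal H)
  have hQ : ffQ p H ≤ Subgroup.centralizer (B : Set G) := by
    apply Cfsg.Agent.Lib.helper9.gen_main A (ffQ p H) hAQ hcop
    intro B' hB' hex
    by_cases hng : ffQ p H ⊓ Subgroup.centralizer (B' : Set G) ≤ Subgroup.centralizer (A : Set G)
    · exact hng.trans (Subgroup.centralizer_le (SetLike.coe_subset_coe.mpr hB.1))
    · rw [huniq B' ⟨hB', hex, hng⟩]; exact inf_le_right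
  rw [eq_bot_iff]
  intro b hb
  have hbA := hB.1 hb
  have hbQ : b ∈ ffQ p H := ffQ_self_centralizing H hS1 (hAH hbA)
    (fun x hx => (Subgroup.mem_centralizer_iff.mp (hQ hx) b hb).symm)
  have : b ∈ A ⊓ ffQ p H := ⟨hbA, hbQ⟩
  rw [Subgroup.inf_eq_bot_of_coprime hcop] at this
  exact this

theorem ff_good_props (hV : Cfsg.IsElementaryAbelian p V)
    (hHV : H ≤ Subgroup.normalizer (V : Set G))
    (hf : H ⊓ Subgroup.centralizer (V : Set G) = ⊥)
    (A : Subgroup G) (hAH : A ≤ H) (hA : Cfsg.IsBestOffenderOn p V A) (B : Subgroup G)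
    (hB : FFGood p H A B) :
    B.relIndex A = p ∧ Cfsg.IsBestOffenderOn p V B ∧
      Nat.card B * Nat.card ↥(V ⊓ Subgroup.centralizer (B : Set G)) =
        Nat.card A * Nat.card ↥(V ⊓ Subgroup.centralizer (A : Set G)) := by
  obtain ⟨hBA, ⟨a, ha, hBa⟩, hng⟩ := hB
  obtain ⟨hab, hexp⟩ := ff_offender_ea V H hf A hAH hA
  haveI : IsMulCommutative A := ⟨⟨fun x y => Subtype.ext (hab x x.2 y y.2)⟩⟩
  have hp : p.Prime := Fact.out
  obtain ⟨Z, hZdef⟩ : ∃ Z : Subgroup G, Z = Subgroup.zpowers a := ⟨_, rfl⟩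
  have hZA : Z ≤ A := by rw [hZdef, Subgroup.zpowers_le]; exact ha
  obtain ⟨Q₁, hQ₁⟩ : ∃ Q₁ : Subgroup G, Q₁ = ffQ p H ⊓ Subgroup.centralizer (B : Set G) :=
    ⟨_, rfl⟩
  have h1 : ¬ Q₁ ≤ Subgroup.centralizer (Z : Set G) := by
    intro hle
    apply hng
    intro x hx
    rw [← hBa, ← hZdef]
    exact mem_centralizer_sup hx.2 (hle (hQ₁ ▸ hx))
  obtain ⟨U, hU⟩ : ∃ U : Subgroup G, U = V ⊓ Subgroup.centralizer (B : Set G) := ⟨_, rfl⟩
  have hVp : IsPGroup p V := by
    intro x; refine ⟨1, ?_⟩; apply Subtype.ext; rw [pow_one]; simpa using hV.2 x x.2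
  have hQ₁H : Q₁ ≤ H := hQ₁ ▸ inf_le_left.trans (ffQ_le H)
  have hQ₁B : Q₁ ≤ Subgroup.centralizer (B : Set G) := hQ₁ ▸ inf_le_right
  have hQ₁U : Q₁ ≤ Subgroup.normalizer (U : Set G) := by
    apply le_normalizer_of_conj_mem
    intro x hx u hu
    rw [hU] at hu ⊢
    refine ⟨?_, ?_⟩
    · exact (Subgroup.mem_normalizer_iff.mp (hHV (hQ₁H hx)) u).mp hu.1
    · refine Subgroup.mem_centralizer_iff.mpr ?_
      intro b hb
      have e1 : b * x = x * b := Subgroup.mem_centralizer_iff.mp (hQ₁B hx) b hb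
      have e2 : b * u = u * b := Subgroup.mem_centralizer_iff.mp hu.2 b hb
      have e3 : b * x⁻¹ = x⁻¹ * b := by
        calc b * x⁻¹ = x⁻¹ * (x * b) * x⁻¹ := by group
          _ = x⁻¹ * (b * x) * x⁻¹ := by rw [e1]
          _ = x⁻¹ * b := by group
      calc b * (x * u * x⁻¹) = (b * x) * u * x⁻¹ := by group
        _ = x * (b * u) * x⁻¹ := by rw [e1]; group
        _ = x * u * (b * x⁻¹) := by rw [e2]; group
        _ = x * u * x⁻¹ * b := by rw [e3]; group
  have h2 : ¬ U ≤ Subgroup.centralizer (Z : Set G) := by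
    intro hUZ
    apply h1
    have c1 : ⁅U, Z⁆ = ⊥ := Subgroup.commutator_eq_bot_iff_le_centralizer.mpr hUZ
    have c2 : ⁅⁅Z, U⁆, Q₁⁆ = ⊥ := by
      rw [Subgroup.commutator_comm Z U, c1]; exact Subgroup.commutator_bot_left Q₁
    have c3 : ⁅⁅U, Q₁⁆, Z⁆ = ⊥ := by
      rw [eq_bot_iff, ← c1]
      exact Subgroup.commutator_mono
        (Cfsg.Agent.Lib.helper8.commutator_le_of_le_normalizer hQ₁U) le_rfl
    have c4 : ⁅⁅Q₁, Z⁆, U⁆ = ⊥ := Subgroup.commutator_commutator_eq_bot_of_rotate c2 c3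
    obtain ⟨Q₂, hQ₂⟩ : ∃ Q₂ : Subgroup G, Q₂ = ⁅Q₁, Z⁆ := ⟨_, rfl⟩
    rw [← hQ₂] at c4
    have hQ₂Q : Q₂ ≤ ffQ p H := by
      have : ⁅ffQ p H, Z⁆ ≤ ffQ p H :=
        Cfsg.Agent.Lib.helper8.commutator_le_of_le_normalizer
          ((hZA.trans hAH).trans (ffQ_normal H))
      rw [hQ₂]
      exact (Subgroup.commutator_mono (hQ₁ ▸ inf_le_left) le_rfl).trans this
    have hQ₂cop : (Nat.card Q₂).Coprime p :=
      Nat.Coprime.coprime_dvd_left (Subgroup.card_dvd_of_le hQ₂Q) (ffQ_coprime H)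
    have hBp : IsPGroup p B := (ff_isPGroup V H hf A hAH hA).to_le hBA
    have hQ₂B : Q₂ ≤ Subgroup.centralizer (B : Set G) := by
      rw [hQ₂, Subgroup.commutator_le]
      intro x hx z hz
      have hxB : x ∈ Subgroup.centralizer (B : Set G) := hQ₁B hx
      have hzB : z ∈ Subgroup.centralizer (B : Set G) := by
        refine Subgroup.mem_centralizer_iff.mpr ?_
        intro b hb
        exact hab b (hBA hb) z (hZA hz)
      rw [commutatorElement_def]
      exact mul_mem (mul_mem (mul_mem hxB hzB) (inv_mem hxB)) (inv_mem hzB)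
    have hres := Cfsg.Agent.Lib.helper8.thompson_pq B Q₂ V hBp hQ₂cop hVp
      (Subgroup.le_centralizer_iff.mp hQ₂B) ((hBA.trans hAH).trans hHV)
      ((hQ₂Q.trans (ffQ_le H)).trans hHV)
      (hU ▸ Subgroup.le_centralizer_iff.mp (Subgroup.commutator_eq_bot_iff_le_centralizer.mp c4))
    have hbot : Q₂ = ⊥ := by
      rw [eq_bot_iff, ← hf]
      exact le_inf (hQ₂Q.trans (ffQ_le H)) hres
    rw [hQ₂] at hbot
    exact Subgroup.commutator_eq_bot_iff_le_centralizer.mp hbot
  obtain ⟨W, hW⟩ : ∃ W : Subgroup G, W = V ⊓ Subgroup.centralizer (A : Set G) := ⟨_, rfl⟩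
  have hWU : W ≤ U := by
    rw [hW, hU]
    exact inf_le_inf_left V (Subgroup.centralizer_le (SetLike.coe_subset_coe.mpr hBA))
  have hWne : ¬ U ≤ W := by
    intro h
    refine h2 (h.trans ?_)
    rw [hW]
    exact inf_le_right.trans (Subgroup.centralizer_le (SetLike.coe_subset_coe.mpr hZA))
  have hrel1 : W.relIndex U ≠ 1 := fun h => hWne (Subgroup.relIndex_eq_one.mp h)
  have hcardWU : Nat.card W * W.relIndex U = Nat.card U := card_mul_relIndex_of_le hWU
  have hUpos : 0 < Nat.card U := Nat.card_pos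
  have hrel0 : W.relIndex U ≠ 0 := by
    intro h0; rw [h0, mul_zero] at hcardWU; omega
  have hpdvd : p ∣ W.relIndex U := by
    obtain ⟨n, hn⟩ := IsPGroup.iff_card.mp hVp
    have hd : W.relIndex U ∣ p ^ n := by
      rw [← hn]
      refine (Subgroup.relIndex_dvd_card W U).trans (Subgroup.card_dvd_of_le ?_)
      rw [hU]; exact inf_le_left
    obtain ⟨k, -, hk⟩ := (Nat.dvd_prime_pow hp).mp hd
    rw [hk] at hrel1 ⊢
    cases k with
    | zero => simp at hrel1
    | succ k => exact dvd_pow_self p (Nat.succ_ne_zero k)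
  have hple : p ≤ W.relIndex U := Nat.le_of_dvd (Nat.pos_of_ne_zero hrel0) hpdvd
  have hrelBA : B.relIndex A ≤ p :=
    Cfsg.Agent.S1324.relIndex_le_of_sup_zpowers hp.pos A B hBA a ha (hexp a ha) hBa
  have hcardBA : Nat.card B * B.relIndex A = Nat.card A := card_mul_relIndex_of_le hBA
  have hbo : Nat.card B * Nat.card U ≤ Nat.card A * Nat.card W := by
    rw [hU, hW]; exact hA.1 B hBA
  have hBpos : 0 < Nat.card B := Nat.card_pos
  have hWpos : 0 < Nat.card W := Nat.card_pos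
  have key2 : W.relIndex U ≤ B.relIndex A := by
    have : Nat.card B * Nat.card W * W.relIndex U ≤ Nat.card B * Nat.card W * B.relIndex A := by
      calc Nat.card B * Nat.card W * W.relIndex U
          = Nat.card B * (Nat.card W * W.relIndex U) := by ring
        _ = Nat.card B * Nat.card U := by rw [hcardWU]
        _ ≤ Nat.card A * Nat.card W := hbo
        _ = Nat.card B * Nat.card W * B.relIndex A := by rw [← hcardBA]; ring
    exact Nat.le_of_mul_le_mul_left this (Nat.mul_pos hBpos hWpos)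
  have hrp : B.relIndex A = p := le_antisymm hrelBA (hple.trans key2)
  have hrp' : W.relIndex U = p := le_antisymm (key2.trans hrelBA) hple
  have hmeas : Nat.card B * Nat.card U = Nat.card A * Nat.card W := by
    rw [← hcardWU, ← hcardBA, hrp, hrp']; ring
  rw [hU, hW] at hmeas
  refine ⟨hrp, ⟨?_, ?_, ?_⟩, hmeas⟩
  · intro B' hB'
    rw [hmeas]
    exact hA.1 B' (hB'.trans hBA)
  · exact (Subgroup.commutator_mono hBA hBA).trans hA.2.1
  · intro b hb; exact hA.2.2 b (hBA hb)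

/-- Every best offender `A` in the faithful group `H` satisfies `|A| |C_V(A)| = |V|`. -/
theorem ff_offender_card (hV : Cfsg.IsElementaryAbelian p V)
    (hHV : H ≤ Subgroup.normalizer (V : Set G))
    (hf : H ⊓ Subgroup.centralizer (V : Set G) = ⊥)
    (hS1 : Subgroup.centralizer (Cfsg.pPrimeCore p ↥H : Set ↥H) ≤ Cfsg.pPrimeCore p ↥H) :
    ∀ (n : ℕ) (A : Subgroup G), Nat.card A = n → A ≤ H → Cfsg.IsBestOffenderOn p V A →
      Nat.card A * Nat.card ↥(V ⊓ Subgroup.centralizer (A : Set G)) = Nat.card V := by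
  intro n
  induction n using Nat.strong_induction_on with
  | _ n ih =>
    intro A hn hAH hA
    by_cases hA1 : A = ⊥
    · subst hA1
      have : V ⊓ Subgroup.centralizer (((⊥ : Subgroup G) : Subgroup G) : Set G) = V := by
        rw [inf_eq_left]
        intro v _
        refine Subgroup.mem_centralizer_iff.mpr ?_
        intro h hh
        rw [Subgroup.mem_bot.mp hh]; simp
      rw [this, Subgroup.card_bot, one_mul]
    · obtain ⟨B, hB⟩ := ff_exists_good V H hf hS1 A hAH hA hA1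
      obtain ⟨hrel, hBo, hmeas⟩ := ff_good_props V H hV hHV hf A hAH hA B hB
      have hlt : Nat.card B < n := by
        rw [← hn, ← card_mul_relIndex_of_le hB.1, hrel]
        have := Nat.card_pos (α := B)
        have := (Fact.out : p.Prime).one_lt
        nlinarith
      rw [← hmeas]
      exact ih _ hlt B rfl (hB.1.trans hAH) hBo

end FF

end Cfsg.Agent.Lib.helper3
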