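import Mathlib
import Cfsg.Agent.Lib.helper3.FFOffender

set_option autoImplicit false
set_option linter.style.haveILetI false

namespace Cfsg.Agent.Lib.helper3

open scoped commutatorElement

universe u

/-- For an abelian subgroup `V` normalized by `a`, `|[V, ⟨a⟩]| · |C_V(a)| = |V|`. -/
theorem card_commutator_zpowers {G : Type u} [Group G] [Finite G] (V : Subgroup G)
    (hVab : ∀ x ∈ V, ∀ y ∈ V, x * y = y * x) (a : G)
    (ha : a ∈ Subgroup.normalizer (V : Set G)) :
    Nat.card ↥(⁅V, Subgroup.zpowers a⁆) *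
      Nat.card ↥(V ⊓ Subgroup.centralizer ((Subgroup.zpowers a : Subgroup G) : Set G)) =
        Nat.card V := by
  have hconj : ∀ k : ℤ, ∀ v ∈ V, a ^ k * v * (a ^ k)⁻¹ ∈ V := by
    intro k v hv
    have hk : a ^ k ∈ Subgroup.normalizer (V : Set G) := zpow_mem ha k
    exact (Subgroup.mem_normalizer_iff.mp hk v).mp hv
  have hconj1 : ∀ v ∈ V, a * v * a⁻¹ ∈ V := by
    intro v hv; simpa using hconj 1 v hv
  have hconj2 : ∀ v ∈ V, a⁻¹ * v * a ∈ V := by
    intro v hv; simpa using hconj (-1) v hv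
  have hmem : ∀ v ∈ V, ⁅v, a⁆ ∈ V := by
    intro v hv
    have e : ⁅v, a⁆ = v * (a * v⁻¹ * a⁻¹) := by rw [commutatorElement_def]; group
    rw [e]
    exact mul_mem hv (hconj1 _ (inv_mem hv))
  let φ : ↥V →* ↥V :=
    { toFun := fun v => ⟨⁅(v : G), a⁆, hmem v v.2⟩
      map_one' := by
        apply Subtype.ext
        simp
      map_mul' := by
        intro v w
        apply Subtype.ext
        show ⁅(v : G) * w, a⁆ = ⁅(v : G), a⁆ * ⁅(w : G), a⁆
        have e1 : ⁅(v : G) * w, a⁆ = v * ⁅(w : G), a⁆ * (a * (v : G)⁻¹ * a⁻¹) := by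
          simp only [commutatorElement_def]; group
        have e2 : (v : G) * ⁅(w : G), a⁆ = ⁅(w : G), a⁆ * v := hVab _ v.2 _ (hmem w w.2)
        have e3 : ⁅(v : G), a⁆ = v * (a * (v : G)⁻¹ * a⁻¹) := by
          rw [commutatorElement_def]; group
        rw [e1, e2, mul_assoc, ← e3]
        exact hVab _ (hmem w w.2) _ (hmem v v.2) }
  have hφ : ∀ v : ↥V, ((φ v : ↥V) : G) = ⁅(v : G), a⁆ := fun v => rfl
  -- kernel
  have hker : φ.ker =
      (V ⊓ Subgroup.centralizer ((Subgroup.zpowers a : Subgroup G) : Set G)).subgroupOf V := by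
    ext v
    rw [MonoidHom.mem_ker, Subgroup.mem_subgroupOf]
    constructor
    · intro h
      have h1 : ⁅(v : G), a⁆ = 1 := by rw [← hφ, h]; rfl
      have h2 : (v : G) * a = a * v := commutatorElement_eq_one_iff_mul_comm.mp h1
      refine ⟨v.2, ?_⟩
      have : Subgroup.zpowers a ≤ Subgroup.centralizer ({(v : G)} : Set G) := by
        rw [Subgroup.zpowers_le]
        refine Subgroup.mem_centralizer_iff.mpr ?_
        intro y hy
        rw [Set.mem_singleton_iff] at hy
        rw [hy]; exact h2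
      refine Subgroup.mem_centralizer_iff.mpr ?_
      intro z hz
      exact (Subgroup.mem_centralizer_iff.mp (this hz) v rfl).symm
    · intro h
      have h2 : a * (v : G) = v * a :=
        Subgroup.mem_centralizer_iff.mp h.2 a (Subgroup.mem_zpowers a)
      apply Subtype.ext
      rw [hφ]
      exact commutatorElement_eq_one_iff_mul_comm.mpr h2.symm
  -- range
  have hrange : φ.range.map V.subtype = ⁅V, Subgroup.zpowers a⁆ := by
    apply le_antisymm
    · rintro _ ⟨_, ⟨v, rfl⟩, rfl⟩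
      exact Subgroup.commutator_mem_commutator v.2 (Subgroup.mem_zpowers a)
    · rw [Subgroup.commutator_le]
      have hI : ∀ v ∈ V, ⁅v, a⁆ ∈ φ.range.map V.subtype := by
        intro v hv
        exact ⟨φ ⟨v, hv⟩, ⟨⟨v, hv⟩, rfl⟩, rfl⟩
      have key : ∀ k : ℤ, ∀ v ∈ V, ⁅v, a ^ k⁆ ∈ φ.range.map V.subtype := by
        intro k
        induction k using Int.induction_on with
        | zero => intro v _; simp
        | succ k ih =>
          intro v hv
          have e : ⁅v, a ^ ((k : ℤ) + 1)⁆ = ⁅v, a⁆ * ⁅a * v * a⁻¹, a ^ (k : ℤ)⁆ := by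
            rw [zpow_add, zpow_one]
            have hc : a ^ (k : ℤ) * a = a * a ^ (k : ℤ) := (Commute.zpow_self a k)
            rw [hc]
            simp only [commutatorElement_def]; group
          rw [e]
          exact mul_mem (hI v hv) (ih _ (hconj1 v hv))
        | pred k ih =>
          intro v hv
          have e : ⁅v, a ^ (-(k : ℤ) - 1)⁆ = (⁅a⁻¹ * v * a, a⁆)⁻¹ * ⁅a⁻¹ * v * a, a ^ (-(k : ℤ))⁆ := by
            rw [sub_eq_add_neg, zpow_add, zpow_neg_one]
            have hc : a ^ (-(k : ℤ)) * a⁻¹ = a⁻¹ * a ^ (-(k : ℤ)) :=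
              ((Commute.zpow_self a (-(k : ℤ))).inv_right).eq
            rw [hc]
            simp only [commutatorElement_def]; group
          rw [e]
          exact mul_mem (inv_mem (hI _ (hconj2 v hv))) (ih _ (hconj2 v hv))
      intro v hv z hz
      obtain ⟨k, rfl⟩ := Subgroup.mem_zpowers_iff.mp hz
      exact key k v hv
  have h1 : Nat.card φ.ker * φ.ker.index = Nat.card V := φ.ker.card_mul_index
  rw [Subgroup.index_ker] at h1
  have h2 : Nat.card φ.range = Nat.card ↥(⁅V, Subgroup.zpowers a⁆) := by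
    rw [← hrange, Subgroup.card_map_of_injective V.subtype_injective]
  have h3 : Nat.card φ.ker =
      Nat.card ↥(V ⊓ Subgroup.centralizer ((Subgroup.zpowers a : Subgroup G) : Set G)) := by
    rw [hker]
    exact Nat.card_congr (Subgroup.subgroupOfEquivOfLe inf_le_left).toEquiv
  rw [← h2, ← h3, mul_comm]
  exact h1

/-- A nontrivial subgroup of the faithful group `H` acts nontrivially on `V`. -/
theorem ff_commutator_ne_bot {G : Type u} [Group G] (V H : Subgroup G)
    (hf : H ⊓ Subgroup.centralizer (V : Set G) = ⊥) (B : Subgroup G) (hBH : B ≤ H)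
    (hB1 : B ≠ ⊥) : ⁅V, B⁆ ≠ ⊥ := by
  intro h
  apply hB1
  rw [eq_bot_iff, ← hf]
  exact le_inf hBH (Subgroup.le_centralizer_iff.mp
    (Subgroup.commutator_eq_bot_iff_le_centralizer.mp h))

/-- Minimal nontrivially acting best offenders have order `p`, and act as transvections. -/
theorem ff_min_offender {G : Type u} [Group G] [Finite G] {p : ℕ} [Fact p.Prime]
    (V H : Subgroup G) (hV : Cfsg.IsElementaryAbelian p V)
    (hHV : H ≤ Subgroup.normalizer (V : Set G))
    (hf : H ⊓ Subgroup.centralizer (V : Set G) = ⊥)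
    (hS1 : Subgroup.centralizer (Cfsg.pPrimeCore p ↥H : Set ↥H) ≤ Cfsg.pPrimeCore p ↥H)
    (A : Subgroup G) (hAH : A ≤ H) (hA : Cfsg.IsBestOffenderOn p V A) (hAV : ⁅V, A⁆ ≠ ⊥)
    (hmin : ∀ B : Subgroup G, B ≤ A → Cfsg.IsBestOffenderOn p V B → ⁅V, B⁆ ≠ ⊥ → B = A) :
    Nat.card A = p ∧ Nat.card ↥(⁅V, A⁆) = p ∧
      ((V ⊓ Subgroup.centralizer (A : Set G))).relIndex V = p ∧
      ∃ a ∈ A, Subgroup.zpowers a = A := by
  have hp : p.Prime := Fact.out
  have hA1 : A ≠ ⊥ := by
    rintro rfl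
    exact hAV (Subgroup.commutator_bot_right V)
  obtain ⟨B, hB⟩ := ff_exists_good V H hf hS1 A hAH hA hA1
  obtain ⟨hrel, hBo, hmeas⟩ := ff_good_props V H hV hHV hf A hAH hA B hB
  have hBbot : B = ⊥ := by
    by_contra hne
    have := hmin B hB.1 hBo (ff_commutator_ne_bot V H hf B (hB.1.trans hAH) hne)
    rw [this, Subgroup.relIndex_self] at hrel
    exact hp.one_lt.ne hrel
  have hcardA : Nat.card A = p := by
    rw [← card_mul_relIndex_of_le hB.1, hrel, hBbot, Subgroup.card_bot, one_mul]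
  have hcard := ff_offender_card V H hV hHV hf hS1 _ A rfl hAH hA
  have hrelV : (V ⊓ Subgroup.centralizer (A : Set G)).relIndex V = p := by
    have h1 := card_mul_relIndex_of_le
      (inf_le_left : V ⊓ Subgroup.centralizer (A : Set G) ≤ V)
    rw [← hcard, hcardA, mul_comm p] at h1
    exact Nat.eq_of_mul_eq_mul_left Nat.card_pos h1
  obtain ⟨a, ha, hBa⟩ := hB.2.1
  rw [hBbot, bot_sup_eq] at hBa
  refine ⟨hcardA, ?_, hrelV, a, ha, hBa⟩
  have hVab : ∀ x ∈ V, ∀ y ∈ V, x * y = y * x := by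
    haveI := hV.1
    exact fun x hx y hy => setLike_mul_comm hx hy
  have h2 := card_commutator_zpowers V hVab a (hHV (hAH ha))
  rw [hBa, ← hcard, hcardA] at h2
  exact Nat.eq_of_mul_eq_mul_right Nat.card_pos h2

end Cfsg.Agent.Lib.helper3
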