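import Mathlib

set_option autoImplicit false
set_option linter.style.haveILetI false

namespace Cfsg.Agent.Lib.helper3

/-- Cayley–Hamilton for `SL₂`. -/
theorem sl2_sq_eq {K : Type*} [Field K] (g : Matrix.SpecialLinearGroup (Fin 2) K) :
    (g : Matrix (Fin 2) (Fin 2) K) * (g : Matrix (Fin 2) (Fin 2) K) =
      Matrix.trace (g : Matrix (Fin 2) (Fin 2) K) • (g : Matrix (Fin 2) (Fin 2) K) - 1 := by
  have hdet := g.det_coe
  rw [Matrix.det_fin_two] at hdet
  ext i j
  fin_cases i <;> fin_cases j <;>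
    simp only [Matrix.mul_apply, Fin.sum_univ_two, Matrix.trace, Matrix.diag, Matrix.sub_apply,
      Matrix.smul_apply, smul_eq_mul, Fin.zero_eta, Fin.mk_one, Fin.isValue,
      Matrix.one_apply_eq, Matrix.one_apply_ne, ne_eq, not_false_eq_true, zero_ne_one,
      one_ne_zero, sub_zero] <;> first | linear_combination -hdet | ring

/-- In characteristic `p`, a `p`-element of `SL₂(K)` has trace `2`. -/
theorem sl2_trace_of_ppow {K : Type*} [Field K] {p : ℕ} [Fact p.Prime] [CharP K p]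
    (g : Matrix.SpecialLinearGroup (Fin 2) K) (j : ℕ) (hg : g ^ (p ^ j) = 1) :
    Matrix.trace (g : Matrix (Fin 2) (Fin 2) K) = 2 := by
  have h1 : (g : Matrix (Fin 2) (Fin 2) K) ^ (p ^ j) = 1 := by
    rw [← Matrix.SpecialLinearGroup.coe_pow, hg, Matrix.SpecialLinearGroup.coe_one]
  have h2 : ((g : Matrix (Fin 2) (Fin 2) K) - 1) ^ (p ^ j) = 0 := by
    rw [sub_pow_char_pow_of_commute p j (Commute.one_right _), h1, one_pow, sub_self]
  have h3 : IsNilpotent ((g : Matrix (Fin 2) (Fin 2) K) - 1) := ⟨p ^ j, h2⟩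
  have h4 := (Matrix.isNilpotent_trace_of_isNilpotent h3).eq_zero
  rw [Matrix.trace_sub, Matrix.trace_one, Fintype.card_fin] at h4
  have h5 := sub_eq_zero.mp h4
  rw [h5]; norm_num

/-- In characteristic `p`, an element of `SL₂(K)` of trace `2` has order dividing `p`. -/
theorem sl2_pow_char_of_trace {K : Type*} [Field K] {p : ℕ} [Fact p.Prime] [CharP K p]
    (g : Matrix.SpecialLinearGroup (Fin 2) K)
    (hg : Matrix.trace (g : Matrix (Fin 2) (Fin 2) K) = 2) : g ^ p = 1 := by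
  have hp : p.Prime := Fact.out
  have h1 := sl2_sq_eq g
  rw [hg] at h1
  have h2 : ((g : Matrix (Fin 2) (Fin 2) K) - 1) ^ 2 = 0 := by
    rw [pow_two, sub_mul, mul_sub, mul_one, one_mul, h1]
    rw [two_smul]; abel
  apply Subtype.ext
  rw [Matrix.SpecialLinearGroup.coe_pow, Matrix.SpecialLinearGroup.coe_one]
  have h4 : ((g : Matrix (Fin 2) (Fin 2) K) - 1) ^ p = 0 := by
    obtain ⟨d, hd⟩ := Nat.exists_eq_add_of_le hp.two_le
    rw [hd, pow_add, h2, zero_mul]
  have h5 := sub_pow_char_of_commute p (Commute.one_right (g : Matrix (Fin 2) (Fin 2) K))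
  rw [h4, one_pow] at h5
  exact (sub_eq_zero.mp h5.symm)

/-- An element of `SL₂(K)` commuting with a nontrivial element of trace `2` has trace `±2`. -/
theorem sl2_trace_sq_of_comm {K : Type*} [Field K] (U G : Matrix.SpecialLinearGroup (Fin 2) K)
    (hU : Matrix.trace (U : Matrix (Fin 2) (Fin 2) K) = 2) (hU1 : U ≠ 1)
    (hc : G * U = U * G) : Matrix.trace (G : Matrix (Fin 2) (Fin 2) K) ^ 2 = 4 := by
  have hdU := U.det_coe
  have hdG := G.det_coe
  rw [Matrix.det_fin_two] at hdU hdG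
  have hcm := congrArg
    (fun x : Matrix.SpecialLinearGroup (Fin 2) K => (x : Matrix (Fin 2) (Fin 2) K)) hc
  simp only [Matrix.SpecialLinearGroup.coe_mul] at hcm
  have c00 := congrFun (congrFun hcm 0) 0
  have c01 := congrFun (congrFun hcm 0) 1
  have c10 := congrFun (congrFun hcm 1) 0
  simp only [Matrix.mul_apply, Fin.sum_univ_two, Fin.isValue] at c00 c01 c10
  simp only [Matrix.trace, Matrix.diag, Fin.sum_univ_two, Fin.isValue] at hU ⊢
  obtain ⟨a, ha⟩ : ∃ a : K, a = (G : Matrix (Fin 2) (Fin 2) K) 0 0 := ⟨_, rfl⟩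
  obtain ⟨b, hb⟩ : ∃ b : K, b = (G : Matrix (Fin 2) (Fin 2) K) 0 1 := ⟨_, rfl⟩
  obtain ⟨c, hc'⟩ : ∃ c : K, c = (G : Matrix (Fin 2) (Fin 2) K) 1 0 := ⟨_, rfl⟩
  obtain ⟨d, hd⟩ : ∃ d : K, d = (G : Matrix (Fin 2) (Fin 2) K) 1 1 := ⟨_, rfl⟩
  obtain ⟨u00, hu00⟩ : ∃ u : K, u = (U : Matrix (Fin 2) (Fin 2) K) 0 0 := ⟨_, rfl⟩
  obtain ⟨u01, hu01⟩ : ∃ u : K, u = (U : Matrix (Fin 2) (Fin 2) K) 0 1 := ⟨_, rfl⟩
  obtain ⟨u10, hu10⟩ : ∃ u : K, u = (U : Matrix (Fin 2) (Fin 2) K) 1 0 := ⟨_, rfl⟩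
  obtain ⟨u11, hu11⟩ : ∃ u : K, u = (U : Matrix (Fin 2) (Fin 2) K) 1 1 := ⟨_, rfl⟩
  simp only [← ha, ← hb, ← hc', ← hd, ← hu00, ← hu01, ← hu10, ← hu11] at hdG hdU c00 c01 c10 hU ⊢
  -- w = u00 - u11
  have hW : (u00 - u11) ^ 2 + 4 * u01 * u10 = 0 := by
    linear_combination (u00 + u11 + 2) * hU - 4 * hdU
  have h00 : b * u10 = c * u01 := by linear_combination c00
  have h01 : u01 * (a - d) = b * (u00 - u11) := by linear_combination c01
  have h10 : u10 * (a - d) = c * (u00 - u11) := by linear_combination -c10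
  have hD : (a - d) ^ 2 + 4 * b * c = 0 := by
    by_cases h1 : u01 = 0
    · by_cases h2 : u10 = 0
      · by_cases h3 : u00 - u11 = 0
        · exfalso
          apply hU1
          have h4 : u00 = u11 := sub_eq_zero.mp h3
          have h5 : (u00 - 1) ^ 2 = 0 := by
            rw [h1, h2, ← h4] at hdU
            rw [← h4] at hU
            linear_combination hdU - hU
          have h6 : u00 = 1 := sub_eq_zero.mp (pow_eq_zero_iff (by norm_num) |>.mp h5)
          apply Subtype.ext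
          rw [Matrix.SpecialLinearGroup.coe_one]
          ext i j
          fin_cases i <;> fin_cases j
          · simpa using hu00.symm.trans h6
          · simpa using hu01.symm.trans h1
          · simpa using hu10.symm.trans h2
          · simpa using hu11.symm.trans (h4.symm.trans h6)
        · have h4 : (u00 - u11) ^ 2 * ((a - d) ^ 2 + 4 * b * c) = 0 := by
            linear_combination (a - d) ^ 2 * hW - 4 * b * (u00 - u11) * h10
              - 4 * c * (u00 - u11) * h01 - 4 * (u01 * (a - d) - b * (u00 - u11)) * h10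
          exact (mul_eq_zero.mp h4).resolve_left (pow_ne_zero 2 h3)
      · have h4 : u10 ^ 2 * ((a - d) ^ 2 + 4 * b * c) = 0 := by
          linear_combination c ^ 2 * hW + (u10 * (a - d) + c * (u00 - u11)) * h10
            + 4 * c * u10 * h00
        exact (mul_eq_zero.mp h4).resolve_left (pow_ne_zero 2 h2)
    · have h4 : u01 ^ 2 * ((a - d) ^ 2 + 4 * b * c) = 0 := by
        linear_combination b ^ 2 * hW + (u01 * (a - d) + b * (u00 - u11)) * h01
          - 4 * b * u01 * h00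
      exact (mul_eq_zero.mp h4).resolve_left (pow_ne_zero 2 h1)
  linear_combination hD + 4 * hdG

/-- Two elements of `SL₂(K)` of trace `2` whose product has trace `2` commute. -/
theorem sl2_comm_of_trace {K : Type*} [Field K] (S U : Matrix.SpecialLinearGroup (Fin 2) K)
    (hS : Matrix.trace (S : Matrix (Fin 2) (Fin 2) K) = 2)
    (hU : Matrix.trace (U : Matrix (Fin 2) (Fin 2) K) = 2)
    (hSU : Matrix.trace ((S * U : Matrix.SpecialLinearGroup (Fin 2) K) :
      Matrix (Fin 2) (Fin 2) K) = 2) : S * U = U * S := by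
  have hdS := S.det_coe
  have hdU := U.det_coe
  rw [Matrix.det_fin_two] at hdS hdU
  rw [Matrix.SpecialLinearGroup.coe_mul] at hSU
  simp only [Matrix.trace, Matrix.diag, Fin.sum_univ_two, Fin.isValue, Matrix.mul_apply] at hS hU hSU
  obtain ⟨s00, hs00⟩ : ∃ s : K, s = (S : Matrix (Fin 2) (Fin 2) K) 0 0 := ⟨_, rfl⟩
  obtain ⟨s01, hs01⟩ : ∃ s : K, s = (S : Matrix (Fin 2) (Fin 2) K) 0 1 := ⟨_, rfl⟩
  obtain ⟨s10, hs10⟩ : ∃ s : K, s = (S : Matrix (Fin 2) (Fin 2) K) 1 0 := ⟨_, rfl⟩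
  obtain ⟨s11, hs11⟩ : ∃ s : K, s = (S : Matrix (Fin 2) (Fin 2) K) 1 1 := ⟨_, rfl⟩
  obtain ⟨u00, hu00⟩ : ∃ u : K, u = (U : Matrix (Fin 2) (Fin 2) K) 0 0 := ⟨_, rfl⟩
  obtain ⟨u01, hu01⟩ : ∃ u : K, u = (U : Matrix (Fin 2) (Fin 2) K) 0 1 := ⟨_, rfl⟩
  obtain ⟨u10, hu10⟩ : ∃ u : K, u = (U : Matrix (Fin 2) (Fin 2) K) 1 0 := ⟨_, rfl⟩
  obtain ⟨u11, hu11⟩ : ∃ u : K, u = (U : Matrix (Fin 2) (Fin 2) K) 1 1 := ⟨_, rfl⟩
  simp only [← hs00, ← hs01, ← hs10, ← hs11, ← hu00, ← hu01, ← hu10, ← hu11] at hdS hdU hSU hS hU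
  -- e = S - 1, f = U - 1
  obtain ⟨e00, he00⟩ : ∃ e : K, e = s00 - 1 := ⟨_, rfl⟩
  obtain ⟨f00, hf00⟩ : ∃ f : K, f = u00 - 1 := ⟨_, rfl⟩
  have hs00' : s00 = 1 + e00 := by rw [he00]; ring
  have hs11' : s11 = 1 - e00 := by rw [he00]; linear_combination hS
  have hu00' : u00 = 1 + f00 := by rw [hf00]; ring
  have hu11' : u11 = 1 - f00 := by rw [hf00]; linear_combination hU
  rw [hs00', hs11'] at hdS hSU
  rw [hu00', hu11'] at hdU hSU
  have hA : e00 ^ 2 + s01 * s10 = 0 := by linear_combination -hdS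
  have hB : f00 ^ 2 + u01 * u10 = 0 := by linear_combination -hdU
  have hC : 2 * e00 * f00 + s01 * u10 + s10 * u01 = 0 := by linear_combination hSU
  have hX : s01 * u10 - s10 * u01 = 0 := by
    have h : (s01 * u10 - s10 * u01) ^ 2 = 0 := by
      linear_combination (s01 * u10 + s10 * u01 - 2 * e00 * f00) * hC - 4 * u01 * u10 * hA
        + 4 * e00 ^ 2 * hB
    exact pow_eq_zero_iff (by norm_num) |>.mp h
  have hY : e00 * u01 - s01 * f00 = 0 := by
    have h : (e00 * u01 - s01 * f00) ^ 2 = 0 := by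
      linear_combination u01 ^ 2 * hA + s01 ^ 2 * hB - s01 * u01 * hC
    exact pow_eq_zero_iff (by norm_num) |>.mp h
  have hZ : s10 * f00 - e00 * u10 = 0 := by
    have h : (s10 * f00 - e00 * u10) ^ 2 = 0 := by
      linear_combination u10 ^ 2 * hA + s10 ^ 2 * hB - s10 * u10 * hC
    exact pow_eq_zero_iff (by norm_num) |>.mp h
  apply Subtype.ext
  rw [Matrix.SpecialLinearGroup.coe_mul, Matrix.SpecialLinearGroup.coe_mul]
  ext i j
  fin_cases i <;> fin_cases j <;>
    simp only [Matrix.mul_apply, Fin.sum_univ_two, Fin.zero_eta, Fin.mk_one, Fin.isValue]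
  · rw [← hs00, ← hs01, ← hu00, ← hu10, ← hu01, ← hs10]
    linear_combination hX
  · rw [← hs00, ← hs01, ← hu01, ← hu11, ← hu00, ← hs11, hs00', hs11', hu00', hu11']
    linear_combination 2 * hY
  · rw [← hs10, ← hs11, ← hu00, ← hu10, ← hs00, ← hu11, hs00', hs11', hu00', hu11']
    linear_combination 2 * hZ
  · rw [← hs10, ← hs11, ← hu01, ← hu11, ← hu10, ← hs01]
    linear_combination -hX

end Cfsg.Agent.Lib.helper3
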