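import Mathlib
import Cfsg.Agent.Lib.helper3.SL2Trace

set_option autoImplicit false
set_option linter.style.haveILetI false

namespace Cfsg.Agent.Lib.helper3

/-- For trace-zero `2 × 2` matrices, the anticommutator is scalar. -/
theorem mat2_anticomm {K : Type*} [Field K] (E F : Matrix (Fin 2) (Fin 2) K)
    (hE : Matrix.trace E = 0) (hF : Matrix.trace F = 0) :
    E * F + F * E = Matrix.trace (E * F) • (1 : Matrix (Fin 2) (Fin 2) K) := by
  simp only [Matrix.trace, Matrix.diag, Fin.sum_univ_two, Fin.isValue] at hE hF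
  ext i j
  fin_cases i <;> fin_cases j <;>
    simp only [Matrix.mul_apply, Fin.sum_univ_two, Matrix.trace, Matrix.diag, Matrix.add_apply,
      Matrix.smul_apply, smul_eq_mul, Fin.zero_eta, Fin.mk_one, Fin.isValue,
      Matrix.one_apply_eq, Matrix.one_apply_ne, ne_eq, not_false_eq_true, zero_ne_one,
      one_ne_zero, mul_zero, mul_one]
  · linear_combination F 0 0 * hE - E 1 1 * hF
  · linear_combination F 0 1 * hE + E 0 1 * hF
  · linear_combination F 1 0 * hE + E 1 0 * hF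
  · linear_combination -(F 0 0 * hE - E 1 1 * hF)

/-- In characteristic `3`, two elements of `SL₂(K)` of trace `2` whose product has trace `0` are
simultaneously conjugate to the standard generators of `SL₂(𝔽₃)`. -/
theorem sl2_char3_conj {K : Type*} [Field K] [CharP K 3]
    (X Y : Matrix.SpecialLinearGroup (Fin 2) K)
    (hX : Matrix.trace (X : Matrix (Fin 2) (Fin 2) K) = 2)
    (hY : Matrix.trace (Y : Matrix (Fin 2) (Fin 2) K) = 2)
    (hXY : Matrix.trace ((X : Matrix (Fin 2) (Fin 2) K) * (Y : Matrix (Fin 2) (Fin 2) K)) = 0) :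
    ∃ P P' : Matrix (Fin 2) (Fin 2) K, P * P' = 1 ∧ P' * P = 1 ∧
      (X : Matrix (Fin 2) (Fin 2) K) = P * !![1, 1; 0, 1] * P' ∧
      (Y : Matrix (Fin 2) (Fin 2) K) = P * !![1, 0; 1, 1] * P' := by
  have h3 : (3 : K) = 0 := by
    have : ((3 : ℕ) : K) = 0 := CharP.cast_eq_zero K 3
    exact_mod_cast this
  obtain ⟨E, hE⟩ : ∃ E : Matrix (Fin 2) (Fin 2) K, E = (X : Matrix (Fin 2) (Fin 2) K) - 1 :=
    ⟨_, rfl⟩
  obtain ⟨F, hF⟩ : ∃ F : Matrix (Fin 2) (Fin 2) K, F = (Y : Matrix (Fin 2) (Fin 2) K) - 1 :=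
    ⟨_, rfl⟩
  have hXE : (X : Matrix (Fin 2) (Fin 2) K) = 1 + E := by rw [hE]; abel
  have hYF : (Y : Matrix (Fin 2) (Fin 2) K) = 1 + F := by rw [hF]; abel
  have hE2 : E * E = 0 := by
    have h1 := sl2_sq_eq X
    rw [hX] at h1
    rw [hE, sub_mul, mul_sub, mul_one, one_mul, h1, two_smul]; abel
  have hF2 : F * F = 0 := by
    have h1 := sl2_sq_eq Y
    rw [hY] at h1
    rw [hF, sub_mul, mul_sub, mul_one, one_mul, h1, two_smul]; abel
  have htE : Matrix.trace E = 0 := by
    rw [hE, Matrix.trace_sub, hX, Matrix.trace_one, Fintype.card_fin]; norm_num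
  have htF : Matrix.trace F = 0 := by
    rw [hF, Matrix.trace_sub, hY, Matrix.trace_one, Fintype.card_fin]; norm_num
  have htEF : Matrix.trace (E * F) = 1 := by
    have e1 : E * F = (X : Matrix (Fin 2) (Fin 2) K) * (Y : Matrix (Fin 2) (Fin 2) K) -
        (X : Matrix (Fin 2) (Fin 2) K) - (Y : Matrix (Fin 2) (Fin 2) K) + 1 := by
      rw [hE, hF, sub_mul, mul_sub, mul_sub, mul_one, one_mul, mul_one]; abel
    rw [e1, Matrix.trace_add, Matrix.trace_sub, Matrix.trace_sub, hXY, hX, hY, Matrix.trace_one,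
      Fintype.card_fin]
    push_cast
    linear_combination -h3
  have hEF : E * F + F * E = 1 := by
    rw [mat2_anticomm E F htE htF, htEF, one_smul]
  have hEFE : E * F * E = E := by
    have : E * F = 1 - F * E := by rw [← hEF]; abel
    rw [this, sub_mul, one_mul, mul_assoc, hE2, mul_zero, sub_zero]
  have hFEF : F * E * F = F := by
    have : F * E = 1 - E * F := by rw [← hEF]; abel
    rw [this, sub_mul, one_mul, mul_assoc, hF2, mul_zero, sub_zero]
  have hEFne : E * F ≠ 0 := by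
    intro h
    have h1 : F * E = 1 := by rw [h, zero_add] at hEF; exact hEF
    have h2 : E = 0 := by
      calc E = E * (F * E) := by rw [h1, mul_one]
        _ = (E * F) * E := by rw [mul_assoc]
        _ = 0 := by rw [h, zero_mul]
    rw [h2, mul_zero] at h1
    exact zero_ne_one h1
  obtain ⟨w, hw⟩ : ∃ w : Fin 2 → K, (E * F).mulVec w ≠ 0 := by
    by_contra hcon
    push Not at hcon
    apply hEFne
    ext i j
    have := congrFun (hcon (Pi.single j 1)) i
    simpa using this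
  obtain ⟨v₁, hv₁⟩ : ∃ v₁ : Fin 2 → K, v₁ = (E * F).mulVec w := ⟨_, rfl⟩
  obtain ⟨v₂, hv₂⟩ : ∃ v₂ : Fin 2 → K, v₂ = F.mulVec w := ⟨_, rfl⟩
  have hEv₁ : E.mulVec v₁ = 0 := by
    rw [hv₁, Matrix.mulVec_mulVec, ← mul_assoc, hE2, zero_mul, Matrix.zero_mulVec]
  have hEv₂ : E.mulVec v₂ = v₁ := by
    rw [hv₂, hv₁, Matrix.mulVec_mulVec]
  have hFv₁ : F.mulVec v₁ = v₂ := by
    rw [hv₁, hv₂, Matrix.mulVec_mulVec, ← mul_assoc, hFEF]
  have hFv₂ : F.mulVec v₂ = 0 := by
    rw [hv₂, Matrix.mulVec_mulVec, hF2, Matrix.zero_mulVec]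
  have hv₁ne : v₁ ≠ 0 := by rw [hv₁]; exact hw
  have e1 := congrFun hEv₁ 0
  have e2 := congrFun hEv₁ 1
  have e3 := congrFun hEv₂ 0
  have e4 := congrFun hEv₂ 1
  have f1 := congrFun hFv₁ 0
  have f2 := congrFun hFv₁ 1
  have f3 := congrFun hFv₂ 0
  have f4 := congrFun hFv₂ 1
  simp only [Matrix.mulVec, dotProduct, Fin.sum_univ_two, Pi.zero_apply, Fin.isValue]
    at e1 e2 e3 e4 f1 f2 f3 f4
  have hdet : v₁ 0 * v₂ 1 - v₂ 0 * v₁ 1 ≠ 0 := by
    intro hd
    have h10 : v₁ 0 * v₁ 0 = 0 := by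
      linear_combination (-(v₁ 0)) * e3 + E 0 1 * hd + v₂ 0 * e1
    have h11 : v₁ 1 * v₁ 1 = 0 := by
      linear_combination (-(v₁ 1)) * e4 - E 1 0 * hd + v₂ 1 * e2
    apply hv₁ne
    funext i
    fin_cases i
    · exact mul_self_eq_zero.mp h10
    · exact mul_self_eq_zero.mp h11
  obtain ⟨P, hP⟩ : ∃ P : Matrix (Fin 2) (Fin 2) K, P = !![v₁ 0, v₂ 0; v₁ 1, v₂ 1] := ⟨_, rfl⟩
  have hPdet : IsUnit P.det := by
    rw [hP, Matrix.det_fin_two_of]
    exact isUnit_iff_ne_zero.mpr hdet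
  have hPP' : P * P⁻¹ = 1 := Matrix.mul_nonsing_inv P hPdet
  have hP'P : P⁻¹ * P = 1 := Matrix.nonsing_inv_mul P hPdet
  have hXP : (X : Matrix (Fin 2) (Fin 2) K) * P = P * !![1, 1; 0, 1] := by
    rw [hXE, hP]
    ext i j
    fin_cases i <;> fin_cases j <;>
      simp [Matrix.mul_apply, Fin.sum_univ_two, Matrix.add_apply]
    · linear_combination e1
    · linear_combination e3
    · linear_combination e2
    · linear_combination e4
  have hYP : (Y : Matrix (Fin 2) (Fin 2) K) * P = P * !![1, 0; 1, 1] := by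
    rw [hYF, hP]
    ext i j
    fin_cases i <;> fin_cases j <;>
      simp [Matrix.mul_apply, Fin.sum_univ_two, Matrix.add_apply]
    · linear_combination f1
    · linear_combination f3
    · linear_combination f2
    · linear_combination f4
  refine ⟨P, P⁻¹, hPP', hP'P, ?_, ?_⟩
  · rw [← hXP, mul_assoc, hPP', mul_one]
  · rw [← hYP, mul_assoc, hPP', mul_one]

/-- Standard upper unitriangular generator of `SL₂(𝔽₃)`. -/
def sl23U : Matrix.SpecialLinearGroup (Fin 2) (ZMod 3) := ⟨!![1, 1; 0, 1], by decide⟩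

/-- Standard lower unitriangular generator of `SL₂(𝔽₃)`. -/
def sl23L : Matrix.SpecialLinearGroup (Fin 2) (ZMod 3) := ⟨!![1, 0; 1, 1], by decide⟩

set_option maxRecDepth 100000 in
theorem sl23_words : ∀ M : Matrix.SpecialLinearGroup (Fin 2) (ZMod 3),
    ∃ i j k l : Fin 3,
      M = sl23U ^ (i : ℕ) * sl23L ^ (j : ℕ) * sl23U ^ (k : ℕ) * sl23L ^ (l : ℕ) := by
  decide

theorem sl23_closure :
    Subgroup.closure ({sl23U, sl23L} : Set (Matrix.SpecialLinearGroup (Fin 2) (ZMod 3))) = ⊤ := by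
  rw [eq_top_iff]
  intro M _
  obtain ⟨i, j, k, l, rfl⟩ := sl23_words M
  have hU : sl23U ∈ Subgroup.closure
      ({sl23U, sl23L} : Set (Matrix.SpecialLinearGroup (Fin 2) (ZMod 3))) :=
    Subgroup.subset_closure (by simp)
  have hL : sl23L ∈ Subgroup.closure
      ({sl23U, sl23L} : Set (Matrix.SpecialLinearGroup (Fin 2) (ZMod 3))) :=
    Subgroup.subset_closure (by simp)
  exact mul_mem (mul_mem (mul_mem (pow_mem hU _) (pow_mem hL _)) (pow_mem hU _)) (pow_mem hL _)

/-- Conjugation by an invertible matrix as an endomorphism of `SL₂(K)`. -/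
def sl2ConjHom {K : Type*} [Field K] (P P' : Matrix (Fin 2) (Fin 2) K) (h : P * P' = 1)
    (h' : P' * P = 1) :
    Matrix.SpecialLinearGroup (Fin 2) K →* Matrix.SpecialLinearGroup (Fin 2) K where
  toFun M := ⟨P * (M : Matrix (Fin 2) (Fin 2) K) * P', by
    rw [Matrix.det_mul, Matrix.det_mul, M.det_coe, mul_one, ← Matrix.det_mul, h,
      Matrix.det_one]⟩
  map_one' := by
    apply Subtype.ext
    show P * ((1 : Matrix.SpecialLinearGroup (Fin 2) K) : Matrix (Fin 2) (Fin 2) K) * P' = 1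
    rw [Matrix.SpecialLinearGroup.coe_one, mul_one, h]
  map_mul' := fun A B => by
    apply Subtype.ext
    show P * ((A * B : Matrix.SpecialLinearGroup (Fin 2) K) : Matrix (Fin 2) (Fin 2) K) * P' =
      (P * (A : Matrix (Fin 2) (Fin 2) K) * P') * (P * (B : Matrix (Fin 2) (Fin 2) K) * P')
    rw [Matrix.SpecialLinearGroup.coe_mul]
    calc P * ((A : Matrix (Fin 2) (Fin 2) K) * (B : Matrix (Fin 2) (Fin 2) K)) * P'
        = P * (A : Matrix (Fin 2) (Fin 2) K) * 1 * (B : Matrix (Fin 2) (Fin 2) K) * P' := by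
          rw [mul_one]; simp only [mul_assoc]
      _ = P * (A : Matrix (Fin 2) (Fin 2) K) * (P' * P) * (B : Matrix (Fin 2) (Fin 2) K) * P' := by
          rw [h']
      _ = (P * (A : Matrix (Fin 2) (Fin 2) K) * P') *
            (P * (B : Matrix (Fin 2) (Fin 2) K) * P') := by
          simp only [mul_assoc]

theorem sl2ConjHom_coe {K : Type*} [Field K] (P P' : Matrix (Fin 2) (Fin 2) K) (h : P * P' = 1)
    (h' : P' * P = 1) (M : Matrix.SpecialLinearGroup (Fin 2) K) :
    ((sl2ConjHom P P' h h' M : Matrix.SpecialLinearGroup (Fin 2) K) :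
      Matrix (Fin 2) (Fin 2) K) = P * (M : Matrix (Fin 2) (Fin 2) K) * P' := rfl

/-- In characteristic `3`, two elements of `SL₂(K)` of trace `2` whose product has trace `0`
generate a copy of `SL₂(𝔽₃)`. -/
theorem sl23_embed {K : Type*} [Field K] [CharP K 3]
    (X Y : Matrix.SpecialLinearGroup (Fin 2) K)
    (hX : Matrix.trace (X : Matrix (Fin 2) (Fin 2) K) = 2)
    (hY : Matrix.trace (Y : Matrix (Fin 2) (Fin 2) K) = 2)
    (hXY : Matrix.trace ((X : Matrix (Fin 2) (Fin 2) K) * (Y : Matrix (Fin 2) (Fin 2) K)) = 0) :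
    ∃ ψ : Matrix.SpecialLinearGroup (Fin 2) (ZMod 3) →* Matrix.SpecialLinearGroup (Fin 2) K,
      Function.Injective ψ ∧ ψ sl23U = X ∧ ψ sl23L = Y := by
  obtain ⟨P, P', h, h', hXe, hYe⟩ := sl2_char3_conj X Y hX hY hXY
  haveI : Fact (Nat.Prime 3) := ⟨by norm_num⟩
  obtain ⟨c, hc⟩ : ∃ c : ZMod 3 →+* K, c = ZMod.castHom (dvd_refl 3) K := ⟨_, rfl⟩
  have hcinj : Function.Injective c := RingHom.injective c
  refine ⟨(sl2ConjHom P P' h h').comp (Matrix.SpecialLinearGroup.map c), ?_, ?_, ?_⟩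
  · intro A B hAB
    have h1 : P * (c.mapMatrix (A : Matrix (Fin 2) (Fin 2) (ZMod 3))) * P' =
        P * (c.mapMatrix (B : Matrix (Fin 2) (Fin 2) (ZMod 3))) * P' :=
      congrArg Subtype.val hAB
    have h2 : ∀ M : Matrix (Fin 2) (Fin 2) K, P' * (P * M * P') * P = M := by
      intro M
      calc P' * (P * M * P') * P = (P' * P) * M * (P' * P) := by simp only [mul_assoc]
        _ = M := by rw [h', one_mul, mul_one]
    have h3 : c.mapMatrix (A : Matrix (Fin 2) (Fin 2) (ZMod 3)) =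
        c.mapMatrix (B : Matrix (Fin 2) (Fin 2) (ZMod 3)) := by
      rw [← h2 (c.mapMatrix (A : Matrix (Fin 2) (Fin 2) (ZMod 3))), h1, h2]
    apply Subtype.ext
    ext i j
    have h4 := congrFun (congrFun h3 i) j
    simp only [RingHom.mapMatrix_apply, Matrix.map_apply] at h4
    exact hcinj h4
  · apply Subtype.ext
    show P * (c.mapMatrix (sl23U : Matrix (Fin 2) (Fin 2) (ZMod 3))) * P' = X
    rw [hXe]
    congr 2
    ext i j
    fin_cases i <;> fin_cases j <;> simp [sl23U, RingHom.mapMatrix_apply]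
  · apply Subtype.ext
    show P * (c.mapMatrix (sl23L : Matrix (Fin 2) (Fin 2) (ZMod 3))) * P' = Y
    rw [hYe]
    congr 2
    ext i j
    fin_cases i <;> fin_cases j <;> simp [sl23L, RingHom.mapMatrix_apply]

/-- A homomorphism to `SL₂` in characteristic `3` with two elements whose images have trace `2`
and product of trace `0` gives a section isomorphic to `SL₂(𝔽₃)`. -/
theorem sl23_section_of_hom {G : Type*} [Group G] {K : Type*} [Field K] [CharP K 3]
    (H : Subgroup G) (φ : ↥H →* Matrix.SpecialLinearGroup (Fin 2) K) (x y : ↥H)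
    (hx : Matrix.trace (φ x : Matrix (Fin 2) (Fin 2) K) = 2)
    (hy : Matrix.trace (φ y : Matrix (Fin 2) (Fin 2) K) = 2)
    (hxy : Matrix.trace ((φ x : Matrix (Fin 2) (Fin 2) K) *
      (φ y : Matrix (Fin 2) (Fin 2) K)) = 0) :
    ∃ (K₁ L : Subgroup G) (_ : (L.subgroupOf K₁).Normal), K₁ ≤ H ∧
      Nonempty (↥K₁ ⧸ L.subgroupOf K₁ ≃* Matrix.SpecialLinearGroup (Fin 2) (ZMod 3)) := by
  obtain ⟨ψ, hψinj, hψU, hψL⟩ := sl23_embed (φ x) (φ y) hx hy hxy
  have hle : Subgroup.closure ({(x : G), (y : G)} : Set G) ≤ H := by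
    rw [Subgroup.closure_le]
    rintro z (rfl | hz)
    · exact x.2
    · rw [Set.mem_singleton_iff] at hz; subst hz; exact y.2
  obtain ⟨f, hf⟩ : ∃ f : ↥(Subgroup.closure ({(x : G), (y : G)} : Set G)) →*
      Matrix.SpecialLinearGroup (Fin 2) K, f = φ.comp (Subgroup.inclusion hle) := ⟨_, rfl⟩
  have hxK : (x : G) ∈ Subgroup.closure ({(x : G), (y : G)} : Set G) :=
    Subgroup.subset_closure (by simp)
  have hyK : (y : G) ∈ Subgroup.closure ({(x : G), (y : G)} : Set G) :=
    Subgroup.subset_closure (by simp)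
  have hfx : f ⟨x, hxK⟩ = φ x := by rw [hf]; rfl
  have hfy : f ⟨y, hyK⟩ = φ y := by rw [hf]; rfl
  have htop : Subgroup.closure ({⟨x, hxK⟩, ⟨y, hyK⟩} :
      Set ↥(Subgroup.closure ({(x : G), (y : G)} : Set G))) = ⊤ := by
    have h1 := Subgroup.closure_closure_coe_preimage (k := ({(x : G), (y : G)} : Set G))
    have h2 : (Subtype.val ⁻¹' ({(x : G), (y : G)} : Set G) :
        Set ↥(Subgroup.closure ({(x : G), (y : G)} : Set G))) = {⟨x, hxK⟩, ⟨y, hyK⟩} := by
      ext z
      simp only [Set.mem_preimage, Set.mem_insert_iff, Set.mem_singleton_iff]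
      rw [Subtype.ext_iff, Subtype.ext_iff]
    rw [← h2]; exact h1
  have hrange : f.range = ψ.range := by
    rw [MonoidHom.range_eq_map, ← htop, MonoidHom.map_closure, Set.image_pair, hfx, hfy,
      MonoidHom.range_eq_map, ← sl23_closure, MonoidHom.map_closure, Set.image_pair, hψU, hψL]
  have key : ∀ (N : Subgroup ↥(Subgroup.closure ({(x : G), (y : G)} : Set G))), N = f.ker →
      ∃ (_ : N.Normal), Nonempty (↥(Subgroup.closure ({(x : G), (y : G)} : Set G)) ⧸ N ≃*
        Matrix.SpecialLinearGroup (Fin 2) (ZMod 3)) := by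
    rintro N rfl
    exact ⟨inferInstance, ⟨(QuotientGroup.quotientKerEquivRange f).trans
      ((MulEquiv.subgroupCongr hrange).trans (MonoidHom.ofInjective hψinj).symm)⟩⟩
  obtain ⟨hN, e⟩ := key ((f.ker.map (Subgroup.closure ({(x : G), (y : G)} : Set G)).subtype).subgroupOf
    (Subgroup.closure ({(x : G), (y : G)} : Set G)))
    (Subgroup.comap_map_eq_self_of_injective (Subgroup.subtype_injective _) f.ker)
  exact ⟨_, _, hN, hle, e⟩

end Cfsg.Agent.Lib.helper3
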