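import Mathlib
import Cfsg.Prelude.Def_Local
import Cfsg.Agent.Lib.helper3.SL2Trace
import Cfsg.Agent.Lib.helper3.SL2Odd
import Cfsg.Agent.Lib.helper3.PLocal
import Cfsg.Agent.Lib.helper16.PSolv
import Cfsg.Agent.Lib.helper9.PPrimeCore

set_option autoImplicit false
set_option linter.style.haveILetI false

namespace Cfsg.Agent.Lib.helper3

universe u

section

variable {K : Type*} [Field K] {p : ℕ} [Fact p.Prime] [CharP K p]
  {Γ : Type u} [Group Γ] [Finite Γ] (ι : Γ →* Matrix.SpecialLinearGroup (Fin 2) K)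

theorem sl2g_trace_of_ppow (g : Γ) (j : ℕ) (hg : g ^ (p ^ j) = 1) :
    Matrix.trace (ι g : Matrix (Fin 2) (Fin 2) K) = 2 :=
  sl2_trace_of_ppow (ι g) j (by rw [← map_pow, hg, map_one])

/-- An element of order divisible by `p` has trace `±2`. -/
theorem sl2g_trace_sq_of_dvd (hι : Function.Injective ι) (g : Γ) (hg : p ∣ orderOf g) :
    Matrix.trace (ι g : Matrix (Fin 2) (Fin 2) K) ^ 2 = 4 := by
  have hp : p.Prime := Fact.out
  obtain ⟨u, hu⟩ : ∃ u : Γ, u = g ^ (orderOf g / p) := ⟨_, rfl⟩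
  have hou : orderOf u = p := by
    rw [hu]; exact orderOf_pow_orderOf_div (orderOf_pos g).ne' hg
  have hup : u ^ (p ^ 1) = 1 := by rw [pow_one, ← hou]; exact pow_orderOf_eq_one u
  have hu1 : u ≠ 1 := by
    intro h; rw [h, orderOf_one] at hou; exact hp.one_lt.ne hou
  have htr := sl2g_trace_of_ppow ι u 1 hup
  have hne : ι u ≠ 1 := fun h => hu1 (hι (by rw [h, map_one]))
  have hc : ι g * ι u = ι u * ι g := by
    rw [← map_mul, ← map_mul, hu, ← pow_succ', ← pow_succ]
  exact sl2_trace_sq_of_comm (ι u) (ι g) htr hne hc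

/-- Trace constraints for the commutator of an element of order `p` with an element of a normal
`p'`-subgroup. -/
theorem sl2g_comm_trace (hι : Function.Injective ι) (hp2 : p ≠ 2) (N : Subgroup Γ)
    [hN : N.Normal] (hNc : (Nat.card N).Coprime p) (x : Γ) (hx : x ^ p = 1) (hx1 : x ≠ 1)
    (a : Γ) (ha : a ∈ N) :
    (2 * Matrix.trace (ι (x * (a * x⁻¹ * a⁻¹)) : Matrix (Fin 2) (Fin 2) K) - 2) ^ 2 = 4 ∧
    (3 * Matrix.trace (ι (x * (a * x⁻¹ * a⁻¹)) : Matrix (Fin 2) (Fin 2) K) - 4) ^ 2 = 4 := by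
  have hp : p.Prime := Fact.out
  obtain ⟨y, hy⟩ : ∃ y : Γ, y = a * x⁻¹ * a⁻¹ := ⟨_, rfl⟩
  rw [← hy]
  have hyp : y ^ p = 1 := by rw [hy, conj_pow, inv_pow, hx]; group
  have hX := sl2g_trace_of_ppow ι x 1 (by rw [pow_one]; exact hx)
  have hY := sl2g_trace_of_ppow ι y 1 (by rw [pow_one]; exact hyp)
  have hYY := sl2_sq_eq (ι y)
  rw [hY] at hYY
  obtain ⟨π, hπ⟩ : ∃ π : Γ →* Γ ⧸ N, π = QuotientGroup.mk' N := ⟨_, rfl⟩
  have hπker : ∀ z : Γ, π z = 1 ↔ z ∈ N := by
    intro z; rw [hπ]; exact QuotientGroup.eq_one_iff z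
  have hπy : π y = (π x)⁻¹ := by
    rw [hy, map_mul, map_mul, map_inv, map_inv, (hπker a).mpr ha]; group
  have hπx1 : π x ≠ 1 := by
    intro h
    have hxN := (hπker x).mp h
    have h1 : orderOf x ∣ p := orderOf_dvd_of_pow_eq_one hx
    have h2 : orderOf x ∣ Nat.card N := N.orderOf_dvd_natCard hxN
    have h3 : orderOf x ∣ Nat.gcd (Nat.card N) p := Nat.dvd_gcd h2 h1
    rw [hNc.gcd_eq_one, Nat.dvd_one] at h3
    exact hx1 (orderOf_eq_one_iff.mp h3)
  have hox : orderOf (π x) = p := by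
    have h1 : orderOf (π x) ∣ p := orderOf_dvd_of_pow_eq_one (by rw [← map_pow, hx, map_one])
    rcases (Nat.dvd_prime hp).mp h1 with h | h
    · exact absurd (orderOf_eq_one_iff.mp h) hπx1
    · exact h
  -- g₂
  have hg2 : p ∣ orderOf (x * y * y) := by
    have h1 := orderOf_map_dvd π (x * y * y)
    have h2 : π (x * y * y) = (π x)⁻¹ := by
      rw [map_mul, map_mul, hπy]; group
    rw [h2, orderOf_inv, hox] at h1
    exact h1
  have hg3 : p ∣ orderOf (x * y * y * y) := by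
    have h1 := orderOf_map_dvd π (x * y * y * y)
    have h2 : π (x * y * y * y) = ((π x)⁻¹) ^ 2 := by
      rw [map_mul, map_mul, map_mul, hπy]; group
    have h3 : orderOf (((π x)⁻¹) ^ 2) = p := by
      rw [Nat.Coprime.orderOf_pow, orderOf_inv, hox]
      rw [orderOf_inv, hox]
      exact (Nat.coprime_primes hp Nat.prime_two).mpr hp2
    rw [h2, h3] at h1
    exact h1
  have ht2 := sl2g_trace_sq_of_dvd ι hι _ hg2
  have ht3 := sl2g_trace_sq_of_dvd ι hι _ hg3
  have e2 : ((ι (x * y * y) : Matrix.SpecialLinearGroup (Fin 2) K) : Matrix (Fin 2) (Fin 2) K) =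
      (2 : K) • ((ι (x * y) : Matrix.SpecialLinearGroup (Fin 2) K) : Matrix (Fin 2) (Fin 2) K) -
        (ι x : Matrix (Fin 2) (Fin 2) K) := by
    rw [map_mul (f := ι) (x * y) y, map_mul (f := ι) x y, Matrix.SpecialLinearGroup.coe_mul,
      Matrix.SpecialLinearGroup.coe_mul, mul_assoc, hYY,
      mul_sub, mul_one, Matrix.mul_smul]
  have e3 : ((ι (x * y * y * y) : Matrix.SpecialLinearGroup (Fin 2) K) :
      Matrix (Fin 2) (Fin 2) K) =
      (3 : K) • ((ι (x * y) : Matrix.SpecialLinearGroup (Fin 2) K) : Matrix (Fin 2) (Fin 2) K) -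
        (2 : K) • (ι x : Matrix (Fin 2) (Fin 2) K) := by
    have h1 : ((ι (x * y * y * y) : Matrix.SpecialLinearGroup (Fin 2) K) :
        Matrix (Fin 2) (Fin 2) K) =
        ((ι (x * y * y) : Matrix.SpecialLinearGroup (Fin 2) K) : Matrix (Fin 2) (Fin 2) K) *
          (ι y : Matrix (Fin 2) (Fin 2) K) := by
      rw [map_mul (f := ι) (x * y * y) y, Matrix.SpecialLinearGroup.coe_mul]
    rw [h1, e2, sub_mul, Matrix.smul_mul]
    have h2 : ((ι (x * y) : Matrix.SpecialLinearGroup (Fin 2) K) : Matrix (Fin 2) (Fin 2) K) *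
        (ι y : Matrix (Fin 2) (Fin 2) K) =
        (2 : K) • ((ι (x * y) : Matrix.SpecialLinearGroup (Fin 2) K) :
          Matrix (Fin 2) (Fin 2) K) - (ι x : Matrix (Fin 2) (Fin 2) K) := by
      rw [← e2, map_mul (f := ι) (x * y) y, Matrix.SpecialLinearGroup.coe_mul]
    have h3 : (ι x : Matrix (Fin 2) (Fin 2) K) * (ι y : Matrix (Fin 2) (Fin 2) K) =
        ((ι (x * y) : Matrix.SpecialLinearGroup (Fin 2) K) : Matrix (Fin 2) (Fin 2) K) := by
      rw [map_mul, Matrix.SpecialLinearGroup.coe_mul]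
    rw [h2, h3, smul_sub, smul_smul]
    have h4 : (2 : K) * 2 = 4 := by norm_num
    rw [h4]
    have h5 : ∀ A B : Matrix (Fin 2) (Fin 2) K, (4 : K) • A - (2 : K) • B - A =
        (3 : K) • A - (2 : K) • B := by
      intro A B
      have : (4 : K) • A = (3 : K) • A + A := by
        rw [show (4 : K) = 3 + 1 by norm_num, add_smul, one_smul]
      rw [this]; abel
    exact h5 _ _
  constructor
  · rw [e2, Matrix.trace_sub, Matrix.trace_smul, hX, smul_eq_mul] at ht2
    exact ht2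
  · rw [e3, Matrix.trace_sub, Matrix.trace_smul, Matrix.trace_smul, hX, smul_eq_mul,
      smul_eq_mul] at ht3
    have h6 : (2 : K) * 2 = 4 := by norm_num
    rw [h6] at ht3
    exact ht3

/-- For `p ≥ 5`, an element of order `p` centralizes every normal `p'`-subgroup. -/
theorem sl2g_centralizes_pprime (hι : Function.Injective ι) (hp5 : 5 ≤ p) (N : Subgroup Γ)
    [hN : N.Normal] (hNc : (Nat.card N).Coprime p) (x : Γ) (hx : x ^ p = 1)
    (a : Γ) (ha : a ∈ N) : x * a = a * x := by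
  have hp : p.Prime := Fact.out
  by_cases hx1 : x = 1
  · rw [hx1, one_mul, mul_one]
  have hp2 : p ≠ 2 := by omega
  obtain ⟨h1, h2⟩ := sl2g_comm_trace ι hι hp2 N hNc x hx hx1 a ha
  obtain ⟨σ, hσ⟩ : ∃ σ : K,
      σ = Matrix.trace (ι (x * (a * x⁻¹ * a⁻¹)) : Matrix (Fin 2) (Fin 2) K) := ⟨_, rfl⟩
  rw [← hσ] at h1 h2
  have h2K : (2 : K) ≠ 0 := by
    intro h
    have h' : ((2 : ℕ) : K) = 0 := by exact_mod_cast h
    rw [CharP.cast_eq_zero_iff K p] at h'
    have := Nat.le_of_dvd (by norm_num) h'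
    omega
  have h3K : (3 : K) ≠ 0 := by
    intro h
    have h' : ((3 : ℕ) : K) = 0 := by exact_mod_cast h
    rw [CharP.cast_eq_zero_iff K p] at h'
    have := Nat.le_of_dvd (by norm_num) h'
    omega
  have hσ2 : σ = 2 := by
    have h4 : σ * (σ - 2) = 0 := by
      have : (2 : K) * 2 * (σ * (σ - 2)) = 0 := by linear_combination h1
      exact (mul_eq_zero.mp this).resolve_left (mul_ne_zero h2K h2K)
    rcases mul_eq_zero.mp h4 with h | h
    · exfalso
      rw [h] at h2
      have : (2 : K) * 2 * 3 = 0 := by linear_combination h2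
      exact (mul_ne_zero (mul_ne_zero h2K h2K) h3K) this
    · exact sub_eq_zero.mp h
  rw [hσ] at hσ2
  have hcp := sl2_pow_char_of_trace (p := p) (ι (x * (a * x⁻¹ * a⁻¹))) hσ2
  have hcp' : (x * (a * x⁻¹ * a⁻¹)) ^ p = 1 := hι (by rw [map_pow, hcp, map_one])
  have hcN : x * (a * x⁻¹ * a⁻¹) ∈ N := by
    have e : x * (a * x⁻¹ * a⁻¹) = (x * a * x⁻¹) * a⁻¹ := by group
    rw [e]
    exact N.mul_mem (hN.conj_mem a ha x) (N.inv_mem ha)
  have hc1 : x * (a * x⁻¹ * a⁻¹) = 1 := by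
    have h5 : orderOf (x * (a * x⁻¹ * a⁻¹)) ∣ p := orderOf_dvd_of_pow_eq_one hcp'
    have h6 : orderOf (x * (a * x⁻¹ * a⁻¹)) ∣ Nat.card N := N.orderOf_dvd_natCard hcN
    have h7 : orderOf (x * (a * x⁻¹ * a⁻¹)) ∣ Nat.gcd (Nat.card N) p := Nat.dvd_gcd h6 h5
    rw [hNc.gcd_eq_one, Nat.dvd_one] at h7
    exact orderOf_eq_one_iff.mp h7
  calc x * a = (x * (a * x⁻¹ * a⁻¹)) * (a * x) := by group
    _ = a * x := by rw [hc1, one_mul]

/-- If `Γ` has a nontrivial normal `p`-subgroup and is generated by elements of order dividing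
`p`, then `Γ` is a `p`-group. -/
theorem sl2g_isPGroup_of_normal (hι : Function.Injective ι) (Q : Subgroup Γ)
    [hQn : Q.Normal] (hQ : IsPGroup p Q) (hQ1 : Q ≠ ⊥) (S : Set Γ)
    (hS : Subgroup.closure S = ⊤) (hSp : ∀ s ∈ S, s ^ p = 1) : IsPGroup p Γ := by
  have hp : p.Prime := Fact.out
  obtain ⟨u, hu, hu1⟩ : ∃ u ∈ Q, u ≠ 1 := by
    by_contra hcon
    push Not at hcon
    exact hQ1 ((Subgroup.eq_bot_iff_forall _).mpr hcon)
  obtain ⟨ju, hju⟩ := hQ ⟨u, hu⟩
  have hju' : u ^ (p ^ ju) = 1 := by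
    have := congrArg Subtype.val hju
    simpa using this
  have htru := sl2g_trace_of_ppow ι u ju hju'
  obtain ⟨π, hπ⟩ : ∃ π : Γ →* Γ ⧸ Q, π = QuotientGroup.mk' Q := ⟨_, rfl⟩
  have hπker : ∀ z : Γ, π z = 1 ↔ z ∈ Q := by
    intro z; rw [hπ]; exact QuotientGroup.eq_one_iff z
  have hsu : ∀ s ∈ S, s * u = u * s := by
    intro s hs
    have h1 : (s * u) ^ p ∈ Q := by
      rw [← hπker, map_pow, map_mul, (hπker u).mpr hu, mul_one, ← map_pow, hSp s hs, map_one]
    obtain ⟨j, hj⟩ := hQ ⟨_, h1⟩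
    have hj' : (s * u) ^ (p ^ (j + 1)) = 1 := by
      have := congrArg Subtype.val hj
      rw [pow_succ', pow_mul]
      simpa using this
    have ht1 := sl2g_trace_of_ppow ι (s * u) (j + 1) hj'
    have ht2 := sl2g_trace_of_ppow ι s 1 (by rw [pow_one]; exact hSp s hs)
    rw [map_mul] at ht1
    have h2 := sl2_comm_of_trace (ι s) (ι u) ht2 htru ht1
    exact hι (by rw [map_mul, map_mul, h2])
  have hcent : ∀ g : Γ, g * u = u * g := by
    intro g
    have hg : g ∈ Subgroup.closure S := by rw [hS]; exact Subgroup.mem_top g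
    have hle : Subgroup.closure S ≤ Subgroup.centralizer ({u} : Set Γ) := by
      rw [Subgroup.closure_le]
      intro s hs
      exact Subgroup.mem_centralizer_singleton_iff.mpr (hsu s hs)
    exact Subgroup.mem_centralizer_singleton_iff.mp (hle hg)
  have hns : ¬ ((ι u : Matrix (Fin 2) (Fin 2) K) 0 1 = 0 ∧
      (ι u : Matrix (Fin 2) (Fin 2) K) 1 0 = 0 ∧
      (ι u : Matrix (Fin 2) (Fin 2) K) 0 0 = (ι u : Matrix (Fin 2) (Fin 2) K) 1 1) := by
    rintro ⟨h01, h10, h00⟩
    apply hu1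
    apply hι
    rw [map_one]
    have hdet := (ι u).det_coe
    rw [Matrix.det_fin_two, h01, h10] at hdet
    have htr := htru
    simp only [Matrix.trace, Matrix.diag, Fin.sum_univ_two, Fin.isValue] at htr
    rw [← h00] at hdet htr
    have h5 : ((ι u : Matrix (Fin 2) (Fin 2) K) 0 0 - 1) ^ 2 = 0 := by
      linear_combination hdet - htr
    have h6 : (ι u : Matrix (Fin 2) (Fin 2) K) 0 0 = 1 :=
      sub_eq_zero.mp (pow_eq_zero_iff (by norm_num) |>.mp h5)
    apply Subtype.ext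
    rw [Matrix.SpecialLinearGroup.coe_one]
    ext i j
    fin_cases i <;> fin_cases j
    · simpa using h6
    · simpa using h01
    · simpa using h10
    · simpa using h00.symm.trans h6
  have hcomm : ∀ g h : Γ, g * h = h * g := by
    intro g h
    apply hι
    apply Subtype.ext
    rw [map_mul, map_mul, Matrix.SpecialLinearGroup.coe_mul, Matrix.SpecialLinearGroup.coe_mul]
    apply mat2_comm_of_comm_nonscalar (ι u : Matrix (Fin 2) (Fin 2) K) _ _ hns
    · rw [← Matrix.SpecialLinearGroup.coe_mul, ← Matrix.SpecialLinearGroup.coe_mul, ← map_mul,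
        ← map_mul, hcent g]
    · rw [← Matrix.SpecialLinearGroup.coe_mul, ← Matrix.SpecialLinearGroup.coe_mul, ← map_mul,
        ← map_mul, hcent h]
  have hall : ∀ g : Γ, g ^ p = 1 := by
    intro g
    have hg : g ∈ Subgroup.closure S := by rw [hS]; exact Subgroup.mem_top g
    induction hg using Subgroup.closure_induction with
    | mem s hs => exact hSp s hs
    | one => exact one_pow p
    | mul x y _ _ hx hy =>
      rw [(show Commute x y from hcomm x y).mul_pow, hx, hy, one_mul]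
    | inv x _ hx => rw [inv_pow, hx, inv_one]
  exact fun g => ⟨1, by rw [pow_one]; exact hall g⟩

/-- A finite `p`-solvable subgroup of `SL₂(K)`, `char K = p ≥ 5`, generated by elements of order
dividing `p`, is a `p`-group. -/
theorem sl2_psolv_isPGroup (hι : Function.Injective ι) (hp5 : 5 ≤ p)
    (hsol : Cfsg.IsPSolvable p Γ) (S : Set Γ) (hS : Subgroup.closure S = ⊤)
    (hSp : ∀ s ∈ S, s ^ p = 1) : IsPGroup p Γ := by
  classical
  have hp : p.Prime := Fact.out
  obtain ⟨N, hN⟩ : ∃ N : Subgroup Γ, N = Cfsg.pPrimeCore p Γ := ⟨_, rfl⟩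
  have hNn : N.Normal := by rw [hN]; exact (Cfsg.Agent.Lib.helper9.pPrimeCore_mem p Γ).1
  haveI := hNn
  have hNc : (Nat.card N).Coprime p := by
    rw [hN]; exact (Cfsg.Agent.Lib.helper9.pPrimeCore_mem p Γ).2
  have hNZ : ∀ n ∈ N, ∀ g : Γ, g * n = n * g := by
    intro n hn g
    have hg : g ∈ Subgroup.closure S := by rw [hS]; exact Subgroup.mem_top g
    have hle : Subgroup.closure S ≤ Subgroup.centralizer ({n} : Set Γ) := by
      rw [Subgroup.closure_le]
      intro s hs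
      exact Subgroup.mem_centralizer_singleton_iff.mpr
        (sl2g_centralizes_pprime ι hι hp5 N hNc s (hSp s hs) n hn)
    exact Subgroup.mem_centralizer_singleton_iff.mp (hle hg)
  obtain ⟨π, hπ⟩ : ∃ π : Γ →* Γ ⧸ N, π = QuotientGroup.mk' N := ⟨_, rfl⟩
  have hπs : Function.Surjective π := by rw [hπ]; exact QuotientGroup.mk'_surjective N
  have hπker : ∀ z : Γ, π z = 1 ↔ z ∈ N := by
    intro z; rw [hπ]; exact QuotientGroup.eq_one_iff z
  have hbot : Cfsg.pPrimeCore p (Γ ⧸ N) = ⊥ := by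
    subst hN; exact Cfsg.Agent.Lib.helper9.pPrimeCore_quotient_eq_bot p Γ
  have hsol' : Cfsg.IsPSolvable p (Γ ⧸ N) :=
    Cfsg.Agent.Lib.helper16.isPSolvable_of_surjective π hπs hsol
  have hC := Cfsg.Agent.Lib.helper16.centralizer_pCore_le_of_pSolvable hsol' hbot
  obtain ⟨Ub, hUb⟩ : ∃ Ub : Subgroup (Γ ⧸ N), Ub = Cfsg.pCore p (Γ ⧸ N) := ⟨_, rfl⟩
  rw [← hUb] at hC
  have hUbn : Ub.Normal := by rw [hUb]; exact pCore_normal3 p _
  have hUbp : IsPGroup p Ub := by rw [hUb]; exact pCore_isPGroup3 p _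
  by_cases hUb1 : Ub = ⊥
  · have hall : ∀ g : Γ, g ∈ N := by
      intro g
      rw [← hπker]
      have h1 : π g ∈ Subgroup.centralizer ((Ub : Subgroup (Γ ⧸ N)) : Set (Γ ⧸ N)) := by
        refine Subgroup.mem_centralizer_iff.mpr ?_
        intro h hh
        rw [hUb1] at hh
        have : h = 1 := Subgroup.mem_bot.mp hh
        rw [this, one_mul, mul_one]
      have h2 := hC h1
      rw [hUb1, Subgroup.mem_bot] at h2
      exact h2
    have hS1 : ∀ s ∈ S, s = 1 := by
      intro s hs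
      have h1 : orderOf s ∣ p := orderOf_dvd_of_pow_eq_one (hSp s hs)
      have h2 : orderOf s ∣ Nat.card N := N.orderOf_dvd_natCard (hall s)
      have h3 : orderOf s ∣ Nat.gcd (Nat.card N) p := Nat.dvd_gcd h2 h1
      rw [hNc.gcd_eq_one, Nat.dvd_one] at h3
      exact orderOf_eq_one_iff.mp h3
    have htriv : ∀ g : Γ, g = 1 := by
      intro g
      have hg : g ∈ Subgroup.closure S := by rw [hS]; exact Subgroup.mem_top g
      have hle : Subgroup.closure S ≤ ⊥ := by
        rw [Subgroup.closure_le]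
        intro s hs
        exact Subgroup.mem_bot.mpr (hS1 s hs)
      exact Subgroup.mem_bot.mp (hle hg)
    intro g
    exact ⟨0, by rw [htriv g, one_pow]⟩
  · obtain ⟨U, hU⟩ : ∃ U : Subgroup Γ, U = Ub.comap π := ⟨_, rfl⟩
    have hUn : U.Normal := by rw [hU]; exact hUbn.comap π
    haveI := hUn
    obtain ⟨Y, hY⟩ : ∃ Y : Subgroup ↥U, Y = N.subgroupOf U := ⟨_, rfl⟩
    have hYc : Y ≤ Subgroup.center ↥U := by
      intro y hy
      rw [hY, Subgroup.mem_subgroupOf] at hy
      rw [Subgroup.mem_center_iff]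
      intro g
      apply Subtype.ext
      rw [Subgroup.coe_mul, Subgroup.coe_mul]
      exact hNZ _ hy _
    haveI : Y.FiniteIndex := Subgroup.finiteIndex_of_finite_quotient
    obtain ⟨k, hk⟩ := hUbp.exists_card_eq
    have hidx : Y.index = p ^ k := by
      have h1 : Y.index = N.relIndex U := by rw [hY]; rfl
      have h2 : N = π.ker := by rw [hπ, QuotientGroup.ker_mk']
      rw [h1, h2, Subgroup.relIndex_ker, hU, Subgroup.map_comap_eq_self_of_surjective hπs, hk]
    have hk1 : 1 < p ^ k := by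
      rw [← hk]; exact (Subgroup.one_lt_card_iff_ne_bot (H := Ub)).mpr hUb1
    obtain ⟨ψ, hψ⟩ : ∃ ψ : ↥U →* ↥U, ∀ u, ψ u = u ^ (p ^ k) := by
      refine ⟨{ toFun := fun u => u ^ (p ^ k), map_one' := one_pow _, map_mul' := ?_ },
        fun u => rfl⟩
      intro a b
      have := Cfsg.Agent.Lib.helper16.pow_index_mul_of_le_center Y hYc a b
      rw [hidx] at this
      exact this
    have hUmem : ∀ z ∈ U, π z ∈ Ub := by
      intro z hz; rw [hU] at hz; exact Subgroup.mem_comap.mp hz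
    have hψY : ∀ u : ↥U, ψ u ∈ Y := by
      intro u
      rw [hψ, hY, Subgroup.mem_subgroupOf, Subgroup.coe_pow, ← hπker, map_pow]
      have hu : π (u : Γ) ∈ Ub := hUmem _ u.2
      have h1 : (⟨π (u : Γ), hu⟩ : ↥Ub) ^ Nat.card Ub = 1 := pow_card_eq_one'
      rw [hk] at h1
      have h2 := congrArg Subtype.val h1
      simpa using h2
    have hker : ψ.ker ≠ ⊥ := by
      intro h
      have hinj : Function.Injective ψ := (MonoidHom.ker_eq_bot_iff ψ).mp h
      have h1 : Nat.card ↥U ≤ Nat.card ↥Y :=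
        Nat.card_le_card_of_injective (fun u => (⟨ψ u, hψY u⟩ : ↥Y))
          (fun a b hab => hinj (congrArg Subtype.val hab))
      have h2 : Nat.card ↥Y * Y.index = Nat.card ↥U := Subgroup.card_mul_index Y
      rw [hidx] at h2
      have h3 : 0 < Nat.card ↥Y := Nat.card_pos
      nlinarith
    obtain ⟨u, hu, hu1⟩ : ∃ u ∈ ψ.ker, u ≠ 1 := by
      by_contra hcon
      push Not at hcon
      exact hker ((Subgroup.eq_bot_iff_forall _).mpr hcon)
    have hchar : (ψ.ker).Characteristic := by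
      rw [Subgroup.characteristic_iff_le_comap]
      intro φ x hx
      rw [Subgroup.mem_comap, MonoidHom.mem_ker, hψ]
      rw [MonoidHom.mem_ker, hψ] at hx
      show (φ x) ^ (p ^ k) = 1
      rw [← map_pow, hx, map_one]
    haveI := hchar
    obtain ⟨Q, hQ⟩ : ∃ Q : Subgroup Γ, Q = (ψ.ker).map U.subtype := ⟨_, rfl⟩
    have hQn : Q.Normal := by rw [hQ]; exact ConjAct.normal_of_characteristic_of_normal
    haveI := hQn
    have hQp : IsPGroup p Q := by
      rintro ⟨q, hq⟩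
      rw [hQ] at hq
      obtain ⟨v, hv, rfl⟩ := hq
      have hv' : ψ v = 1 := MonoidHom.mem_ker.mp hv
      rw [hψ] at hv'
      refine ⟨k, Subtype.ext ?_⟩
      have := congrArg Subtype.val hv'
      simpa using this
    have hQ1 : Q ≠ ⊥ := by
      intro h
      have h1 : (u : Γ) ∈ Q := by rw [hQ]; exact ⟨u, hu, rfl⟩
      rw [h, Subgroup.mem_bot] at h1
      exact hu1 (Subtype.ext h1)
    exact sl2g_isPGroup_of_normal ι hι Q hQp hQ1 S hS hSp

end

end Cfsg.Agent.Lib.helper3
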