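import Mathlib
import Cfsg.Prelude.Def_Local
import Cfsg.Agent.Lib.helper3.SL2PSolv

set_option autoImplicit false
set_option linter.style.haveILetI false

namespace Cfsg.Agent.Lib.helper3

universe u

section

variable {K : Type*} [Field K] {p : ℕ} [Fact p.Prime] [CharP K p]
  {Γ : Type u} [Group Γ] [Finite Γ] (ι : Γ →* Matrix.SpecialLinearGroup (Fin 2) K)

/-- An element of order `p` not centralizing an element of a normal `p'`-subgroup: the trace of
the product with the inverse conjugate is `0` and `p = 3`. -/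
theorem sl2g_comm_trace_zero (hι : Function.Injective ι) (hp2 : p ≠ 2) (N : Subgroup Γ)
    [hN : N.Normal] (hNc : (Nat.card N).Coprime p) (x : Γ) (hx : x ^ p = 1)
    (a : Γ) (ha : a ∈ N) (hne : x * a ≠ a * x) :
    Matrix.trace (ι (x * (a * x⁻¹ * a⁻¹)) : Matrix (Fin 2) (Fin 2) K) = 0 ∧ p = 3 := by
  have hp : p.Prime := Fact.out
  have hx1 : x ≠ 1 := by
    rintro rfl
    exact hne (by rw [one_mul, mul_one])
  obtain ⟨h1, h2⟩ := sl2g_comm_trace ι hι hp2 N hNc x hx hx1 a ha
  obtain ⟨σ, hσ⟩ : ∃ σ : K,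
      σ = Matrix.trace (ι (x * (a * x⁻¹ * a⁻¹)) : Matrix (Fin 2) (Fin 2) K) := ⟨_, rfl⟩
  rw [← hσ] at h1 h2 ⊢
  have h2K : (2 : K) ≠ 0 := by
    intro h
    have h' : ((2 : ℕ) : K) = 0 := by exact_mod_cast h
    rw [CharP.cast_eq_zero_iff K p] at h'
    exact hp2 ((Nat.prime_dvd_prime_iff_eq hp Nat.prime_two).mp h')
  have h4 : σ * (σ - 2) = 0 := by
    have : (2 : K) * 2 * (σ * (σ - 2)) = 0 := by linear_combination h1
    exact (mul_eq_zero.mp this).resolve_left (mul_ne_zero h2K h2K)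
  have hσ0 : σ = 0 := by
    rcases mul_eq_zero.mp h4 with h | h
    · exact h
    · exfalso
      have hσ2 : σ = 2 := sub_eq_zero.mp h
      rw [hσ] at hσ2
      have hcp := sl2_pow_char_of_trace (p := p) (ι (x * (a * x⁻¹ * a⁻¹))) hσ2
      have hcp' : (x * (a * x⁻¹ * a⁻¹)) ^ p = 1 := hι (by rw [map_pow, hcp, map_one])
      have hcN : x * (a * x⁻¹ * a⁻¹) ∈ N := by
        have e : x * (a * x⁻¹ * a⁻¹) = (x * a * x⁻¹) * a⁻¹ := by group
        rw [e]
        exact N.mul_mem (hN.conj_mem a ha x) (N.inv_mem ha)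
      have hc1 : x * (a * x⁻¹ * a⁻¹) = 1 := by
        have h5 : orderOf (x * (a * x⁻¹ * a⁻¹)) ∣ p := orderOf_dvd_of_pow_eq_one hcp'
        have h6 : orderOf (x * (a * x⁻¹ * a⁻¹)) ∣ Nat.card N := N.orderOf_dvd_natCard hcN
        have h7 : orderOf (x * (a * x⁻¹ * a⁻¹)) ∣ Nat.gcd (Nat.card N) p := Nat.dvd_gcd h6 h5
        rw [hNc.gcd_eq_one, Nat.dvd_one] at h7
        exact orderOf_eq_one_iff.mp h7
      apply hne
      calc x * a = (x * (a * x⁻¹ * a⁻¹)) * (a * x) := by group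
        _ = a * x := by rw [hc1, one_mul]
  refine ⟨hσ0, ?_⟩
  rw [hσ0] at h2
  have h12 : ((12 : ℕ) : K) = 0 := by
    push_cast
    linear_combination h2
  rw [CharP.cast_eq_zero_iff K p] at h12
  have h12' : p ∣ 2 ^ 2 * 3 := by norm_num; exact h12
  rcases (Nat.Prime.dvd_mul hp).mp h12' with h | h
  · exact absurd ((Nat.prime_dvd_prime_iff_eq hp Nat.prime_two).mp (hp.dvd_of_dvd_pow h)) hp2
  · exact (Nat.prime_dvd_prime_iff_eq hp Nat.prime_three).mp h

/-- A finite `p`-solvable subgroup of `SL₂(K)`, `char K = p`, generated by elements of order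
dividing `p` which centralize `O_{p'}`, is a `p`-group. -/
theorem sl2_psolv_isPGroup_of_central (hι : Function.Injective ι)
    (hsol : Cfsg.IsPSolvable p Γ) (S : Set Γ) (hS : Subgroup.closure S = ⊤)
    (hSp : ∀ s ∈ S, s ^ p = 1)
    (hcen : ∀ s ∈ S, ∀ n ∈ Cfsg.pPrimeCore p Γ, s * n = n * s) : IsPGroup p Γ := by
  classical
  have hp : p.Prime := Fact.out
  obtain ⟨N, hN⟩ : ∃ N : Subgroup Γ, N = Cfsg.pPrimeCore p Γ := ⟨_, rfl⟩
  have hNn : N.Normal := by rw [hN]; exact (Cfsg.Agent.Lib.helper9.pPrimeCore_mem p Γ).1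
  haveI := hNn
  have hNc : (Nat.card N).Coprime p := by
    rw [hN]; exact (Cfsg.Agent.Lib.helper9.pPrimeCore_mem p Γ).2
  have hNZ : ∀ n ∈ N, ∀ g : Γ, g * n = n * g := by
    intro n hn g
    have hg : g ∈ Subgroup.closure S := by rw [hS]; exact Subgroup.mem_top g
    have hle : Subgroup.closure S ≤ Subgroup.centralizer ({n} : Set Γ) := by
      rw [Subgroup.closure_le]
      intro s hs
      exact Subgroup.mem_centralizer_singleton_iff.mpr (hcen s hs n (hN ▸ hn))
    exact Subgroup.mem_centralizer_singleton_iff.mp (hle hg)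
  obtain ⟨π, hπ⟩ : ∃ π : Γ →* Γ ⧸ N, π = QuotientGroup.mk' N := ⟨_, rfl⟩
  have hπs : Function.Surjective π := by rw [hπ]; exact QuotientGroup.mk'_surjective N
  have hπker : ∀ z : Γ, π z = 1 ↔ z ∈ N := by
    intro z; rw [hπ]; exact QuotientGroup.eq_one_iff z
  have hbot : Cfsg.pPrimeCore p (Γ ⧸ N) = ⊥ := by
    subst hN; exact Cfsg.Agent.Lib.helper9.pPrimeCore_quotient_eq_bot p Γ
  have hsol' : Cfsg.IsPSolvable p (Γ ⧸ N) :=
    Cfsg.Agent.Lib.helper16.isPSolvable_of_surjective π hπs hsol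
  have hC := Cfsg.Agent.Lib.helper16.centralizer_pCore_le_of_pSolvable hsol' hbot
  obtain ⟨Ub, hUb⟩ : ∃ Ub : Subgroup (Γ ⧸ N), Ub = Cfsg.pCore p (Γ ⧸ N) := ⟨_, rfl⟩
  rw [← hUb] at hC
  have hUbn : Ub.Normal := by rw [hUb]; exact pCore_normal3 p _
  have hUbp : IsPGroup p Ub := by rw [hUb]; exact pCore_isPGroup3 p _
  by_cases hUb1 : Ub = ⊥
  · have hall : ∀ g : Γ, g ∈ N := by
      intro g
      rw [← hπker]
      have h1 : π g ∈ Subgroup.centralizer ((Ub : Subgroup (Γ ⧸ N)) : Set (Γ ⧸ N)) := by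
        refine Subgroup.mem_centralizer_iff.mpr ?_
        intro h hh
        rw [hUb1] at hh
        have : h = 1 := Subgroup.mem_bot.mp hh
        rw [this, one_mul, mul_one]
      have h2 := hC h1
      rw [hUb1, Subgroup.mem_bot] at h2
      exact h2
    have hS1 : ∀ s ∈ S, s = 1 := by
      intro s hs
      have h1 : orderOf s ∣ p := orderOf_dvd_of_pow_eq_one (hSp s hs)
      have h2 : orderOf s ∣ Nat.card N := N.orderOf_dvd_natCard (hall s)
      have h3 : orderOf s ∣ Nat.gcd (Nat.card N) p := Nat.dvd_gcd h2 h1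
      rw [hNc.gcd_eq_one, Nat.dvd_one] at h3
      exact orderOf_eq_one_iff.mp h3
    have htriv : ∀ g : Γ, g = 1 := by
      intro g
      have hg : g ∈ Subgroup.closure S := by rw [hS]; exact Subgroup.mem_top g
      have hle : Subgroup.closure S ≤ ⊥ := by
        rw [Subgroup.closure_le]
        intro s hs
        exact Subgroup.mem_bot.mpr (hS1 s hs)
      exact Subgroup.mem_bot.mp (hle hg)
    intro g
    exact ⟨0, by rw [htriv g, one_pow]⟩
  · obtain ⟨U, hU⟩ : ∃ U : Subgroup Γ, U = Ub.comap π := ⟨_, rfl⟩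
    have hUn : U.Normal := by rw [hU]; exact hUbn.comap π
    haveI := hUn
    obtain ⟨Y, hY⟩ : ∃ Y : Subgroup ↥U, Y = N.subgroupOf U := ⟨_, rfl⟩
    have hYc : Y ≤ Subgroup.center ↥U := by
      intro y hy
      rw [hY, Subgroup.mem_subgroupOf] at hy
      rw [Subgroup.mem_center_iff]
      intro g
      apply Subtype.ext
      rw [Subgroup.coe_mul, Subgroup.coe_mul]
      exact hNZ _ hy _
    haveI : Y.FiniteIndex := Subgroup.finiteIndex_of_finite_quotient
    obtain ⟨k, hk⟩ := hUbp.exists_card_eq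
    have hidx : Y.index = p ^ k := by
      have h1 : Y.index = N.relIndex U := by rw [hY]; rfl
      have h2 : N = π.ker := by rw [hπ, QuotientGroup.ker_mk']
      rw [h1, h2, Subgroup.relIndex_ker, hU, Subgroup.map_comap_eq_self_of_surjective hπs, hk]
    have hk1 : 1 < p ^ k := by
      rw [← hk]; exact (Subgroup.one_lt_card_iff_ne_bot (H := Ub)).mpr hUb1
    obtain ⟨ψ, hψ⟩ : ∃ ψ : ↥U →* ↥U, ∀ u, ψ u = u ^ (p ^ k) := by
      refine ⟨{ toFun := fun u => u ^ (p ^ k), map_one' := one_pow _, map_mul' := ?_ },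
        fun u => rfl⟩
      intro a b
      have := Cfsg.Agent.Lib.helper16.pow_index_mul_of_le_center Y hYc a b
      rw [hidx] at this
      exact this
    have hUmem : ∀ z ∈ U, π z ∈ Ub := by
      intro z hz; rw [hU] at hz; exact Subgroup.mem_comap.mp hz
    have hψY : ∀ u : ↥U, ψ u ∈ Y := by
      intro u
      rw [hψ, hY, Subgroup.mem_subgroupOf, Subgroup.coe_pow, ← hπker, map_pow]
      have hu : π (u : Γ) ∈ Ub := hUmem _ u.2
      have h1 : (⟨π (u : Γ), hu⟩ : ↥Ub) ^ Nat.card Ub = 1 := pow_card_eq_one'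
      rw [hk] at h1
      have h2 := congrArg Subtype.val h1
      simpa using h2
    have hker : ψ.ker ≠ ⊥ := by
      intro h
      have hinj : Function.Injective ψ := (MonoidHom.ker_eq_bot_iff ψ).mp h
      have h1 : Nat.card ↥U ≤ Nat.card ↥Y :=
        Nat.card_le_card_of_injective (fun u => (⟨ψ u, hψY u⟩ : ↥Y))
          (fun a b hab => hinj (congrArg Subtype.val hab))
      have h2 : Nat.card ↥Y * Y.index = Nat.card ↥U := Subgroup.card_mul_index Y
      rw [hidx] at h2
      have h3 : 0 < Nat.card ↥Y := Nat.card_pos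
      nlinarith
    obtain ⟨u, hu, hu1⟩ : ∃ u ∈ ψ.ker, u ≠ 1 := by
      by_contra hcon
      push Not at hcon
      exact hker ((Subgroup.eq_bot_iff_forall _).mpr hcon)
    have hchar : (ψ.ker).Characteristic := by
      rw [Subgroup.characteristic_iff_le_comap]
      intro φ x hx
      rw [Subgroup.mem_comap, MonoidHom.mem_ker, hψ]
      rw [MonoidHom.mem_ker, hψ] at hx
      show (φ x) ^ (p ^ k) = 1
      rw [← map_pow, hx, map_one]
    haveI := hchar
    obtain ⟨Q, hQ⟩ : ∃ Q : Subgroup Γ, Q = (ψ.ker).map U.subtype := ⟨_, rfl⟩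
    have hQn : Q.Normal := by rw [hQ]; exact ConjAct.normal_of_characteristic_of_normal
    haveI := hQn
    have hQp : IsPGroup p Q := by
      rintro ⟨q, hq⟩
      rw [hQ] at hq
      obtain ⟨v, hv, rfl⟩ := hq
      have hv' : ψ v = 1 := MonoidHom.mem_ker.mp hv
      rw [hψ] at hv'
      refine ⟨k, Subtype.ext ?_⟩
      have := congrArg Subtype.val hv'
      simpa using this
    have hQ1 : Q ≠ ⊥ := by
      intro h
      have h1 : (u : Γ) ∈ Q := by rw [hQ]; exact ⟨u, hu, rfl⟩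
      rw [h, Subgroup.mem_bot] at h1
      exact hu1 (Subtype.ext h1)
    exact sl2g_isPGroup_of_normal ι hι Q hQp hQ1 S hS hSp


/-- A finite `p`-solvable subgroup of `SL₂(K)`, `char K = p` odd, generated by elements of order
dividing `p`, which is not a `p`-group, has a generator not centralizing `O_{p'}`. -/
theorem sl2_psolv_exists_noncomm (hι : Function.Injective ι)
    (hsol : Cfsg.IsPSolvable p Γ) (S : Set Γ) (hS : Subgroup.closure S = ⊤)
    (hSp : ∀ s ∈ S, s ^ p = 1) (hnp : ¬ IsPGroup p Γ) :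
    ∃ s ∈ S, ∃ n ∈ Cfsg.pPrimeCore p Γ, s * n ≠ n * s := by
  by_contra hcon
  push Not at hcon
  exact hnp (sl2_psolv_isPGroup_of_central ι hι hsol S hS hSp hcon)

end

end Cfsg.Agent.Lib.helper3
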