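import Mathlib
import Cfsg.Agent.Lib.helper3.SL23
import Cfsg.Agent.Lib.helper3.SL2PSolv2

set_option autoImplicit false
set_option linter.style.haveILetI false

namespace Cfsg.Agent.Lib.helper3


set_option maxRecDepth 100000 in
theorem sl23_pow24 : ∀ g : Matrix.SpecialLinearGroup (Fin 2) (ZMod 3), g ^ 24 = 1 := by decide

set_option maxRecDepth 100000 in
theorem sl23_pow8 : ∀ g : Matrix.SpecialLinearGroup (Fin 2) (ZMod 3), g ^ 8 = 1 → g ^ 4 = 1 := by
  decide

set_option maxRecDepth 100000 in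
theorem sl23_q8_gen : ∀ r₀ g : Matrix.SpecialLinearGroup (Fin 2) (ZMod 3), r₀ ^ 4 = 1 →
    sl23U * r₀ ≠ r₀ * sl23U → g ^ 4 = 1 →
    ∃ e f : Fin 4, g = r₀ ^ (e : ℕ) * (sl23U * r₀ * sl23U⁻¹) ^ (f : ℕ) := by
  decide

/-- Generators of the quaternion subgroup of `SL₂(𝔽₃)`. -/
def sl23I : Matrix.SpecialLinearGroup (Fin 2) (ZMod 3) := ⟨!![0, 2; 1, 0], by decide⟩

def sl23J : Matrix.SpecialLinearGroup (Fin 2) (ZMod 3) := ⟨!![1, 1; 1, 2], by decide⟩

/-- The embedding of the quaternion group of order `8` in `SL₂(𝔽₃)`, as a function. -/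
def q8Fun : QuaternionGroup 2 → Matrix.SpecialLinearGroup (Fin 2) (ZMod 3)
  | QuaternionGroup.a i => sl23I ^ i.val
  | QuaternionGroup.xa i => sl23J * sl23I ^ i.val

set_option maxRecDepth 100000 in
theorem q8Fun_mul : ∀ x y : QuaternionGroup 2, q8Fun (x * y) = q8Fun x * q8Fun y := by decide

set_option maxRecDepth 100000 in
theorem q8Fun_inj : ∀ x y : QuaternionGroup 2, q8Fun x = q8Fun y → x = y := by decide

set_option maxRecDepth 100000 in
theorem q8Fun_pow4 : ∀ x : QuaternionGroup 2, q8Fun x ^ 4 = 1 := by decide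

set_option maxRecDepth 100000 in
theorem q8Fun_surj : ∀ g : Matrix.SpecialLinearGroup (Fin 2) (ZMod 3), g ^ 4 = 1 →
    ∃ x : QuaternionGroup 2, q8Fun x = g := by decide



/-- Trace of the commutator-like product with the standard unipotent. -/
theorem sl2_trace_comm_unip {F : Type*} [Field F] (s X₁ : Matrix.SpecialLinearGroup (Fin 2) F)
    (hX₁ : (X₁ : Matrix (Fin 2) (Fin 2) F) = !![1, 1; 0, 1]) :
    Matrix.trace ((X₁ * (s * X₁⁻¹ * s⁻¹) : Matrix.SpecialLinearGroup (Fin 2) F) :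
      Matrix (Fin 2) (Fin 2) F) = 2 + (s : Matrix (Fin 2) (Fin 2) F) 1 0 ^ 2 := by
  have hdet := s.det_coe
  rw [Matrix.det_fin_two] at hdet
  rw [Matrix.SpecialLinearGroup.coe_mul, Matrix.SpecialLinearGroup.coe_mul,
    Matrix.SpecialLinearGroup.coe_mul, Matrix.SpecialLinearGroup.coe_inv,
    Matrix.SpecialLinearGroup.coe_inv, hX₁, Matrix.adjugate_fin_two, Matrix.adjugate_fin_two]
  simp only [Matrix.trace, Matrix.diag, Matrix.mul_apply, Fin.sum_univ_two, Fin.isValue,
    Matrix.of_apply, Matrix.cons_val_zero, Matrix.cons_val_one, Matrix.cons_val',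
    Matrix.cons_val_fin_one]
  linear_combination (2 : F) * hdet

/-- A matrix of `SL₂(F)`, `char F = 3`, with all entries in the prime field comes from
`SL₂(𝔽₃)`. -/
theorem sl2_mem_range_map {F : Type*} [Field F] [CharP F 3]
    (s : Matrix.SpecialLinearGroup (Fin 2) F)
    (hs : ∀ i j, (s : Matrix (Fin 2) (Fin 2) F) i j = 0 ∨ (s : Matrix (Fin 2) (Fin 2) F) i j = 1 ∨
      (s : Matrix (Fin 2) (Fin 2) F) i j = -1) :
    ∃ g : Matrix.SpecialLinearGroup (Fin 2) (ZMod 3),
      Matrix.SpecialLinearGroup.map (ZMod.castHom (dvd_refl 3) F) g = s := by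
  haveI : Fact (Nat.Prime 3) := ⟨by norm_num⟩
  obtain ⟨c, hc⟩ : ∃ c : ZMod 3 →+* F, c = ZMod.castHom (dvd_refl 3) F := ⟨_, rfl⟩
  rw [← hc]
  have hcinj : Function.Injective c := RingHom.injective c
  have hlift : ∀ e : F, (e = 0 ∨ e = 1 ∨ e = -1) → ∃ e' : ZMod 3, c e' = e := by
    rintro e (rfl | rfl | rfl)
    · exact ⟨0, map_zero c⟩
    · exact ⟨1, map_one c⟩
    · exact ⟨-1, by rw [map_neg, map_one]⟩
  choose f hf using fun i j => hlift _ (hs i j)
  have hmap : c.mapMatrix (Matrix.of f) = (s : Matrix (Fin 2) (Fin 2) F) := by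
    ext i j
    simp only [RingHom.mapMatrix_apply, Matrix.map_apply, Matrix.of_apply]
    exact hf i j
  have hdet : Matrix.det (Matrix.of f) = 1 := by
    apply hcinj
    rw [RingHom.map_det, hmap, map_one]
    exact s.det_coe
  refine ⟨⟨Matrix.of f, hdet⟩, ?_⟩
  apply Subtype.ext
  exact hmap

/-- Normalized form: a `3'`-subgroup `R` of `SL₂(F)`, `char F = 3`, on which the standard
unipotent acts with the trace condition, and which contains the standard element `c₀`, has all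
entries in the prime field. -/
theorem sl2_char3_entries {F : Type*} [Field F] [CharP F 3]
    (R : Subgroup (Matrix.SpecialLinearGroup (Fin 2) F))
    (X₁ : Matrix.SpecialLinearGroup (Fin 2) F)
    (hX₁ : (X₁ : Matrix (Fin 2) (Fin 2) F) = !![1, 1; 0, 1])
    (h1 : ∀ s ∈ R, X₁ * s ≠ s * X₁ →
      Matrix.trace ((X₁ * (s * X₁⁻¹ * s⁻¹) : Matrix.SpecialLinearGroup (Fin 2) F) :
        Matrix (Fin 2) (Fin 2) F) = 0)
    (h2 : ∀ s ∈ R, s ^ 3 = 1 → s = 1)
    (c₀ : Matrix.SpecialLinearGroup (Fin 2) F)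
    (hc₀ : (c₀ : Matrix (Fin 2) (Fin 2) F) = !![-1, 1; 1, 1]) (hc₀R : c₀ ∈ R) :
    ∀ s ∈ R, ∀ i j, (s : Matrix (Fin 2) (Fin 2) F) i j = 0 ∨
      (s : Matrix (Fin 2) (Fin 2) F) i j = 1 ∨ (s : Matrix (Fin 2) (Fin 2) F) i j = -1 := by
  haveI : Fact (Nat.Prime 3) := ⟨by norm_num⟩
  have h3 : (3 : F) = 0 := by
    have : ((3 : ℕ) : F) = 0 := CharP.cast_eq_zero F 3
    exact_mod_cast this
  have h2F : (2 : F) ≠ 0 := by
    intro h
    have : (1 : F) = 0 := by linear_combination h3 - h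
    exact one_ne_zero this
  -- commuting with `X₁`
  have hcomm : ∀ s : Matrix.SpecialLinearGroup (Fin 2) F, X₁ * s = s * X₁ →
      (s : Matrix (Fin 2) (Fin 2) F) 1 0 = 0 ∧
      (s : Matrix (Fin 2) (Fin 2) F) 1 1 = (s : Matrix (Fin 2) (Fin 2) F) 0 0 := by
    intro s hc
    have hm := congrArg
      (fun x : Matrix.SpecialLinearGroup (Fin 2) F => (x : Matrix (Fin 2) (Fin 2) F)) hc
    simp only [Matrix.SpecialLinearGroup.coe_mul, hX₁] at hm
    have e00 := congrFun (congrFun hm 0) 0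
    have e01 := congrFun (congrFun hm 0) 1
    simp only [Matrix.mul_apply, Fin.sum_univ_two, Fin.isValue, Matrix.of_apply,
      Matrix.cons_val_zero, Matrix.cons_val_one, Matrix.cons_val', Matrix.cons_val_fin_one,
      one_mul, mul_one, mul_zero, add_zero] at e00 e01
    constructor
    · linear_combination e00
    · linear_combination e01
  have step1 : ∀ s ∈ R, (s : Matrix (Fin 2) (Fin 2) F) 1 0 = 0 ∨
      (s : Matrix (Fin 2) (Fin 2) F) 1 0 = 1 ∨ (s : Matrix (Fin 2) (Fin 2) F) 1 0 = -1 := by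
    intro s hs
    by_cases hc : X₁ * s = s * X₁
    · exact Or.inl (hcomm s hc).1
    · right
      have ht := h1 s hs hc
      rw [sl2_trace_comm_unip s X₁ hX₁] at ht
      have hg : ((s : Matrix (Fin 2) (Fin 2) F) 1 0 - 1) *
          ((s : Matrix (Fin 2) (Fin 2) F) 1 0 + 1) = 0 := by
        linear_combination ht - h3
      rcases mul_eq_zero.mp hg with h | h
      · exact Or.inl (sub_eq_zero.mp h)
      · exact Or.inr (eq_neg_of_add_eq_zero_left h)
  -- closure of the prime field under the needed operations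
  have hpf : ∀ e : F, (e = 0 ∨ e = 1 ∨ e = -1) → (-e = 0 ∨ -e = 1 ∨ -e = -1) := by
    rintro e (rfl | rfl | rfl)
    · left; simp
    · right; right; rfl
    · right; left; simp
  have hpf1 : ∀ e : F, (e = 0 ∨ e = 1 ∨ e = -1) → (e + 1 = 0 ∨ e + 1 = 1 ∨ e + 1 = -1) := by
    rintro e (rfl | rfl | rfl)
    · right; left; simp
    · right; right; linear_combination h3
    · left; simp
  have hpfm : ∀ e e' : F, (e = 0 ∨ e = 1 ∨ e = -1) → (e' = 0 ∨ e' = 1 ∨ e' = -1) →
      (e * e' = 0 ∨ e * e' = 1 ∨ e * e' = -1) := by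
    rintro e e' (rfl | rfl | rfl) (rfl | rfl | rfl) <;> simp
  -- the case of lower-left entry `1`
  have case1 : ∀ s ∈ R, (s : Matrix (Fin 2) (Fin 2) F) 1 0 = 1 →
      ∀ i j, (s : Matrix (Fin 2) (Fin 2) F) i j = 0 ∨
        (s : Matrix (Fin 2) (Fin 2) F) i j = 1 ∨ (s : Matrix (Fin 2) (Fin 2) F) i j = -1 := by
    intro s hs hγ
    have hdet := s.det_coe
    rw [Matrix.det_fin_two, hγ] at hdet
    have ha := step1 (c₀⁻¹ * s) (R.mul_mem (R.inv_mem hc₀R) hs)
    have hd := step1 (s * c₀⁻¹) (R.mul_mem hs (R.inv_mem hc₀R))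
    rw [Matrix.SpecialLinearGroup.coe_mul, Matrix.SpecialLinearGroup.coe_inv, hc₀,
      Matrix.adjugate_fin_two] at ha hd
    simp only [Matrix.mul_apply, Fin.sum_univ_two, Fin.isValue, Matrix.of_apply,
      Matrix.cons_val_zero, Matrix.cons_val_one, Matrix.cons_val', Matrix.cons_val_fin_one,
      hγ] at ha hd
    have hα : (s : Matrix (Fin 2) (Fin 2) F) 0 0 = 0 ∨ (s : Matrix (Fin 2) (Fin 2) F) 0 0 = 1 ∨
        (s : Matrix (Fin 2) (Fin 2) F) 0 0 = -1 := by
      rcases ha with h | h | h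
      · right; right; linear_combination -h
      · right; left; linear_combination -h - h3
      · left; linear_combination -h
    have hδ : (s : Matrix (Fin 2) (Fin 2) F) 1 1 = 0 ∨ (s : Matrix (Fin 2) (Fin 2) F) 1 1 = 1 ∨
        (s : Matrix (Fin 2) (Fin 2) F) 1 1 = -1 := by
      rcases hd with h | h | h
      · right; left; linear_combination -h
      · left; linear_combination -h
      · right; right; linear_combination -h + h3
    have hβ : (s : Matrix (Fin 2) (Fin 2) F) 0 1 = 0 ∨ (s : Matrix (Fin 2) (Fin 2) F) 0 1 = 1 ∨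
        (s : Matrix (Fin 2) (Fin 2) F) 0 1 = -1 := by
      have e : (s : Matrix (Fin 2) (Fin 2) F) 0 1 =
          -(-((s : Matrix (Fin 2) (Fin 2) F) 0 0 * (s : Matrix (Fin 2) (Fin 2) F) 1 1) + 1) := by
        linear_combination -hdet
      rw [e]
      exact hpf _ (hpf1 _ (hpf _ (hpfm _ _ hα hδ)))
    intro i j
    fin_cases i <;> fin_cases j
    · exact hα
    · exact hβ
    · exact Or.inr (Or.inl hγ)
    · exact hδ
  intro s hs
  rcases step1 s hs with hγ | hγ | hγ
  · -- lower-left entry zero: `s = ±1`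
    have hc : X₁ * s = s * X₁ := by
      by_contra hc
      have ht := h1 s hs hc
      rw [sl2_trace_comm_unip s X₁ hX₁, hγ] at ht
      apply h2F
      linear_combination ht
    obtain ⟨-, hδ⟩ := hcomm s hc
    have hdet := s.det_coe
    rw [Matrix.det_fin_two, hγ, hδ] at hdet
    have hα : (s : Matrix (Fin 2) (Fin 2) F) 0 0 = 1 ∨ (s : Matrix (Fin 2) (Fin 2) F) 0 0 = -1 := by
      have : ((s : Matrix (Fin 2) (Fin 2) F) 0 0 - 1) * ((s : Matrix (Fin 2) (Fin 2) F) 0 0 + 1) = 0 := by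
        linear_combination hdet
      rcases mul_eq_zero.mp this with h | h
      · exact Or.inl (sub_eq_zero.mp h)
      · exact Or.inr (eq_neg_of_add_eq_zero_left h)
    have hsq : Matrix.trace ((s * s : Matrix.SpecialLinearGroup (Fin 2) F) :
        Matrix (Fin 2) (Fin 2) F) = 2 := by
      rw [Matrix.SpecialLinearGroup.coe_mul]
      simp only [Matrix.trace, Matrix.diag, Matrix.mul_apply, Fin.sum_univ_two, Fin.isValue, hγ,
        hδ]
      linear_combination (2 : F) * hdet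
    have hs3 := sl2_pow_char_of_trace (p := 3) (s * s) hsq
    have hss : s * s = 1 := h2 _ (R.mul_mem hs hs) hs3
    have hm := congrArg
      (fun x : Matrix.SpecialLinearGroup (Fin 2) F => (x : Matrix (Fin 2) (Fin 2) F)) hss
    simp only [Matrix.SpecialLinearGroup.coe_mul, Matrix.SpecialLinearGroup.coe_one] at hm
    have e01 := congrFun (congrFun hm 0) 1
    simp only [Matrix.mul_apply, Fin.sum_univ_two, Fin.isValue, hδ, Matrix.one_apply_ne,
      ne_eq, zero_ne_one, not_false_eq_true] at e01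
    have hβ : (s : Matrix (Fin 2) (Fin 2) F) 0 1 = 0 := by
      have h5 : (2 : F) * (s : Matrix (Fin 2) (Fin 2) F) 0 0 * (s : Matrix (Fin 2) (Fin 2) F) 0 1 = 0 := by
        linear_combination e01
      have h6 : (s : Matrix (Fin 2) (Fin 2) F) 0 0 ≠ 0 := by
        rcases hα with h | h <;> rw [h] <;> simp
      rcases mul_eq_zero.mp h5 with h | h
      · exact absurd h (mul_ne_zero h2F h6)
      · exact h
    intro i j
    fin_cases i <;> fin_cases j
    · exact Or.inr hα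
    · exact Or.inl hβ
    · exact Or.inl hγ
    · have h11 : (s : Matrix (Fin 2) (Fin 2) F) 1 1 = 1 ∨
          (s : Matrix (Fin 2) (Fin 2) F) 1 1 = -1 := by
        rw [hδ]; exact hα
      exact Or.inr h11
  · exact case1 s hs hγ
  · -- lower-left entry `-1`: pass to the inverse
    have hinv := case1 s⁻¹ (R.inv_mem hs) (by
      rw [Matrix.SpecialLinearGroup.coe_inv, Matrix.adjugate_fin_two]
      simp [hγ])
    rw [Matrix.SpecialLinearGroup.coe_inv, Matrix.adjugate_fin_two] at hinv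
    have i00 := hinv 0 0
    have i01 := hinv 0 1
    have i11 := hinv 1 1
    simp only [Matrix.of_apply, Matrix.cons_val_zero, Matrix.cons_val_one, Matrix.cons_val',
      Matrix.cons_val_fin_one, Fin.isValue] at i00 i01 i11
    intro i j
    fin_cases i <;> fin_cases j
    · exact i11
    · have := hpf _ i01
      simpa using this
    · exact Or.inr (Or.inr hγ)
    · exact i00


/-- A `p`-element `a` of `SL₂(F)` (`F` finite of odd characteristic `p`) normalizing but not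
centralizing a `p'`-subgroup `R`: then `p = 3`, `R` is a quaternion group of order `8` and
`R⟨a⟩ ≅ SL₂(𝔽₃)`. -/
theorem sl2_pprime_structure {F : Type*} [Field F] [Finite F] {p : ℕ} [Fact p.Prime]
    [CharP F p] (hp : p ≠ 2) (a : Matrix.SpecialLinearGroup (Fin 2) F)
    (ha : IsPGroup p ↥(Subgroup.zpowers a)) (R : Subgroup (Matrix.SpecialLinearGroup (Fin 2) F))
    (hR : (Nat.card R).Coprime p)
    (haR : a ∈ Subgroup.normalizer (R : Set (Matrix.SpecialLinearGroup (Fin 2) F)))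
    (hnt : ⁅R, Subgroup.zpowers a⁆ ≠ ⊥) :
    p = 3 ∧ Nonempty (↥R ≃* QuaternionGroup 2) ∧
      Nonempty (↥(R ⊔ Subgroup.zpowers a) ≃* Matrix.SpecialLinearGroup (Fin 2) (ZMod 3)) := by
  classical
  have hpp : p.Prime := Fact.out
  have hap : a ^ p = 1 := by
    obtain ⟨k, hk⟩ := ha ⟨a, Subgroup.mem_zpowers a⟩
    have hk' : a ^ (p ^ k) = 1 := by
      have := congrArg Subtype.val hk
      simpa using this
    exact sl2_pow_char_of_trace a (sl2_trace_of_ppow a k hk')
  obtain ⟨r, hrR, hra⟩ : ∃ r ∈ R, a * r ≠ r * a := by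
    by_contra hcon
    push Not at hcon
    apply hnt
    rw [Subgroup.commutator_eq_bot_iff_le_centralizer]
    intro q hq
    rw [Subgroup.mem_centralizer_iff]
    intro z hz
    obtain ⟨k, rfl⟩ := Subgroup.mem_zpowers_iff.mp hz
    exact ((show Commute a q from hcon q hq).zpow_left k).eq
  have hconjR : ∀ s ∈ R, a * s * a⁻¹ ∈ R := fun s hs =>
    (Subgroup.mem_normalizer_iff.mp haR s).mp hs
  obtain ⟨Γ, hΓ⟩ : ∃ Γ : Subgroup (Matrix.SpecialLinearGroup (Fin 2) F),
      Γ = R ⊔ Subgroup.zpowers a := ⟨_, rfl⟩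
  have hRΓ : R ≤ Γ := by rw [hΓ]; exact le_sup_left
  have haΓ : a ∈ Γ := by rw [hΓ]; exact Subgroup.mem_sup_right (Subgroup.mem_zpowers a)
  have hΓN : Γ ≤ Subgroup.normalizer (R : Set (Matrix.SpecialLinearGroup (Fin 2) F)) := by
    rw [hΓ]
    exact sup_le Subgroup.le_normalizer (by rw [Subgroup.zpowers_le]; exact haR)
  haveI hNn : (R.subgroupOf Γ).Normal :=
    (Subgroup.normal_subgroupOf_iff_le_normalizer hRΓ).mpr hΓN
  have hNc : (Nat.card ↥(R.subgroupOf Γ)).Coprime p := by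
    rw [Nat.card_congr (Subgroup.subgroupOfEquivOfLe hRΓ).toEquiv]; exact hR
  have htr : ∀ s ∈ R, a * s ≠ s * a →
      Matrix.trace ((a * (s * a⁻¹ * s⁻¹) : Matrix.SpecialLinearGroup (Fin 2) F) :
        Matrix (Fin 2) (Fin 2) F) = 0 ∧ p = 3 := by
    intro s hs hne
    have h1 := sl2g_comm_trace_zero (p := p) Γ.subtype Γ.subtype_injective hp (R.subgroupOf Γ)
      hNc ⟨a, haΓ⟩ (Subtype.ext (by simpa using hap)) ⟨s, hRΓ hs⟩
      (Subgroup.mem_subgroupOf.mpr hs) (fun h => hne (congrArg Subtype.val h))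
    exact h1
  obtain ⟨h0, hp3⟩ := htr r hrR hra
  subst hp3
  have h3 : (3 : F) = 0 := by
    have : ((3 : ℕ) : F) = 0 := CharP.cast_eq_zero F 3
    exact_mod_cast this
  obtain ⟨Y, hY⟩ : ∃ Y : Matrix.SpecialLinearGroup (Fin 2) F, Y = r * a⁻¹ * r⁻¹ := ⟨_, rfl⟩
  have hXt : Matrix.trace (a : Matrix (Fin 2) (Fin 2) F) = 2 :=
    sl2_trace_of_ppow (p := 3) a 1 (by rw [pow_one]; exact hap)
  have hYt : Matrix.trace (Y : Matrix (Fin 2) (Fin 2) F) = 2 := by
    apply sl2_trace_of_ppow (p := 3) Y 1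
    rw [pow_one, hY, conj_pow, inv_pow, hap]
    group
  have hXYt : Matrix.trace ((a : Matrix (Fin 2) (Fin 2) F) * (Y : Matrix (Fin 2) (Fin 2) F)) = 0 := by
    rw [← Matrix.SpecialLinearGroup.coe_mul, hY]; exact h0
  obtain ⟨P, P', h, h', hXe, hYe⟩ := sl2_char3_conj a Y hXt hYt hXYt
  obtain ⟨κ, hκ⟩ : ∃ κ : Matrix.SpecialLinearGroup (Fin 2) F →*
      Matrix.SpecialLinearGroup (Fin 2) F, κ = sl2ConjHom P' P h' h := ⟨_, rfl⟩
  obtain ⟨κ', hκ'⟩ : ∃ κ' : Matrix.SpecialLinearGroup (Fin 2) F →*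
      Matrix.SpecialLinearGroup (Fin 2) F, κ' = sl2ConjHom P P' h h' := ⟨_, rfl⟩
  have hκκ' : ∀ M : Matrix.SpecialLinearGroup (Fin 2) F, κ' (κ M) = M := by
    intro M
    apply Subtype.ext
    rw [hκ, hκ', sl2ConjHom_coe, sl2ConjHom_coe]
    calc P * (P' * (M : Matrix (Fin 2) (Fin 2) F) * P) * P'
        = (P * P') * (M : Matrix (Fin 2) (Fin 2) F) * (P * P') := by simp only [mul_assoc]
      _ = (M : Matrix (Fin 2) (Fin 2) F) := by rw [h, one_mul, mul_one]
  have hκ'κ : ∀ M : Matrix.SpecialLinearGroup (Fin 2) F, κ (κ' M) = M := by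
    intro M
    apply Subtype.ext
    rw [hκ, hκ', sl2ConjHom_coe, sl2ConjHom_coe]
    calc P' * (P * (M : Matrix (Fin 2) (Fin 2) F) * P') * P
        = (P' * P) * (M : Matrix (Fin 2) (Fin 2) F) * (P' * P) := by simp only [mul_assoc]
      _ = (M : Matrix (Fin 2) (Fin 2) F) := by rw [h', one_mul, mul_one]
  have hκinj : Function.Injective κ := fun x y hxy => by rw [← hκκ' x, ← hκκ' y, hxy]
  have hκtr : ∀ M : Matrix.SpecialLinearGroup (Fin 2) F,
      Matrix.trace ((κ M : Matrix.SpecialLinearGroup (Fin 2) F) : Matrix (Fin 2) (Fin 2) F) =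
        Matrix.trace (M : Matrix (Fin 2) (Fin 2) F) := by
    intro M
    rw [hκ, sl2ConjHom_coe, Matrix.trace_mul_cycle, h, one_mul]
  have hconj : ∀ N : Matrix (Fin 2) (Fin 2) F, P' * (P * N * P') * P = N := by
    intro N
    calc P' * (P * N * P') * P = (P' * P) * N * (P' * P) := by simp only [mul_assoc]
      _ = N := by rw [h', one_mul, mul_one]
  have hX₁ : ((κ a : Matrix.SpecialLinearGroup (Fin 2) F) : Matrix (Fin 2) (Fin 2) F) =
      !![1, 1; 0, 1] := by
    rw [hκ, sl2ConjHom_coe, hXe, hconj]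
  have hL₁ : ((κ Y : Matrix.SpecialLinearGroup (Fin 2) F) : Matrix (Fin 2) (Fin 2) F) =
      !![1, 0; 1, 1] := by
    rw [hκ, sl2ConjHom_coe, hYe, hconj]
  have hc₀ : ((κ (a * Y) : Matrix.SpecialLinearGroup (Fin 2) F) : Matrix (Fin 2) (Fin 2) F) =
      !![-1, 1; 1, 1] := by
    rw [map_mul, Matrix.SpecialLinearGroup.coe_mul, hX₁, hL₁]
    ext i j
    fin_cases i <;> fin_cases j <;> simp [Matrix.mul_apply, Fin.sum_univ_two]
    linear_combination h3
  have haYR : a * Y ∈ R := by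
    rw [hY]
    have e : a * (r * a⁻¹ * r⁻¹) = (a * r * a⁻¹) * r⁻¹ := by group
    rw [e]
    exact R.mul_mem (hconjR r hrR) (R.inv_mem hrR)
  have hN := sl2_char3_entries (R.map κ) (κ a) hX₁
    (by
      rintro _ ⟨s, hs, rfl⟩ hne
      have hne' : a * s ≠ s * a := fun h => hne (by rw [← map_mul, ← map_mul, h])
      have h1 := (htr s hs hne').1
      rw [← hκtr] at h1
      rw [← map_inv, ← map_inv, ← map_mul, ← map_mul, ← map_mul]
      exact h1)
    (by
      rintro _ ⟨s, hs, rfl⟩ hs3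
      have h4 : s ^ 3 = 1 := hκinj (by rw [map_pow, hs3, map_one])
      have h5 : orderOf s ∣ 3 := orderOf_dvd_of_pow_eq_one h4
      have h6 : orderOf s ∣ Nat.card R := R.orderOf_dvd_natCard hs
      have h7 := Nat.dvd_gcd h6 h5
      rw [hR.gcd_eq_one, Nat.dvd_one] at h7
      rw [orderOf_eq_one_iff.mp h7, map_one])
    (κ (a * Y)) hc₀ ⟨a * Y, haYR, rfl⟩
  obtain ⟨c, hc⟩ : ∃ c : ZMod 3 →+* F, c = ZMod.castHom (dvd_refl 3) F := ⟨_, rfl⟩
  have hcinj : Function.Injective c := RingHom.injective c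
  obtain ⟨ψ, hψ⟩ : ∃ ψ : Matrix.SpecialLinearGroup (Fin 2) (ZMod 3) →*
      Matrix.SpecialLinearGroup (Fin 2) F, ψ = κ'.comp (Matrix.SpecialLinearGroup.map c) :=
    ⟨_, rfl⟩
  have hψapp : ∀ g, ψ g = κ' (Matrix.SpecialLinearGroup.map c g) := fun g => by rw [hψ]; rfl
  have hψinj : Function.Injective ψ := by
    intro A B hAB
    rw [hψapp, hψapp] at hAB
    have h1 := congrArg κ hAB
    rw [hκ'κ, hκ'κ] at h1
    apply Subtype.ext
    ext i j
    have h2 := congrArg
      (fun M : Matrix.SpecialLinearGroup (Fin 2) F => (M : Matrix (Fin 2) (Fin 2) F) i j) h1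
    simp only [Matrix.SpecialLinearGroup.map_apply_coe, RingHom.mapMatrix_apply,
      Matrix.map_apply] at h2
    exact hcinj h2
  have hψU : ψ sl23U = a := by
    have e : Matrix.SpecialLinearGroup.map c sl23U = κ a := by
      apply Subtype.ext
      rw [hX₁]
      show c.mapMatrix (sl23U : Matrix (Fin 2) (Fin 2) (ZMod 3)) = !![1, 1; 0, 1]
      ext i j
      fin_cases i <;> fin_cases j <;> simp [sl23U, RingHom.mapMatrix_apply]
    rw [hψapp, e, hκκ']
  have hψL : ψ sl23L = Y := by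
    have e : Matrix.SpecialLinearGroup.map c sl23L = κ Y := by
      apply Subtype.ext
      rw [hL₁]
      show c.mapMatrix (sl23L : Matrix (Fin 2) (Fin 2) (ZMod 3)) = !![1, 0; 1, 1]
      ext i j
      fin_cases i <;> fin_cases j <;> simp [sl23L, RingHom.mapMatrix_apply]
    rw [hψapp, e, hκκ']
  have hRψ : ∀ s ∈ R, ∃ g, ψ g = s := by
    intro s hs
    obtain ⟨g, hg⟩ := sl2_mem_range_map (κ s) (hN (κ s) ⟨s, hs, rfl⟩)
    refine ⟨g, ?_⟩
    rw [hψapp, hc, hg, hκκ']
  have hΓeq : R ⊔ Subgroup.zpowers a = ψ.range := by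
    apply le_antisymm
    · apply sup_le
      · intro s hs; exact hRψ s hs
      · rw [Subgroup.zpowers_le]; exact ⟨sl23U, hψU⟩
    · rw [MonoidHom.range_eq_map, ← sl23_closure, MonoidHom.map_closure, Set.image_pair, hψU,
        hψL, Subgroup.closure_le]
      rintro x (rfl | hx)
      · exact Subgroup.mem_sup_right (Subgroup.mem_zpowers _)
      · rw [Set.mem_singleton_iff] at hx
        subst hx
        rw [hY]
        have hr' : r ∈ R ⊔ Subgroup.zpowers a := Subgroup.mem_sup_left hrR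
        have ha' : a ∈ R ⊔ Subgroup.zpowers a := Subgroup.mem_sup_right (Subgroup.mem_zpowers a)
        exact mul_mem (mul_mem hr' (inv_mem ha')) (inv_mem hr')
  obtain ⟨r₀, hr₀⟩ := hRψ r hrR
  have hQ4 : ∀ g, ψ g ∈ R → g ^ 4 = 1 := by
    intro g hg
    apply sl23_pow8
    have h1 : orderOf g ∣ Nat.card R := by
      rw [← orderOf_injective ψ hψinj g]
      exact R.orderOf_dvd_natCard hg
    have h2 : orderOf g ∣ 8 * 3 := orderOf_dvd_of_pow_eq_one (sl23_pow24 g)
    have h3 : (orderOf g).Coprime 3 := Nat.Coprime.coprime_dvd_left h1 hR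
    exact orderOf_dvd_iff_pow_eq_one.mp (h3.dvd_of_dvd_mul_right h2)
  have hr₀4 : r₀ ^ 4 = 1 := hQ4 r₀ (by rw [hr₀]; exact hrR)
  have hr₀U : sl23U * r₀ ≠ r₀ * sl23U := by
    intro hh
    apply hra
    rw [← hψU, ← hr₀, ← map_mul, ← map_mul, hh]
  have hQmem : ∀ g, g ^ 4 = 1 → ψ g ∈ R := by
    intro g hg
    obtain ⟨e, f, rfl⟩ := sl23_q8_gen r₀ g hr₀4 hr₀U hg
    rw [map_mul, map_pow, map_pow, map_mul, map_mul, map_inv, hψU, hr₀]
    exact R.mul_mem (R.pow_mem hrR _) (R.pow_mem (hconjR r hrR) _)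
  obtain ⟨f₈, hf₈⟩ : ∃ f₈ : QuaternionGroup 2 →* Matrix.SpecialLinearGroup (Fin 2) (ZMod 3),
      ∀ x, f₈ x = q8Fun x := ⟨MonoidHom.mk' q8Fun q8Fun_mul, fun x => rfl⟩
  have hf₈inj : Function.Injective (ψ.comp f₈) := by
    intro x y hxy
    apply q8Fun_inj
    have h5 : f₈ x = f₈ y := hψinj hxy
    rw [hf₈, hf₈] at h5
    exact h5
  have hrange : (ψ.comp f₈).range = R := by
    ext s
    constructor
    · rintro ⟨x, rfl⟩
      exact hQmem _ (by rw [hf₈]; exact q8Fun_pow4 x)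
    · intro hs
      obtain ⟨g, rfl⟩ := hRψ s hs
      obtain ⟨x, hx⟩ := q8Fun_surj g (hQ4 g hs)
      refine ⟨x, ?_⟩
      show ψ (f₈ x) = ψ g
      rw [hf₈, hx]
  exact ⟨rfl,
    ⟨((MonoidHom.ofInjective hf₈inj).trans (MulEquiv.subgroupCongr hrange)).symm⟩,
    ⟨(MulEquiv.subgroupCongr hΓeq).trans (MonoidHom.ofInjective hψinj).symm⟩⟩

end Cfsg.Agent.Lib.helper3
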