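import Mathlib
import Cfsg.Prelude.Def_SolvableStructure
import Cfsg.Agent.Lib.helper3.Basic

set_option autoImplicit false
set_option linter.style.haveILetI false

namespace Cfsg.Agent.Lib.helper3

universe u

/-- A `q`-element normalizing a subgroup of `p`-power index (`p ≠ q`) lies in it. -/
theorem mem_of_mem_normalizer_of_index_pow {G : Type u} [Group G] [Finite G] {p q : ℕ}
    (hp : p.Prime) (hq : q.Prime) (hpq : p ≠ q) (K : Subgroup G) {a : ℕ} (hK : K.index = p ^ a)
    {x : G} (hx : x ∈ Subgroup.normalizer (K : Set G)) {b : ℕ} (hxq : x ^ (q ^ b) = 1) :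
    x ∈ K := by
  set N := Subgroup.normalizer (K : Set G) with hN
  have h1 : (K.subgroupOf N).index ∣ p ^ a := by
    rw [← hK]
    exact Subgroup.relIndex_dvd_index_of_le Subgroup.le_normalizer
  obtain ⟨j, _, hj⟩ := (Nat.dvd_prime_pow hp).mp h1
  have hcard : Nat.card (N ⧸ K.subgroupOf N) = p ^ j := hj
  have e1 : (QuotientGroup.mk (⟨x, hx⟩ : N) : N ⧸ K.subgroupOf N) ^ (q ^ b) = 1 := by
    rw [← QuotientGroup.mk_pow]
    have : (⟨x, hx⟩ : N) ^ (q ^ b) = 1 := Subtype.ext (by simpa using hxq)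
    rw [this]; rfl
  have e2 : (QuotientGroup.mk (⟨x, hx⟩ : N) : N ⧸ K.subgroupOf N) ^ (p ^ j) = 1 := by
    rw [← hcard]; exact pow_card_eq_one'
  have hcop : Nat.Coprime (q ^ b) (p ^ j) :=
    Nat.Coprime.pow _ _ ((Nat.coprime_primes hq hp).mpr (Ne.symm hpq))
  have e3 : orderOf (QuotientGroup.mk (⟨x, hx⟩ : N) : N ⧸ K.subgroupOf N) ∣ 1 := by
    have := Nat.dvd_gcd (orderOf_dvd_of_pow_eq_one e1) (orderOf_dvd_of_pow_eq_one e2)
    rwa [hcop] at this
  have e4 := orderOf_eq_one_iff.mp (Nat.dvd_one.mp e3)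
  have e5 := (QuotientGroup.eq_one_iff _).mp e4
  exact Subgroup.mem_subgroupOf.mp e5

theorem not_dvd_card_of_complementSystem {G : Type u} [Group G] [Finite G]
    {K : Nat.Primes → Subgroup G} (hK : Cfsg.IsComplementSystem K) (p : Nat.Primes) :
    ¬ (p : ℕ) ∣ Nat.card (K p) := by
  intro h
  have h1 := Subgroup.card_mul_index (K p)
  rw [hK p] at h1
  obtain ⟨v, hv⟩ : ∃ v, v = (Nat.card G).factorization p := ⟨_, rfl⟩
  rw [← hv] at h1
  have h2 : (p : ℕ) ^ ((Nat.card G).factorization p + 1) ∣ Nat.card G := by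
    rw [← hv]
    have h3 : (p : ℕ) ^ (v + 1) ∣ Nat.card (K p) * (p : ℕ) ^ v := by
      rw [pow_succ, mul_comm]
      exact Nat.mul_dvd_mul h dvd_rfl
    rwa [h1] at h3
  exact Nat.pow_succ_factorization_not_dvd Nat.card_pos.ne' p.2 h2

/-- The system normalizer of a Hall complement system is nilpotent. -/
theorem systemNormalizer_isNilpotent {G : Type u} [Group G] [Finite G]
    (K : Nat.Primes → Subgroup G) (hK : Cfsg.IsComplementSystem K) :
    Group.IsNilpotent (Cfsg.systemNormalizer K) := by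
  set D := Cfsg.systemNormalizer K with hD
  have hDN : ∀ p : Nat.Primes, D ≤ Subgroup.normalizer (K p : Set G) := fun p => iInf_le _ p
  apply ((Group.isNilpotent_of_finite_tfae (G := D)).out 0 3).mpr
  intro q hq Q
  have hqp : q.Prime := hq.out
  set M : Subgroup G := D ⊓ ⨅ (p : Nat.Primes) (_ : (p : ℕ) ≠ q), K p with hM
  have hMmem : ∀ y : G, y ∈ M ↔ y ∈ D ∧ ∀ p : Nat.Primes, (p : ℕ) ≠ q → y ∈ K p := by
    intro y
    rw [hM, Subgroup.mem_inf]
    simp only [Subgroup.mem_iInf]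
  have hMp : IsPGroup q M := by
    intro y
    have hy := (hMmem y).mp y.2
    have hord : orderOf (y : G) = q ^ (orderOf (y : G)).primeFactorsList.length := by
      apply Nat.eq_prime_pow_of_unique_prime_dvd (orderOf_pos (y : G)).ne'
      intro r hr hrd
      by_contra hne
      have hyK : (y : G) ∈ K ⟨r, hr⟩ := hy.2 ⟨r, hr⟩ hne
      have h1 : orderOf (y : G) ∣ Nat.card (K ⟨r, hr⟩) := by
        have := orderOf_dvd_natCard (⟨(y : G), hyK⟩ : K ⟨r, hr⟩)
        rwa [Subgroup.orderOf_mk] at this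
      exact not_dvd_card_of_complementSystem hK ⟨r, hr⟩ (dvd_trans hrd h1)
    refine ⟨(orderOf (y : G)).primeFactorsList.length, ?_⟩
    apply Subtype.ext
    rw [Subgroup.coe_pow, ← hord, pow_orderOf_eq_one]; rfl
  have hM'p : IsPGroup q (M.subgroupOf D) := hMp.comap_subtype
  have hQM : (Q : Subgroup D) ≤ M.subgroupOf D := by
    intro z hz
    rw [Subgroup.mem_subgroupOf, hMmem]
    refine ⟨z.2, fun p hpq => ?_⟩
    obtain ⟨k, hk⟩ := Q.isPGroup' ⟨z, hz⟩
    have hk' : (z : G) ^ (q ^ k) = 1 := by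
      have := congrArg (fun t : (Q : Subgroup D) => ((t : D) : G)) hk
      simpa using this
    exact mem_of_mem_normalizer_of_index_pow p.2 hqp hpq (K p) (hK p) (hDN p z.2) hk'
  have hEq : M.subgroupOf D = (Q : Subgroup D) := Q.is_maximal' hM'p hQM
  rw [← hEq]
  constructor
  intro m hm d
  rw [Subgroup.mem_subgroupOf, hMmem] at hm ⊢
  refine ⟨(d * m * d⁻¹).2, fun p hpq => ?_⟩
  have := (Subgroup.mem_normalizer_iff.mp (hDN p d.2) (m : G)).mp (hm.2 p hpq)
  simpa using this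

end Cfsg.Agent.Lib.helper3
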