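import Mathlib
import Cfsg.Prelude.Def_SolvableStructure
import Cfsg.Agent.Lib.helper3.HallSystem
import Cfsg.Agent.Lib.helper1.Hall

set_option autoImplicit false
set_option linter.style.haveILetI false

namespace Cfsg.Agent.Lib.helper3

universe u

open Pointwise

theorem relIndex_eq_index_of_coprime {G : Type u} [Group G] [Finite G] (H K : Subgroup G)
    (hcop : (H.index).Coprime K.index) : H.relIndex K = H.index := by
  have e1 : H.relIndex K * K.index = (H ⊓ K).index := by
    rw [← Subgroup.inf_relIndex_right]; exact Subgroup.relIndex_mul_index inf_le_right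
  have e2 : K.relIndex H * H.index = (H ⊓ K).index := by
    rw [← Subgroup.inf_relIndex_left]; exact Subgroup.relIndex_mul_index inf_le_left
  have h1 : H.index ∣ H.relIndex K := by
    have : H.index ∣ H.relIndex K * K.index := by rw [e1, ← e2]; exact dvd_mul_left _ _
    exact hcop.dvd_of_dvd_mul_right this
  have h2 : H.relIndex K ≤ H.index := by
    have := Subgroup.relIndex_le_of_le_right (H := H) (le_top : K ≤ ⊤)
      (by rw [Subgroup.relIndex_top_right]; exact Subgroup.index_ne_zero_of_finite)
    rwa [Subgroup.relIndex_top_right] at this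
  have h3 : H.index ≤ H.relIndex K :=
    Nat.le_of_dvd (Nat.pos_of_ne_zero Subgroup.index_ne_zero_of_finite) h1
  exact le_antisymm h2 h3

theorem index_inf_of_coprime {G : Type u} [Group G] [Finite G] (H K : Subgroup G)
    (hcop : (H.index).Coprime K.index) : (H ⊓ K).index = H.index * K.index := by
  rw [← relIndex_eq_index_of_coprime H K hcop, ← Subgroup.inf_relIndex_right]
  exact (Subgroup.relIndex_mul_index inf_le_right).symm

/-- Subgroups of coprime index: `G = K H`. -/
theorem exists_mul_of_coprime_index {G : Type u} [Group G] [Finite G] (H K : Subgroup G)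
    (hcop : (H.index).Coprime K.index) (g : G) : ∃ k ∈ K, ∃ h ∈ H, g = k * h := by
  have h4 := relIndex_eq_index_of_coprime H K hcop
  let f : (K ⧸ H.subgroupOf K) → (G ⧸ H) :=
    fun q => QuotientGroup.mk ((Quotient.out q : K) : G)
  have hinj : Function.Injective f := by
    intro q1 q2 h
    have h' := QuotientGroup.eq.mp h
    have : (QuotientGroup.mk (Quotient.out q1 : K) : K ⧸ H.subgroupOf K) =
        QuotientGroup.mk (Quotient.out q2 : K) := by
      apply QuotientGroup.eq.mpr
      rw [Subgroup.mem_subgroupOf]
      simpa using h'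
    have o1 : (QuotientGroup.mk (Quotient.out q1 : K) : K ⧸ H.subgroupOf K) = q1 :=
      Quotient.out_eq' q1
    have o2 : (QuotientGroup.mk (Quotient.out q2 : K) : K ⧸ H.subgroupOf K) = q2 :=
      Quotient.out_eq' q2
    rw [← o1, ← o2, this]
  have hbij := hinj.bijective_of_nat_card_le (le_of_eq h4.symm)
  obtain ⟨q, hq⟩ := hbij.2 (QuotientGroup.mk g)
  exact ⟨(Quotient.out q : K), (Quotient.out q : K).2, ((Quotient.out q : K) : G)⁻¹ * g,
    QuotientGroup.eq.mp hq, by group⟩

theorem index_biInf_complementSystem {G : Type u} [Group G] [Finite G]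
    (L : Nat.Primes → Subgroup G) (hL : Cfsg.IsComplementSystem L) (T : Finset Nat.Primes) :
    (⨅ p ∈ T, L p).index = ∏ p ∈ T, (p : ℕ) ^ (Nat.card G).factorization p := by
  classical
  induction T using Finset.induction_on with
  | empty => simp
  | insert q T hq ih =>
    rw [Finset.iInf_insert, Finset.prod_insert hq]
    have hcop : ((L q).index).Coprime (⨅ p ∈ T, L p).index := by
      rw [ih, hL q]
      apply Nat.Coprime.prod_right
      intro p hp
      apply Nat.Coprime.pow
      exact (Nat.coprime_primes q.2 p.2).mpr (fun h => hq (by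
        have : q = p := Subtype.ext h
        rw [this]; exact hp))
    rw [index_inf_of_coprime _ _ hcop, ih, hL q]

theorem conj_smul_top {G : Type u} [Group G] (g : G) :
    MulAut.conj g • (⊤ : Subgroup G) = ⊤ := by
  rw [eq_top_iff]
  intro x _
  rw [Subgroup.mem_pointwise_smul_iff_inv_smul_mem]
  trivial

theorem conj_system_aux {G : Type u} [Group G] [Finite G] [Group.IsSolvable G]
    (K L : Nat.Primes → Subgroup G) (hK : Cfsg.IsComplementSystem K)
    (hL : Cfsg.IsComplementSystem L) (T : Finset Nat.Primes) :
    ∃ g : G, ∀ p ∈ T, MulAut.conj g • K p = L p := by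
  classical
  induction T using Finset.induction_on with
  | empty => exact ⟨1, fun p hp => absurd hp (Finset.notMem_empty p)⟩
  | insert q T hq ih =>
    obtain ⟨g, hg⟩ := ih
    set H := ⨅ p ∈ T, L p with hH
    have hHle : ∀ p ∈ T, H ≤ L p := fun p hp => iInf₂_le p hp
    set a := (Nat.card G).factorization q with ha
    have hcardL : Nat.card (L q) * (q : ℕ) ^ a = Nat.card G := by
      have := Subgroup.card_mul_index (L q)
      rwa [hL q] at this
    have hcardK : Nat.card (MulAut.conj g • K q : Subgroup G) * (q : ℕ) ^ a = Nat.card G := by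
      have := Subgroup.card_mul_index (K q)
      rw [hK q] at this
      rw [Cfsg.Agent.Lib.helper1.card_conj_smul]
      exact this
    have hcardKL : Nat.card (MulAut.conj g • K q : Subgroup G) = Nat.card (L q) := by
      have hpos : 0 < (q : ℕ) ^ a := pow_pos q.2.pos _
      exact Nat.eq_of_mul_eq_mul_right hpos (hcardK.trans hcardL.symm)
    have hcop : (Nat.card (L q)).Coprime ((q : ℕ) ^ a) := by
      apply Nat.Coprime.pow_right
      exact ((Nat.Prime.coprime_iff_not_dvd q.2).mpr
        (not_dvd_card_of_complementSystem hL q)).symm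
    obtain ⟨x, hx⟩ := Cfsg.Agent.Lib.helper1.hall_conj (Nat.card (L q)) ((q : ℕ) ^ a)
      hcardL.symm hcop (MulAut.conj g • K q) (L q) hcardKL rfl
    -- indices coprime
    have hidxK : (MulAut.conj g • K q : Subgroup G).index = (q : ℕ) ^ a := by
      have h1 := Subgroup.card_mul_index (MulAut.conj g • K q : Subgroup G)
      rw [← hcardK] at h1
      exact Nat.eq_of_mul_eq_mul_left Nat.card_pos h1
    have hcop2 : ((MulAut.conj g • K q : Subgroup G).index).Coprime H.index := by
      rw [hidxK, hH, index_biInf_complementSystem L hL T]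
      apply Nat.Coprime.prod_right
      intro p hp
      apply Nat.Coprime.pow
      exact (Nat.coprime_primes q.2 p.2).mpr (fun h => hq (by
        have : q = p := Subtype.ext h
        rw [this]; exact hp))
    obtain ⟨h, hhH, k, hk, hxhk⟩ := exists_mul_of_coprime_index
      (MulAut.conj g • K q : Subgroup G) H hcop2 x
    refine ⟨h * g, ?_⟩
    intro p hp
    rw [Cfsg.Agent.Lib.helper1.conj_mul_smul]
    rcases Finset.mem_insert.mp hp with rfl | hpT
    · rw [← hx, hxhk, Cfsg.Agent.Lib.helper1.conj_mul_smul,
        Subgroup.conj_smul_eq_self_of_mem hk]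
    · rw [hg p hpT]
      exact Subgroup.conj_smul_eq_self_of_mem (hHle p hpT hhH)

/-- Two Hall complement systems of a finite solvable group are simultaneously conjugate. -/
theorem conj_system {G : Type u} [Group G] [Finite G] [Group.IsSolvable G]
    (K L : Nat.Primes → Subgroup G) (hK : Cfsg.IsComplementSystem K)
    (hL : Cfsg.IsComplementSystem L) : ∃ g : G, ∀ p : Nat.Primes, MulAut.conj g • K p = L p := by
  classical
  obtain ⟨g, hg⟩ := conj_system_aux K L hK hL ((Nat.card G).primeFactors.subtype Nat.Prime)
  refine ⟨g, fun p => ?_⟩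
  by_cases hp : (p : ℕ) ∈ (Nat.card G).primeFactors
  · exact hg p (Finset.mem_subtype.mpr hp)
  · have h0 : (Nat.card G).factorization p = 0 := by
      rw [← Nat.support_factorization] at hp
      exact Finsupp.notMem_support_iff.mp hp
    have hKt : K p = ⊤ := by
      rw [← Subgroup.index_eq_one, hK p, h0, pow_zero]
    have hLt : L p = ⊤ := by
      rw [← Subgroup.index_eq_one, hL p, h0, pow_zero]
    rw [hKt, hLt, conj_smul_top]

end Cfsg.Agent.Lib.helper3
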