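import Mathlib
import Cfsg.Agent.Lib.helper3.FFMin

set_option autoImplicit false
set_option linter.style.haveILetI false

namespace Cfsg.Agent.Lib.helper3

open scoped commutatorElement

universe u

/-- For elementwise commuting subgroups, `|X ⊔ Y| ≤ |X| |Y|`. -/
theorem card_sup_le_mul_of_commute {G : Type u} [Group G] [Finite G] (X Y : Subgroup G)
    (hcomm : ∀ x ∈ X, ∀ y ∈ Y, x * y = y * x) :
    Nat.card ↥(X ⊔ Y) ≤ Nat.card X * Nat.card Y := by
  have hYX : Y ≤ Subgroup.normalizer (X : Set G) := by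
    apply le_normalizer_of_conj_mem
    intro y hy x hx
    rw [← hcomm x hx y hy, mul_inv_cancel_right]; exact hx
  let f : X × Y → ↥(X ⊔ Y) := fun q =>
    ⟨(q.1 : G) * q.2, mul_mem (le_sup_left (a := X) (b := Y) q.1.2) (le_sup_right (a := X) (b := Y) q.2.2)⟩
  have hf : Function.Surjective f := by
    rintro ⟨g, hg⟩
    obtain ⟨n, hn, a, ha, rfl⟩ :=
      (Cfsg.Agent.Lib.helper8.mem_sup_iff_of_le_normalizer hYX g).mp hg
    exact ⟨(⟨n, hn⟩, ⟨a, ha⟩), rfl⟩
  have := Nat.card_le_card_of_surjective f hf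
  rwa [Nat.card_prod] at this

/-- A join of `m` subgroups of order `p` of an abelian subgroup has order at most `p ^ m`. -/
theorem card_biSup_le {G : Type u} [Group G] [Finite G] {ι : Type*} [DecidableEq ι] (p : ℕ)
    (A : Subgroup G) (hab : ∀ x ∈ A, ∀ y ∈ A, x * y = y * x) (B : ι → Subgroup G)
    (hBA : ∀ i, B i ≤ A) (hBc : ∀ i, Nat.card (B i) = p) (s : Finset ι) :
    Nat.card ↥(⨆ j ∈ s, B j) ≤ p ^ s.card := by
  induction s using Finset.induction_on with
  | empty => simp
  | insert i s hi ih =>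
    rw [Finset.iSup_insert, Finset.card_insert_of_notMem hi, pow_succ, mul_comm]
    have hT : (⨆ j ∈ s, B j) ≤ A := iSup₂_le fun j _ => hBA j
    calc Nat.card ↥(B i ⊔ ⨆ j ∈ s, B j) ≤ Nat.card (B i) * Nat.card ↥(⨆ j ∈ s, B j) :=
          card_sup_le_mul_of_commute _ _ (fun x hx y hy => hab x (hBA i hx) y (hT hy))
      _ ≤ p * p ^ s.card := by rw [hBc i]; exact Nat.mul_le_mul_left p ih

/-- `k` subgroups of prime order `p` generating an abelian group of order `p ^ k` are
independent. -/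
theorem iSupIndep_of_card {G : Type u} [Group G] [Finite G] {p : ℕ} (hp : p.Prime) {k : ℕ}
    (A : Subgroup G) (hab : ∀ x ∈ A, ∀ y ∈ A, x * y = y * x) (B : Fin k → Subgroup G)
    (hBA : ∀ i, B i ≤ A) (hBc : ∀ i, Nat.card (B i) = p) (hsup : ⨆ i, B i = A)
    (hcard : Nat.card A = p ^ k) : iSupIndep B := by
  rw [iSupIndep_def]
  intro i
  rw [disjoint_iff]
  by_contra hne
  have hle : B i ≤ ⨆ (j) (_ : j ≠ i), B j := by
    have hd : Nat.card ↥(B i ⊓ ⨆ (j) (_ : j ≠ i), B j) ∣ p := by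
      rw [← hBc i]; exact Subgroup.card_dvd_of_le inf_le_left
    rcases (Nat.dvd_prime hp).mp hd with h1 | h1
    · exact absurd (Subgroup.card_eq_one.mp h1) hne
    · have : B i ⊓ ⨆ (j) (_ : j ≠ i), B j = B i :=
        Subgroup.eq_of_le_of_card_ge inf_le_left (by rw [h1, hBc i])
      rw [← this]; exact inf_le_right
  have hA : A ≤ ⨆ (j) (_ : j ≠ i), B j := by
    rw [← hsup]
    apply iSup_le
    intro j
    by_cases hj : j = i
    · rw [hj]; exact hle
    · exact le_iSup₂ (f := fun j (_ : j ≠ i) => B j) j hj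
  have hT : (⨆ (j) (_ : j ≠ i), B j) ≤ ⨆ j ∈ Finset.univ.erase i, B j := by
    apply iSup₂_le
    intro j hj
    exact le_iSup₂ (f := fun j (_ : j ∈ Finset.univ.erase i) => B j) j
      (Finset.mem_erase.mpr ⟨hj, Finset.mem_univ j⟩)
  have h1 := Subgroup.card_le_of_le (hA.trans hT)
  have h2 := card_biSup_le p A hab B hBA hBc (Finset.univ.erase i)
  rw [Finset.card_erase_of_mem (Finset.mem_univ i), Finset.card_univ, Fintype.card_fin] at h2
  rw [hcard] at h1
  have hk : 0 < k := i.pos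
  have h3 : p ^ (k - 1) < p ^ k := Nat.pow_lt_pow_right hp.one_lt (by omega)
  omega

theorem iSup_fin_cons {α : Type*} [CompleteLattice α] {k : ℕ} (a : α) (f : Fin k → α) :
    ⨆ i, (Fin.cons a f : Fin (k + 1) → α) i = a ⊔ ⨆ i, f i := by
  apply le_antisymm
  · apply iSup_le
    intro i
    refine Fin.cases ?_ ?_ i
    · rw [Fin.cons_zero]; exact le_sup_left
    · intro j; rw [Fin.cons_succ]; exact le_sup_of_le_right (le_iSup f j)
  · apply sup_le
    · exact le_iSup_of_le 0 (by rw [Fin.cons_zero])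
    · apply iSup_le
      intro j
      exact le_iSup_of_le j.succ (by rw [Fin.cons_succ])

section FF

variable {G : Type u} [Group G] [Finite G] {p : ℕ} [Fact p.Prime] (V H : Subgroup G)

/-- Every best offender is generated by `k` best offenders of order `p`, where `|A| = p^k`. -/
theorem ff_decomp_aux (hV : Cfsg.IsElementaryAbelian p V)
    (hHV : H ≤ Subgroup.normalizer (V : Set G))
    (hf : H ⊓ Subgroup.centralizer (V : Set G) = ⊥)
    (hS1 : Subgroup.centralizer (Cfsg.pPrimeCore p ↥H : Set ↥H) ≤ Cfsg.pPrimeCore p ↥H) :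
    ∀ (n : ℕ) (A : Subgroup G), Nat.card A = n → A ≤ H → Cfsg.IsBestOffenderOn p V A →
      ∃ (k : ℕ) (B : Fin k → Subgroup G),
        (∀ i, B i ≤ A ∧ Cfsg.IsBestOffenderOn p V (B i) ∧ Nat.card (B i) = p) ∧
        ⨆ i, B i = A ∧ Nat.card A = p ^ k := by
  have hp : p.Prime := Fact.out
  intro n
  induction n using Nat.strong_induction_on with
  | _ n ih =>
    intro A hn hAH hA
    by_cases hA1 : A = ⊥
    · subst hA1
      refine ⟨0, fun i => i.elim0, fun i => i.elim0, ?_, ?_⟩
      · rw [iSup_of_empty]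
      · rw [Subgroup.card_bot, pow_zero]
    obtain ⟨B₀, hB₀⟩ := ff_exists_good V H hf hS1 A hAH hA hA1
    obtain ⟨hrel, hBo, -⟩ := ff_good_props V H hV hHV hf A hAH hA B₀ hB₀
    have hcardA : Nat.card B₀ * p = Nat.card A := by
      rw [← hrel]; exact card_mul_relIndex_of_le hB₀.1
    have hlt : Nat.card B₀ < n := by
      rw [← hn, ← hcardA]
      have := Nat.card_pos (α := B₀)
      have := hp.one_lt
      nlinarith
    obtain ⟨k, B, hB, hsup, hcardB⟩ := ih _ hlt B₀ rfl (hB₀.1.trans hAH) hBo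
    -- an offender of order `p` outside `B₀`
    have hex : ∃ A' : Subgroup G, A' ≤ A ∧ Cfsg.IsBestOffenderOn p V A' ∧ Nat.card A' = p ∧
        ¬ A' ≤ B₀ := by
      by_cases huniq : ∀ B', FFGood p H A B' → B' = B₀
      · have hbot := ff_good_unique V H hf hS1 A hAH hA B₀ hB₀ huniq
        refine ⟨A, le_rfl, hA, ?_, ?_⟩
        · rw [← hcardA, hbot, Subgroup.card_bot, one_mul]
        · rw [hbot]; intro h; exact hA1 (le_bot_iff.mp h)
      · push Not at huniq
        obtain ⟨B₁, hB₁, hne⟩ := huniq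
        obtain ⟨hrel₁, hBo₁, -⟩ := ff_good_props V H hV hHV hf A hAH hA B₁ hB₁
        have hcardA₁ : Nat.card B₁ * p = Nat.card A := by
          rw [← hrel₁]; exact card_mul_relIndex_of_le hB₁.1
        have hlt₁ : Nat.card B₁ < n := by
          rw [← hn, ← hcardA₁]
          have := Nat.card_pos (α := B₁)
          have := hp.one_lt
          nlinarith
        obtain ⟨k₁, C, hC, hsupC, -⟩ := ih _ hlt₁ B₁ rfl (hB₁.1.trans hAH) hBo₁
        have hnle : ¬ B₁ ≤ B₀ := by
          intro hle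
          apply hne
          apply Subgroup.eq_of_le_of_card_ge hle
          have : Nat.card B₀ * p = Nat.card B₁ * p := by rw [hcardA, hcardA₁]
          exact (Nat.eq_of_mul_eq_mul_right hp.pos this).le
        have : ∃ i, ¬ C i ≤ B₀ := by
          by_contra hall
          push Not at hall
          exact hnle (hsupC ▸ iSup_le hall)
        obtain ⟨i, hi⟩ := this
        exact ⟨C i, (hC i).1.trans hB₁.1, (hC i).2.1, (hC i).2.2, hi⟩
    obtain ⟨A', hA'A, hA'o, hA'c, hA'n⟩ := hex
    refine ⟨k + 1, Fin.cons A' B, ?_, ?_, ?_⟩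
    · intro i
      refine Fin.cases ?_ ?_ i
      · rw [Fin.cons_zero]; exact ⟨hA'A, hA'o, hA'c⟩
      · intro j; rw [Fin.cons_succ]
        exact ⟨(hB j).1.trans hB₀.1, (hB j).2.1, (hB j).2.2⟩
    · rw [iSup_fin_cons, hsup]
      apply Subgroup.eq_of_le_of_card_ge (sup_le hA'A hB₀.1)
      -- |A' ⊔ B₀| is a multiple of |B₀|, bigger than |B₀|, dividing p |B₀|
      have h1 : Nat.card B₀ * B₀.relIndex (A' ⊔ B₀) = Nat.card ↥(A' ⊔ B₀) :=
        card_mul_relIndex_of_le le_sup_right
      have h2 : Nat.card ↥(A' ⊔ B₀) * (A' ⊔ B₀).relIndex A = Nat.card A :=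
        card_mul_relIndex_of_le (sup_le hA'A hB₀.1)
      have h3 : B₀.relIndex (A' ⊔ B₀) ≠ 1 := by
        intro h
        exact hA'n (le_sup_left.trans (Subgroup.relIndex_eq_one.mp h))
      have h4 : B₀.relIndex (A' ⊔ B₀) * (A' ⊔ B₀).relIndex A = p := by
        have : Nat.card B₀ * (B₀.relIndex (A' ⊔ B₀) * (A' ⊔ B₀).relIndex A) =
            Nat.card B₀ * p := by
          rw [← mul_assoc, h1, h2, hcardA]
        exact Nat.eq_of_mul_eq_mul_left Nat.card_pos this
      have h5 : B₀.relIndex (A' ⊔ B₀) = p := by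
        rcases (Nat.dvd_prime hp).mp (Dvd.intro _ h4) with h | h
        · exact absurd h h3
        · exact h
      rw [← hcardA, ← h1, h5]
    · rw [← hcardA, hcardB, pow_succ]

end FF

end Cfsg.Agent.Lib.helper3
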