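import Mathlib

set_option autoImplicit false

namespace Cfsg.Agent.Lib.helper3

universe u v

/-- The preimage of a maximal subgroup under a surjective homomorphism is maximal. -/
theorem isCoatom_comap_of_surjective {G : Type u} {G' : Type v} [Group G] [Group G'] (f : G →* G')
    (hf : Function.Surjective f) {M : Subgroup G'} (hM : IsCoatom M) : IsCoatom (M.comap f) := by
  constructor
  · intro h
    apply hM.1
    rw [← Subgroup.comap_top f] at h
    exact Subgroup.comap_injective hf h
  · intro K hK
    have hker : f.ker ≤ K := (Subgroup.ker_le_comap f M).trans hK.le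
    have h1 : M ≤ K.map f := by
      have := Subgroup.map_mono (f := f) hK.le
      rwa [Subgroup.map_comap_eq_self_of_surjective hf] at this
    have h2 : M ≠ K.map f := by
      intro h
      have : K ≤ M.comap f := by rw [h]; exact Subgroup.le_comap_map f K
      exact absurd hK (not_lt_of_ge this)
    have h3 : K.map f = ⊤ := hM.2 _ (lt_of_le_of_ne h1 h2)
    have h4 : (K.map f).comap f = K := by rw [Subgroup.comap_map_eq, sup_eq_left.mpr hker]
    rw [← h4, h3, Subgroup.comap_top]

/-- If `N_G(P) ≤ M` for a Sylow `p`-subgroup `P`, then `|G : M| ≡ 1 mod p`. -/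
theorem index_modEq_one_of_normalizer_le {G : Type u} [Group G] [Finite G] {p : ℕ} [Fact p.Prime]
    (P : Sylow p G) (M : Subgroup G) (hM : Subgroup.normalizer (P : Set G) ≤ M) :
    M.index ≡ 1 [MOD p] := by
  have hPM : (P : Subgroup G) ≤ M := Subgroup.le_normalizer.trans hM
  have h1 : Nat.card (Sylow p G) = (Subgroup.normalizer (P : Set G)).index :=
    P.card_eq_index_normalizer
  have h2 : Nat.card (Sylow p M) = (Subgroup.normalizer (P : Set G)).relIndex M := by
    rw [(P.subtype hPM).card_eq_index_normalizer]
    change (Subgroup.normalizer (((P : Subgroup G).subgroupOf M : Subgroup M) : Set M)).index = _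
    rw [← Subgroup.subgroupOf_normalizer_eq hPM]
    rfl
  have h3 := Subgroup.relIndex_mul_index hM
  have h4 : Nat.card (Sylow p G) ≡ 1 [MOD p] := card_sylow_modEq_one p G
  have h5 : Nat.card (Sylow p M) ≡ 1 [MOD p] := card_sylow_modEq_one p M
  rw [h1, ← h3, ← h2] at h4
  have h6 : Nat.card (Sylow p M) * M.index ≡ 1 * M.index [MOD p] := Nat.ModEq.mul_right _ h5
  rw [one_mul] at h6
  exact h6.symm.trans h4

end Cfsg.Agent.Lib.helper3
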