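import Mathlib
import Cfsg.Agent.Lib.helper3.Basic
import Cfsg.Agent.Lib.helper3.Maximal
import Cfsg.Agent.Lib.helper3.Normalizer

set_option autoImplicit false
set_option linter.style.haveILetI false

namespace Cfsg.Agent.Lib.helper3

universe u

/-- All proper subgroups are nilpotent. -/
def PropNil (G : Type u) [Group G] : Prop := ∀ H : Subgroup G, H ≠ ⊤ → Group.IsNilpotent H

theorem PropNil.quotient {G : Type u} [Group G] (h : PropNil G) (N : Subgroup G) [N.Normal] :
    PropNil (G ⧸ N) := by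
  intro K hK
  have hK' : K.comap (QuotientGroup.mk' N) ≠ ⊤ := by
    intro ht
    apply hK
    have h1 := Subgroup.map_comap_eq_self_of_surjective (QuotientGroup.mk'_surjective N) K
    rw [ht, Subgroup.map_top_of_surjective _ (QuotientGroup.mk'_surjective N)] at h1
    exact h1.symm
  haveI := h _ hK'
  exact Group.nilpotent_of_surjective ((QuotientGroup.mk' N).subgroupComap K)
    ((QuotientGroup.mk' N).subgroupComap_surjective_of_surjective K
      (QuotientGroup.mk'_surjective N))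

/-- The conjugate `g M g⁻¹`. -/
def cj {G : Type u} [Group G] (g : G) (M : Subgroup G) : Subgroup G :=
  M.map (MulAut.conj g).toMonoidHom

theorem mem_cj {G : Type u} [Group G] {g x : G} {M : Subgroup G} :
    x ∈ cj g M ↔ ∃ m ∈ M, g * m * g⁻¹ = x := by
  unfold cj
  rw [Subgroup.mem_map]
  rfl

theorem isCoatom_cj {G : Type u} [Group G] (g : G) {M : Subgroup G} (hM : IsCoatom M) :
    IsCoatom (cj g M) := by
  apply isCoatom_map_of_ker_le _ (MulAut.conj g).surjective _ hM
  have : (MulAut.conj g).toMonoidHom.ker = ⊥ :=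
    (MonoidHom.ker_eq_bot_iff _).mpr (MulAut.conj g).injective
  rw [this]; exact bot_le

theorem card_cj {G : Type u} [Group G] (g : G) (M : Subgroup G) :
    Nat.card (cj g M) = Nat.card M :=
  Subgroup.card_map_of_injective (MulAut.conj g).injective

theorem cj_cj {G : Type u} [Group G] (a b : G) (M : Subgroup G) :
    cj a (cj b M) = cj (a * b) M := by
  ext x
  simp only [mem_cj]
  constructor
  · rintro ⟨y, ⟨m, hm, rfl⟩, rfl⟩
    exact ⟨m, hm, by group⟩
  · rintro ⟨m, hm, rfl⟩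
    exact ⟨b * m * b⁻¹, ⟨m, hm, rfl⟩, by group⟩

theorem cj_one {G : Type u} [Group G] (M : Subgroup G) : cj 1 M = M := by
  ext x
  simp only [mem_cj]
  constructor
  · rintro ⟨m, hm, rfl⟩; simpa using hm
  · intro hx; exact ⟨x, hx, by simp⟩

theorem cj_eq_imp_mem_normalizer {G : Type u} [Group G] {a b : G} {M : Subgroup G}
    (h : cj a M = cj b M) : b⁻¹ * a ∈ Subgroup.normalizer (M : Set G) := by
  rw [Subgroup.mem_normalizer_iff]
  intro x
  constructor
  · intro hx
    have h1 : a * x * a⁻¹ ∈ cj b M := h ▸ (mem_cj.mpr ⟨x, hx, rfl⟩)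
    obtain ⟨y, hy, hyx⟩ := mem_cj.mp h1
    have e : b⁻¹ * a * x * (b⁻¹ * a)⁻¹ = y := by
      calc b⁻¹ * a * x * (b⁻¹ * a)⁻¹ = b⁻¹ * (a * x * a⁻¹) * b := by group
        _ = b⁻¹ * (b * y * b⁻¹) * b := by rw [hyx]
        _ = y := by group
    rw [e]; exact hy
  · intro hx
    have h1 : b * (b⁻¹ * a * x * (b⁻¹ * a)⁻¹) * b⁻¹ ∈ cj a M :=
      h ▸ (mem_cj.mpr ⟨_, hx, rfl⟩)
    obtain ⟨y, hy, hyx⟩ := mem_cj.mp h1
    have e : b * (b⁻¹ * a * x * (b⁻¹ * a)⁻¹) * b⁻¹ = a * x * a⁻¹ := by group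
    rw [e] at hyx
    have e2 : x = y := by
      calc x = a⁻¹ * (a * x * a⁻¹) * a := by group
        _ = a⁻¹ * (a * y * a⁻¹) * a := by rw [hyx]
        _ = y := by group
    rw [e2]; exact hy

theorem conj_ne_one {G : Type u} [Group G] {g m : G} (h : m ≠ 1) : g⁻¹ * m * g ≠ 1 := by
  intro h1
  apply h
  calc m = g * (g⁻¹ * m * g) * g⁻¹ := by group
    _ = 1 := by rw [h1]; group


theorem false_of_simple_propNil {G : Type u} [Group G] [Finite G] (h : PropNil G)
    (hs : ∀ N : Subgroup G, N.Normal → N = ⊥ ∨ N = ⊤) (hna : ¬ ∀ a b : G, a * b = b * a) :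
    False := by
  classical
  have hncyc : ∀ x : G, Subgroup.zpowers x ≠ ⊤ := by
    intro x hx
    apply hna
    intro a b
    have ha : a ∈ Subgroup.zpowers x := hx ▸ Subgroup.mem_top a
    have hb : b ∈ Subgroup.zpowers x := hx ▸ Subgroup.mem_top b
    obtain ⟨i, rfl⟩ := Subgroup.mem_zpowers_iff.mp ha
    obtain ⟨j, rfl⟩ := Subgroup.mem_zpowers_iff.mp hb
    exact zpow_mul_comm x i j
  obtain ⟨a0, b0, hab⟩ : ∃ a b : G, a * b ≠ b * a := by push Not at hna; exact hna
  have ha0 : a0 ≠ 1 := by rintro rfl; simp at hab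
  have hbot : ¬ IsCoatom (⊥ : Subgroup G) := by
    intro hco
    have hlt : (⊥ : Subgroup G) < Subgroup.zpowers a0 := by
      rw [bot_lt_iff_ne_bot]; simpa using ha0
    exact hncyc a0 (hco.2 _ hlt)
  have hexco : ∀ x : G, ∃ M : Subgroup G, IsCoatom M ∧ x ∈ M := by
    intro x
    obtain ⟨M, hM, hle⟩ := (eq_top_or_exists_le_coatom _).resolve_left (hncyc x)
    exact ⟨M, hM, hle (Subgroup.mem_zpowers x)⟩
  have hself : ∀ M : Subgroup G, IsCoatom M → Subgroup.normalizer (M : Set G) = M := by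
    intro M hM
    by_contra hne
    have hlt : M < Subgroup.normalizer (M : Set G) :=
      lt_of_le_of_ne Subgroup.le_normalizer (Ne.symm hne)
    have htop := hM.2 _ hlt
    have hMn : M.Normal := Subgroup.normalizer_eq_top_iff.mp htop
    rcases hs M hMn with h1 | h1
    · exact hbot (h1 ▸ hM)
    · exact hM.1 h1
  have hint : ∀ M L : Subgroup G, IsCoatom M → IsCoatom L → M ≠ L → M ⊓ L = ⊥ := by
    by_contra hcon
    push Not at hcon
    obtain ⟨M0, L0, hM0, hL0, hne0, hI0⟩ := hcon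
    let S : Set (Subgroup G) := {I | ∃ M L : Subgroup G, IsCoatom M ∧ IsCoatom L ∧ M ≠ L ∧
      I = M ⊓ L ∧ I ≠ ⊥}
    have hS : S.Nonempty := ⟨M0 ⊓ L0, M0, L0, hM0, hL0, hne0, rfl, hI0⟩
    have hwf : WellFounded (fun a b : Subgroup G => a > b) := wellFounded_gt
    obtain ⟨I, ⟨M, L, hM, hL, hne, rfl, hIne⟩, hmax⟩ := hwf.has_min S hS
    have hInn : ¬ (M ⊓ L).Normal := by
      intro hn
      rcases hs _ hn with h1 | h1
      · exact hIne h1
      · exact hM.1 (top_le_iff.mp (h1 ▸ inf_le_left))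
    have hNtop : Subgroup.normalizer ((M ⊓ L : Subgroup G) : Set G) ≠ ⊤ :=
      fun ht => hInn (Subgroup.normalizer_eq_top_iff.mp ht)
    obtain ⟨H, hH, hNH⟩ := (eq_top_or_exists_le_coatom _).resolve_left hNtop
    have key : ∀ A : Subgroup G, IsCoatom A → M ⊓ L ≤ A → M ⊓ L ≠ A → A = H := by
      intro A hA hIA hIneA
      by_contra hAH
      haveI := h A hA.1
      have hnc : NormalizerCondition A := Group.normalizerCondition_of_isNilpotent
      have hI'lt : (M ⊓ L).subgroupOf A < ⊤ := by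
        rw [lt_top_iff_ne_top]
        intro ht
        rw [Subgroup.subgroupOf_eq_top] at ht
        exact hIneA (le_antisymm hIA ht)
      have hlt := hnc _ hI'lt
      obtain ⟨x, hxN, hxI⟩ := SetLike.exists_of_lt hlt
      rw [← Subgroup.subgroupOf_normalizer_eq hIA, Subgroup.mem_subgroupOf] at hxN
      rw [Subgroup.mem_subgroupOf] at hxI
      have hmem : (x : G) ∈ A ⊓ H := Subgroup.mem_inf.mpr ⟨x.2, hNH hxN⟩
      have hlt2 : M ⊓ L < A ⊓ H := by
        refine lt_of_le_of_ne (le_inf hIA (Subgroup.le_normalizer.trans hNH)) ?_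
        intro heq
        exact hxI (heq ▸ hmem)
      have hmemS : A ⊓ H ∈ S :=
        ⟨A, H, hA, hH, hAH, rfl, fun hb => hIne (le_bot_iff.mp (hb ▸ hlt2.le))⟩
      exact hmax _ hmemS hlt2
    have h1 : M = H := key M hM inf_le_left (fun heq => by
      have hML : M ≤ L := inf_eq_left.mp heq
      exact hne (by
        by_contra hneq
        exact hL.1 (hM.2 L (lt_of_le_of_ne hML hneq))))
    have h2 : L = H := key L hL inf_le_right (fun heq => by
      have hLM : L ≤ M := inf_eq_right.mp heq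
      exact hne (by
        by_contra hneq
        exact hM.1 (hL.2 M (lt_of_le_of_ne hLM (Ne.symm hneq)))))
    exact hne (h1.trans h2.symm)
  have huniq : ∀ A B : Subgroup G, IsCoatom A → IsCoatom B → ∀ x : G, x ≠ 1 → x ∈ A → x ∈ B →
      A = B := by
    intro A B hA hB x hx hxA hxB
    by_contra hne
    have h1 := hint A B hA hB hne
    have hmem : x ∈ A ⊓ B := Subgroup.mem_inf.mpr ⟨hxA, hxB⟩
    rw [h1, Subgroup.mem_bot] at hmem
    exact hx hmem
  have hsyl : ∀ (p : ℕ) [Fact p.Prime] (P : Sylow p G), (P : Subgroup G) ≠ ⊤ := by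
    intro p _ P hP
    have hpg : IsPGroup p G := by
      intro g
      obtain ⟨k, hk⟩ := P.isPGroup' ⟨g, hP ▸ Subgroup.mem_top g⟩
      exact ⟨k, by simpa [Subtype.ext_iff] using hk⟩
    haveI : Nontrivial G := ⟨⟨a0, 1, ha0⟩⟩
    have hc := hpg.center_nontrivial
    rcases hs (Subgroup.center G) inferInstance with h1 | h1
    · exact (Subgroup.nontrivial_iff_ne_bot _).mp hc h1
    · apply hna
      intro a b
      have hb : b ∈ Subgroup.center G := h1 ▸ Subgroup.mem_top b
      exact (Subgroup.mem_center_iff.mp hb a)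
  have hnonconj : ∀ M : Subgroup G, IsCoatom M →
      ∃ K : Subgroup G, IsCoatom K ∧ ∀ g : G, K ≠ cj g M := by
    intro M hM
    by_contra hcon
    push Not at hcon
    have hdvd : Nat.card G ∣ Nat.card M := by
      rw [Nat.dvd_iff_prime_pow_dvd_dvd]
      intro p k hp hpk
      haveI : Fact p.Prime := ⟨hp⟩
      obtain ⟨P⟩ : Nonempty (Sylow p G) := inferInstance
      obtain ⟨K, hK, hPK⟩ := (eq_top_or_exists_le_coatom _).resolve_left (hsyl p P)
      obtain ⟨g, hg⟩ := hcon K hK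
      have h1 : p ^ k ∣ Nat.card P := by
        rw [P.card_eq_multiplicity]
        exact pow_dvd_pow p ((hp.pow_dvd_iff_le_factorization Nat.card_pos.ne').mp hpk)
      have h2 : Nat.card P ∣ Nat.card K := Subgroup.card_dvd_of_le hPK
      rw [hg, card_cj] at h2
      exact h1.trans h2
    have hle : Nat.card G ≤ Nat.card M := Nat.le_of_dvd Nat.card_pos hdvd
    exact hM.1 (Subgroup.eq_top_of_le_card M hle)
  have hinj : ∀ (A : Subgroup G), IsCoatom A → ∀ (S : Set G),
      Subgroup.IsComplement (A : Set G) S →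
      ∀ s ∈ S, ∀ s' ∈ S, ∀ m ∈ A, ∀ m' ∈ A, m ≠ 1 → s⁻¹ * m * s = s'⁻¹ * m' * s' →
      s = s' ∧ m = m' := by
    intro A hA S hS s hs s' hs' m hm m' hm' hm1 heq
    have hx1 : s⁻¹ * m * s ≠ 1 := conj_ne_one hm1
    have hxA : s⁻¹ * m * s ∈ cj s⁻¹ A := mem_cj.mpr ⟨m, hm, by simp⟩
    have hxB : s⁻¹ * m * s ∈ cj s'⁻¹ A := by rw [heq]; exact mem_cj.mpr ⟨m', hm', by simp⟩
    have hcjeq := huniq _ _ (isCoatom_cj s⁻¹ hA) (isCoatom_cj s'⁻¹ hA) _ hx1 hxA hxB
    have hg : s' * s⁻¹ ∈ A := by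
      have h1 := cj_eq_imp_mem_normalizer hcjeq
      rw [hself A hA] at h1
      simpa using h1
    have hss : s = s' := by
      have h2 := hS.1 (a₁ := ((⟨(1 : G), A.one_mem⟩ : {x // x ∈ (A : Set G)}),
        (⟨s', hs'⟩ : {x // x ∈ S})))
        (a₂ := ((⟨s' * s⁻¹, hg⟩ : {x // x ∈ (A : Set G)}), (⟨s, hs⟩ : {x // x ∈ S})))
        (by simp)
      have h3 := congrArg (fun z => (z.2 : G)) h2
      exact h3.symm
    refine ⟨hss, ?_⟩
    subst hss
    calc m = s * (s⁻¹ * m * s) * s⁻¹ := by group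
      _ = s * (s⁻¹ * m' * s) * s⁻¹ := by rw [heq]
      _ = m' := by group
  obtain ⟨M, hM, -⟩ := hexco 1
  obtain ⟨K, hK, hKM⟩ := hnonconj M hM
  obtain ⟨S, hS, -⟩ := Subgroup.exists_isComplement_right M 1
  obtain ⟨T, hT, -⟩ := Subgroup.exists_isComplement_right K 1
  have hcross : ∀ s t m k : G, m ∈ M → k ∈ K → m ≠ 1 → s⁻¹ * m * s = t⁻¹ * k * t → False := by
    intro s t m k hm hk hm1 heq
    have hx1 : s⁻¹ * m * s ≠ 1 := conj_ne_one hm1
    have hxA : s⁻¹ * m * s ∈ cj s⁻¹ M := mem_cj.mpr ⟨m, hm, by simp⟩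
    have hxB : s⁻¹ * m * s ∈ cj t⁻¹ K := by rw [heq]; exact mem_cj.mpr ⟨k, hk, by simp⟩
    have hcjeq := huniq _ _ (isCoatom_cj s⁻¹ hM) (isCoatom_cj t⁻¹ hK) _ hx1 hxA hxB
    apply hKM (t * s⁻¹)
    rw [← cj_cj, hcjeq, cj_cj, mul_inv_cancel, cj_one]
  let F : (S × {m : M // m ≠ 1}) ⊕ (T × {k : K // k ≠ 1}) → {x : G // x ≠ 1} := fun z =>
    match z with
    | Sum.inl sm => ⟨(sm.1 : G)⁻¹ * (sm.2.1 : G) * sm.1,
        conj_ne_one (fun h => sm.2.2 (Subtype.ext h))⟩
    | Sum.inr tk => ⟨(tk.1 : G)⁻¹ * (tk.2.1 : G) * tk.1,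
        conj_ne_one (fun h => tk.2.2 (Subtype.ext h))⟩
  have hF : Function.Injective F := by
    rintro (⟨s, m⟩ | ⟨t, k⟩) (⟨s', m'⟩ | ⟨t', k'⟩) heq
    · have h1 : (s : G)⁻¹ * (m.1 : G) * s = (s' : G)⁻¹ * (m'.1 : G) * s' :=
        congrArg Subtype.val heq
      obtain ⟨e1, e2⟩ := hinj M hM S hS s s.2 s' s'.2 m.1 m.1.2 m'.1 m'.1.2
        (fun h => m.2 (Subtype.ext h)) h1
      congr 1
      exact Prod.ext (Subtype.ext e1) (Subtype.ext (Subtype.ext e2))
    · have h1 : (s : G)⁻¹ * (m.1 : G) * s = (t' : G)⁻¹ * (k'.1 : G) * t' :=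
        congrArg Subtype.val heq
      exact (hcross _ _ _ _ m.1.2 k'.1.2 (fun h => m.2 (Subtype.ext h)) h1).elim
    · have h1 : (t : G)⁻¹ * (k.1 : G) * t = (s' : G)⁻¹ * (m'.1 : G) * s' :=
        congrArg Subtype.val heq
      exact (hcross _ _ _ _ m'.1.2 k.1.2 (fun h => m'.2 (Subtype.ext h)) h1.symm).elim
    · have h1 : (t : G)⁻¹ * (k.1 : G) * t = (t' : G)⁻¹ * (k'.1 : G) * t' :=
        congrArg Subtype.val heq
      obtain ⟨e1, e2⟩ := hinj K hK T hT t t.2 t' t'.2 k.1 k.1.2 k'.1 k'.1.2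
        (fun h => k.2 (Subtype.ext h)) h1
      congr 1
      exact Prod.ext (Subtype.ext e1) (Subtype.ext (Subtype.ext e2))
  have hcard := Nat.card_le_card_of_injective F hF
  rw [Nat.card_sum, Nat.card_prod, Nat.card_prod] at hcard
  have e1 : Nat.card {m : M // m ≠ 1} + 1 = Nat.card M := by
    rw [← Finite.card_option]; exact Nat.card_congr (Equiv.optionSubtypeNe (1 : M))
  have e2 : Nat.card {k : K // k ≠ 1} + 1 = Nat.card K := by
    rw [← Finite.card_option]; exact Nat.card_congr (Equiv.optionSubtypeNe (1 : K))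
  have e3 : Nat.card {x : G // x ≠ 1} + 1 = Nat.card G := by
    rw [← Finite.card_option]; exact Nat.card_congr (Equiv.optionSubtypeNe (1 : G))
  have c1 : Nat.card M * Nat.card S = Nat.card G := hS.card_mul_card
  have c2 : Nat.card K * Nat.card T = Nat.card G := hT.card_mul_card
  have hM2 : 1 < Nat.card M := (Subgroup.one_lt_card_iff_ne_bot M).mpr (fun hb => hbot (hb ▸ hM))
  have hK2 : 1 < Nat.card K := (Subgroup.one_lt_card_iff_ne_bot K).mpr (fun hb => hbot (hb ▸ hK))
  have hX : Nat.card S * Nat.card {m : M // m ≠ 1} + Nat.card S = Nat.card G := by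
    rw [← c1, ← e1]; ring
  have hY : Nat.card T * Nat.card {k : K // k ≠ 1} + Nat.card T = Nat.card G := by
    rw [← c2, ← e2]; ring
  have hXge : Nat.card S ≤ Nat.card S * Nat.card {m : M // m ≠ 1} :=
    Nat.le_mul_of_pos_right _ (by omega)
  have hYge : Nat.card T ≤ Nat.card T * Nat.card {k : K // k ≠ 1} :=
    Nat.le_mul_of_pos_right _ (by omega)
  generalize Nat.card S * Nat.card {m : M // m ≠ 1} = X at *
  generalize Nat.card T * Nat.card {k : K // k ≠ 1} = Y at *
  omega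

/-- A finite group all of whose proper subgroups are nilpotent is solvable. -/
theorem isSolvable_of_propNil_aux : ∀ (n : ℕ) (G : Type u) [Group G] [Finite G],
    Nat.card G = n → PropNil G → Group.IsSolvable G := by
  intro n
  induction n using Nat.strong_induction_on with
  | _ n ih =>
    intro G _ _ hn h
    by_cases hN : ∃ N : Subgroup G, N.Normal ∧ N ≠ ⊥ ∧ N ≠ ⊤
    · obtain ⟨N, hNn, hNb, hNt⟩ := hN
      haveI := hNn
      haveI : Group.IsNilpotent N := h N hNt
      haveI : Group.IsSolvable (G ⧸ N) :=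
        ih _ (hn ▸ card_quotient_lt N hNb) (G ⧸ N) rfl (h.quotient N)
      exact Group.isSolvable_of_ker_le_range N.subtype (QuotientGroup.mk' N) (by simp)
    · push Not at hN
      by_cases hc : ∀ a b : G, a * b = b * a
      · exact Group.isSolvable_of_comm hc
      · exact (false_of_simple_propNil h
          (fun N hNn => or_iff_not_imp_left.mpr (hN N hNn)) hc).elim

theorem isSolvable_of_propNil {G : Type u} [Group G] [Finite G] (h : PropNil G) :
    Group.IsSolvable G :=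
  isSolvable_of_propNil_aux _ G rfl h

end Cfsg.Agent.Lib.helper3
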