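import Mathlib
import Cfsg.Agent.Lib.helper3.SchmidtA
import Cfsg.Agent.Lib.helper3.Solvable

set_option autoImplicit false
set_option linter.style.haveILetI false

namespace Cfsg.Agent.Lib.helper3

universe u

open scoped commutatorElement

theorem isCyclic_quotient_of_normal_coatom {F : Type u} [Group F] {M : Subgroup F} [M.Normal]
    (hM : IsCoatom M) : IsCyclic (F ⧸ M) := by
  obtain ⟨x, hx⟩ : ∃ x, x ∉ M := by
    by_contra h; push Not at h; exact hM.1 (eq_top_iff.mpr fun x _ => h x)
  refine ⟨⟨(QuotientGroup.mk' M x), fun y => ?_⟩⟩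
  have hK : (Subgroup.zpowers (QuotientGroup.mk' M x)).comap (QuotientGroup.mk' M) = ⊤ := by
    apply hM.2
    refine lt_of_le_of_ne ?_ ?_
    · intro m hm
      have hm1 : QuotientGroup.mk' M m = 1 := (QuotientGroup.eq_one_iff m).mpr hm
      rw [Subgroup.mem_comap, hm1]; exact one_mem _
    · intro heq
      apply hx
      rw [heq, Subgroup.mem_comap]; exact Subgroup.mem_zpowers _
  obtain ⟨y', rfl⟩ := QuotientGroup.mk'_surjective M y
  have : y' ∈ (Subgroup.zpowers (QuotientGroup.mk' M x)).comap (QuotientGroup.mk' M) := by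
    rw [hK]; trivial
  exact this

/-- A normal maximal subgroup has prime index. -/
theorem prime_index_of_normal_coatom {F : Type u} [Group F] [Finite F] {M : Subgroup F}
    [M.Normal] (hM : IsCoatom M) : M.index.Prime := by
  haveI hcyc := isCyclic_quotient_of_normal_coatom hM
  letI : CommGroup (F ⧸ M) := hcyc.commGroup
  haveI : Nontrivial (F ⧸ M) := QuotientGroup.nontrivial_iff.mpr hM.1
  haveI : IsSimpleGroup (F ⧸ M) := by
    refine ⟨fun H _ => ?_⟩
    have hle : M ≤ H.comap (QuotientGroup.mk' M) := by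
      intro m hm
      have hm1 : QuotientGroup.mk' M m = 1 := (QuotientGroup.eq_one_iff m).mpr hm
      rw [Subgroup.mem_comap, hm1]; exact one_mem _
    have hmc := Subgroup.map_comap_eq_self_of_surjective (QuotientGroup.mk'_surjective M) H
    by_cases heq : M = H.comap (QuotientGroup.mk' M)
    · left
      rw [← hmc, ← heq, eq_bot_iff]
      rintro _ ⟨m, hm, rfl⟩
      exact (QuotientGroup.eq_one_iff m).mpr hm
    · right
      have htop := hM.2 _ (lt_of_le_of_ne hle heq)
      rw [← hmc, htop, Subgroup.map_top_of_surjective _ (QuotientGroup.mk'_surjective M)]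
  rw [Subgroup.index_eq_card]
  exact IsSimpleGroup.prime_card

/-- A nontrivial finite solvable group has a normal subgroup of prime index. -/
theorem exists_normal_prime_index (G : Type u) [Group G] [Finite G] [Group.IsSolvable G]
    [Nontrivial G] : ∃ M : Subgroup G, M.Normal ∧ M.index.Prime := by
  have hlt : commutator G < ⊤ := Group.IsSolvable.commutator_lt_top_of_nontrivial G
  obtain ⟨M, hM, hle⟩ := (eq_top_or_exists_le_coatom _).resolve_left hlt.ne
  have hMn : M.Normal := by
    constructor
    intro m hm g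
    have e : g * m * g⁻¹ = ⁅g, m⁆ * m := by simp [commutatorElement_def]
    rw [e]
    refine mul_mem (hle ?_) hm
    rw [commutator_def]
    exact Subgroup.commutator_mem_commutator (Subgroup.mem_top g) (Subgroup.mem_top m)
  haveI := hMn
  exact ⟨M, hMn, prime_index_of_normal_coatom hM⟩

theorem sylow_normal_of_ne {G : Type u} [Group G] [Finite G] (M : Subgroup G) [M.Normal]
    [Group.IsNilpotent M] {p : ℕ} (hp : M.index = p) (hpp : p.Prime)
    {r : ℕ} [Fact r.Prime] (hr : r ≠ p) (R : Sylow r G) : (R : Subgroup G).Normal := by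
  obtain ⟨R0⟩ : Nonempty (Sylow r M) := inferInstance
  have hR0n : (R0 : Subgroup M).Normal := inferInstance
  haveI : (R0 : Subgroup M).Characteristic := Sylow.characteristic_of_normal R0 hR0n
  have hn : ((R0 : Subgroup M).map M.subtype).Normal := inferInstance
  have hcard : Nat.card ((R0 : Subgroup M).map M.subtype) = r ^ (Nat.card G).factorization r := by
    rw [Subgroup.card_map_of_injective M.subtype_injective, Sylow.card_eq_multiplicity]
    congr 1
    have h1 := M.card_mul_index
    rw [hp] at h1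
    rw [← h1, Nat.factorization_mul Nat.card_pos.ne' hpp.ne_zero]
    simp [Nat.Prime.factorization hpp, hr.symm]
  exact all_sylow_normal_of_normal (Sylow.ofCard _ hcard) hn R

/-- In a nilpotent subgroup, elements of a `p`-subgroup and of a `q`-subgroup commute. -/
theorem commute_of_nilpotent_of_pgroups {G : Type u} [Group G] [Finite G] (H : Subgroup G)
    [Group.IsNilpotent H] {p q : ℕ} [Fact p.Prime] [Fact q.Prime] (hpq : p ≠ q)
    {X Q : Subgroup G} (hXH : X ≤ H) (hQH : Q ≤ H) (hX : IsPGroup p X) (hQ : IsPGroup q Q)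
    {x y : G} (hx : x ∈ X) (hy : y ∈ Q) : x * y = y * x := by
  obtain ⟨Sp, hSp⟩ := (hX.comap_subtype (K := H)).exists_le_sylow
  obtain ⟨Sq, hSq⟩ := (hQ.comap_subtype (K := H)).exists_le_sylow
  have hSpn : (Sp : Subgroup H).Normal := inferInstance
  have hSqn : (Sq : Subgroup H).Normal := inferInstance
  have hdisj : Disjoint (Sp : Subgroup H) (Sq : Subgroup H) :=
    IsPGroup.disjoint_of_ne p q hpq _ _ Sp.isPGroup' Sq.isPGroup'
  have hxS : (⟨x, hXH hx⟩ : H) ∈ (Sp : Subgroup H) := hSp (by
    rw [Subgroup.mem_comap]; exact hx)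
  have hyS : (⟨y, hQH hy⟩ : H) ∈ (Sq : Subgroup H) := hSq (by
    rw [Subgroup.mem_comap]; exact hy)
  have hc := Subgroup.commute_of_normal_of_disjoint _ _ hSpn hSqn hdisj _ _ hxS hyS
  exact congrArg Subtype.val hc.eq


/-- **Schmidt**: structure of a minimal non-nilpotent group. Also returns the facts used later:
`P` is not normal and elements of proper-subgroup configurations commute. -/
theorem schmidt_structure {G : Type u} [Group G] [Finite G] (hnn : ¬ Group.IsNilpotent G)
    (h : PropNil G) :
    ∃ p q : ℕ, p.Prime ∧ q.Prime ∧ p ≠ q ∧ ∃ (P : Sylow p G) (Q : Sylow q G),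
      IsCyclic P ∧ (Q : Subgroup G).Normal ∧ (P : Subgroup G) ⊔ Q = ⊤ := by
  haveI : Group.IsSolvable G := isSolvable_of_propNil h
  haveI : Nontrivial G := by
    by_contra hnt
    rw [not_nontrivial_iff_subsingleton] at hnt
    exact hnn inferInstance
  obtain ⟨M, hMn, hMp⟩ := exists_normal_prime_index G
  haveI := hMn
  haveI : Fact M.index.Prime := ⟨hMp⟩
  have hMtop : M ≠ ⊤ := by
    intro ht; rw [ht, Subgroup.index_top] at hMp; exact Nat.not_prime_one hMp
  haveI : Group.IsNilpotent M := h M hMtop
  have hr : ∀ (r : ℕ) [Fact r.Prime], r ≠ M.index → ∀ R : Sylow r G, (R : Subgroup G).Normal :=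
    fun r _ hrp R => sylow_normal_of_ne M rfl hMp hrp R
  obtain ⟨P⟩ : Nonempty (Sylow M.index G) := inferInstance
  have hPnn : ¬ (P : Subgroup G).Normal := by
    intro hPn
    apply hnn
    apply ((Group.isNilpotent_of_finite_tfae (G := G)).out 0 3).mpr
    intro r hrf R
    by_cases hrp : r = M.index
    · subst hrp; exact all_sylow_normal_of_normal P hPn R
    · exact hr r hrp R
  have hex : ∃ (q : ℕ) (_ : Fact q.Prime) (Q : Sylow q G),
      q ≠ M.index ∧ (P : Subgroup G) ⊔ Q = ⊤ := by
    by_contra hcon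
    push Not at hcon
    apply hPnn
    rw [← Subgroup.normalizer_eq_top_iff]
    apply Subgroup.eq_top_of_le_card
    apply Nat.le_of_dvd Nat.card_pos
    rw [Nat.dvd_iff_prime_pow_dvd_dvd]
    intro r k hrprime hrk
    haveI : Fact r.Prime := ⟨hrprime⟩
    by_cases hrp : r = M.index
    · subst hrp
      have h1 : M.index ^ k ∣ Nat.card P := by
        rw [P.card_eq_multiplicity]
        exact pow_dvd_pow _ ((hrprime.pow_dvd_iff_le_factorization Nat.card_pos.ne').mp hrk)
      exact h1.trans (Subgroup.card_dvd_of_le Subgroup.le_normalizer)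
    · obtain ⟨Q⟩ : Nonempty (Sylow r G) := inferInstance
      have hne := hcon r inferInstance Q hrp
      haveI := h _ hne
      have hPH : (P : Subgroup G) ≤ (P : Subgroup G) ⊔ Q := le_sup_left
      have hn : ((P.subtype hPH : Sylow M.index ((P : Subgroup G) ⊔ Q : Subgroup G)) :
          Subgroup ((P : Subgroup G) ⊔ Q : Subgroup G)).Normal := inferInstance
      rw [Sylow.coe_subtype] at hn
      have hle : (P : Subgroup G) ⊔ Q ≤ Subgroup.normalizer (P : Set G) :=
        (Subgroup.normal_subgroupOf_iff_le_normalizer hPH).mp hn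
      have h1 : r ^ k ∣ Nat.card Q := by
        rw [Q.card_eq_multiplicity]
        exact pow_dvd_pow r ((hrprime.pow_dvd_iff_le_factorization Nat.card_pos.ne').mp hrk)
      exact h1.trans (Subgroup.card_dvd_of_le (le_sup_right.trans hle))
  obtain ⟨q, hqf, Q, hqp, hPQ⟩ := hex
  haveI := hqf
  have hQn : (Q : Subgroup G).Normal := hr q hqp Q
  haveI := hQn
  refine ⟨M.index, q, hMp, hqf.out, hqp.symm, P, Q, ?_, hQn, hPQ⟩
  by_contra hnc
  apply hPnn
  have hdisj : (P : Subgroup G) ⊓ Q = ⊥ :=
    disjoint_iff.mp (IsPGroup.disjoint_of_ne M.index q hqp.symm _ _ P.isPGroup' Q.isPGroup')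
  have hcardG : Nat.card P * Nat.card Q = Nat.card G := by
    have h2 := card_sup_mul_card_inf_of_normal (P : Subgroup G) (Q : Subgroup G)
    rw [hPQ, hdisj, Subgroup.card_bot, Subgroup.card_top, mul_one] at h2
    exact h2.symm
  have hcomm : ∀ x ∈ (P : Subgroup G), ∀ y ∈ (Q : Subgroup G), x * y = y * x := by
    intro x hx y hy
    have hXP : Subgroup.zpowers x ≤ P := by rw [Subgroup.zpowers_le]; exact hx
    have hXne : Subgroup.zpowers x ≠ P := by
      intro heq
      apply hnc
      exact (Subgroup.isCyclic_iff_exists_zpowers_eq_top _).mpr ⟨x, heq⟩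
    have hHne : Subgroup.zpowers x ⊔ (Q : Subgroup G) ≠ ⊤ := by
      intro ht
      have h3 := card_sup_mul_card_inf_of_normal (Subgroup.zpowers x) (Q : Subgroup G)
      rw [ht, Subgroup.card_top] at h3
      have h4 : Nat.card P ≤ Nat.card (Subgroup.zpowers x) := by
        have hQpos := Nat.card_pos (α := (Q : Subgroup G))
        have hIpos := Nat.card_pos (α := (Subgroup.zpowers x ⊓ (Q : Subgroup G) : Subgroup G))
        have h5 : Nat.card P * Nat.card Q ≤ Nat.card (Subgroup.zpowers x) * Nat.card Q := by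
          rw [hcardG, ← h3]; exact Nat.le_mul_of_pos_right _ hIpos
        exact Nat.le_of_mul_le_mul_right h5 hQpos
      exact hXne (Subgroup.eq_of_le_of_card_ge hXP h4)
    haveI := h _ hHne
    exact commute_of_nilpotent_of_pgroups (Subgroup.zpowers x ⊔ (Q : Subgroup G)) hqp.symm
      le_sup_left le_sup_right (P.isPGroup'.to_le hXP) Q.isPGroup' (Subgroup.mem_zpowers x) hy
  rw [← Subgroup.normalizer_eq_top_iff, eq_top_iff, ← hPQ]
  apply sup_le Subgroup.le_normalizer
  apply le_normalizer_of_conj_mem
  intro y hy x hx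
  have h6 := hcomm x hx y hy
  rw [← h6]; simpa using hx

end Cfsg.Agent.Lib.helper3
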