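import Mathlib
import Cfsg.Prelude.Def_Solvable
import Cfsg.Agent.Lib.helper3.Subnormal
import Cfsg.Agent.Lib.helper3.PLocal

set_option autoImplicit false
set_option linter.style.haveILetI false

namespace Cfsg.Agent.Lib.helper3

universe u

/-- A `p`-subgroup normalized by a subnormal subgroup containing it lies in `O_p(G)`. -/
theorem subnormal_normal_pgroup_le_pCore {G : Type u} [Group G] [Finite G] {p : ℕ}
    [Fact p.Prime] {K : Subgroup G} (hK : K.IsSubnormal) :
    ∀ P : Subgroup G, P ≤ K → IsPGroup p P → K ≤ Subgroup.normalizer (P : Set G) →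
      P ≤ Cfsg.pCore p G := by
  induction hK with
  | top =>
    intro P _ hP hn
    have : P.Normal := Subgroup.normalizer_eq_top_iff.mp (top_le_iff.mp hn)
    exact le_sSup ⟨this, hP⟩
  | step B K hle hK hN ih =>
    intro P hPB hP hn
    have hKB : K ≤ Subgroup.normalizer (B : Set G) :=
      (Subgroup.normal_subgroupOf_iff_le_normalizer hle).1 hN
    let 𝒮 : Set (Subgroup G) :=
      {X | X ≤ B ∧ IsPGroup p X ∧ B ≤ Subgroup.normalizer (X : Set G)}
    have hQK : sSup 𝒮 ≤ K := sSup_le (fun X hX => hX.1.trans hle)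
    have hQp : IsPGroup p (sSup 𝒮 : Subgroup G) := by
      obtain S : Sylow p B := default
      have : sSup 𝒮 ≤ (S : Subgroup B).map B.subtype := by
        apply sSup_le
        rintro X ⟨hXB, hXp, hXn⟩
        have h1 : (X.subgroupOf B).Normal :=
          (Subgroup.normal_subgroupOf_iff_le_normalizer hXB).2 hXn
        have h2 : IsPGroup p (X.subgroupOf B) :=
          hXp.comap_of_injective B.subtype (Subgroup.subtype_injective _)
        have h3 := h2.le_sylow_of_normal S
        intro x hx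
        exact ⟨⟨x, hXB hx⟩, h3 (by rw [Subgroup.mem_subgroupOf]; exact hx), rfl⟩
      exact (S.isPGroup'.map _).to_le this
    have hQn : K ≤ Subgroup.normalizer ((sSup 𝒮 : Subgroup G) : Set G) := by
      apply le_normalizer_of_conj_mem
      intro k hk y hy
      apply sSup_conj_mem _ y hy
      rintro X ⟨hXB, hXp, hXn⟩
      refine ⟨?_, hXp.map _, ?_⟩
      · rintro _ ⟨x, hx, rfl⟩
        exact (Subgroup.mem_normalizer_iff.mp (hKB hk) x).mp (hXB hx)
      · apply le_normalizer_of_conj_mem
        rintro b hb _ ⟨x, hx, rfl⟩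
        have hb' : k⁻¹ * b * k ∈ B := by
          have := (Subgroup.mem_normalizer_iff.mp (inv_mem (hKB hk)) b).mp hb
          simpa using this
        have hx' : (k⁻¹ * b * k) * x * (k⁻¹ * b * k)⁻¹ ∈ X :=
          (Subgroup.mem_normalizer_iff.mp (hXn hb') x).mp hx
        refine ⟨_, hx', ?_⟩
        show k * ((k⁻¹ * b * k) * x * (k⁻¹ * b * k)⁻¹) * k⁻¹ = b * (k * x * k⁻¹) * b⁻¹
        group
    have hPQ : P ≤ sSup 𝒮 := le_sSup ⟨hPB, hP, hn⟩
    exact hPQ.trans (ih _ hQK hQp hQn)

/-- A subnormal `p`-subgroup lies in `O_p(G)`. -/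
theorem subnormal_pgroup_le_pCore3 {G : Type u} [Group G] [Finite G] {p : ℕ}
    [Fact p.Prime] {A : Subgroup G} (hA : A.IsSubnormal) (hAp : IsPGroup p A) :
    A ≤ Cfsg.pCore p G :=
  subnormal_normal_pgroup_le_pCore hA A le_rfl hAp Subgroup.le_normalizer

end Cfsg.Agent.Lib.helper3
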