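import Mathlib
import Cfsg.Agent.Lib.helper3.SchmidtB

set_option autoImplicit false
set_option linter.style.haveILetI false

namespace Cfsg.Agent.Lib.helper3

universe u

/-- A subgroup containing a Sylow `p`-subgroup for every prime `p` is the whole group. -/
theorem eq_top_of_forall_sylow_le {G : Type u} [Group G] [Finite G] (H : Subgroup G)
    (h : ∀ (p : ℕ) [Fact p.Prime], ∃ P : Sylow p G, (P : Subgroup G) ≤ H) : H = ⊤ := by
  apply Subgroup.eq_top_of_le_card
  apply Nat.le_of_dvd Nat.card_pos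
  rw [Nat.dvd_iff_prime_pow_dvd_dvd]
  intro r k hr hrk
  haveI : Fact r.Prime := ⟨hr⟩
  obtain ⟨P, hP⟩ := h r
  have h1 : r ^ k ∣ Nat.card P := by
    rw [P.card_eq_multiplicity]
    exact pow_dvd_pow r ((hr.pow_dvd_iff_le_factorization Nat.card_pos.ne').mp hrk)
  exact h1.trans (Subgroup.card_dvd_of_le hP)

/-- A finite nilpotent group with abelian Sylow subgroups is abelian. -/
theorem comm_of_nilpotent_of_sylow_comm {G : Type u} [Group G] [Finite G] [Group.IsNilpotent G]
    (h : ∀ (p : ℕ) [Fact p.Prime] (P : Sylow p G), ∀ x ∈ (P : Subgroup G),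
      ∀ y ∈ (P : Subgroup G), x * y = y * x) : ∀ a b : G, a * b = b * a := by
  have hc : Subgroup.center G = ⊤ := by
    apply eq_top_of_forall_sylow_le
    intro p _
    obtain ⟨P⟩ : Nonempty (Sylow p G) := inferInstance
    refine ⟨P, fun x hx => ?_⟩
    rw [Subgroup.mem_center_iff]
    have hcx : Subgroup.centralizer ({x} : Set G) = ⊤ := by
      apply eq_top_of_forall_sylow_le
      intro r _
      obtain ⟨R⟩ : Nonempty (Sylow r G) := inferInstance
      refine ⟨R, fun y hy => ?_⟩
      rw [Subgroup.mem_centralizer_iff]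
      rintro _ rfl
      by_cases hrp : r = p
      · subst hrp
        have hPn : (P : Subgroup G).Normal := inferInstance
        haveI := Sylow.unique_of_normal P hPn
        have hRP : R = P := Subsingleton.elim _ _
        exact h r P _ hx y (hRP ▸ hy)
      · have hPn : (P : Subgroup G).Normal := inferInstance
        have hRn : (R : Subgroup G).Normal := inferInstance
        exact (Subgroup.commute_of_normal_of_disjoint _ _ hPn hRn
          (IsPGroup.disjoint_of_ne p r (Ne.symm hrp) _ _ P.isPGroup' R.isPGroup') _ y hx hy).eq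
    intro g
    have hg : g ∈ Subgroup.centralizer ({x} : Set G) := hcx ▸ Subgroup.mem_top g
    exact (Subgroup.mem_centralizer_iff.mp hg x rfl).symm
  intro a b
  have hb : b ∈ Subgroup.center G := hc ▸ Subgroup.mem_top b
  exact Subgroup.mem_center_iff.mp hb a

/-- An element of order prime to `q` normalizing an abelian `q`-group `Q` and centralizing
`Ω₁(Q)` centralizes `Q`. -/
theorem conj_eq_of_trivial_on_omega {G : Type u} [Group G] {q n : ℕ} (hcop : Nat.Coprime n q)
    (Q : Subgroup G) (hQab : ∀ a ∈ Q, ∀ b ∈ Q, a * b = b * a) (x : G) (hxn : x ^ n = 1)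
    (hxQ : ∀ y ∈ Q, x * y * x⁻¹ ∈ Q) (hΩ : ∀ y ∈ Q, y ^ q = 1 → x * y * x⁻¹ = y) :
    ∀ (k : ℕ) (y : G), y ∈ Q → y ^ (q ^ k) = 1 → x * y * x⁻¹ = y := by
  intro k
  induction k with
  | zero => intro y hy h1; rw [pow_zero, pow_one] at h1; rw [h1]; simp
  | succ k ih =>
    intro y hy h1
    have hyq : x * y ^ q * x⁻¹ = y ^ q :=
      ih (y ^ q) (pow_mem hy q) (by rw [← pow_mul, ← pow_succ']; exact h1)
    have hzQ : y⁻¹ * (x * y * x⁻¹) ∈ Q := mul_mem (inv_mem hy) (hxQ y hy)
    have hzq : (y⁻¹ * (x * y * x⁻¹)) ^ q = 1 := by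
      have hc : Commute y⁻¹ (x * y * x⁻¹) := hQab _ (inv_mem hy) _ (hxQ y hy)
      rw [hc.mul_pow, conj_pow, hyq, inv_pow, inv_mul_cancel]
    have hxz := hΩ _ hzQ hzq
    have hxy : x * y * x⁻¹ = y * (y⁻¹ * (x * y * x⁻¹)) := by group
    generalize y⁻¹ * (x * y * x⁻¹) = z at hzQ hzq hxz hxy
    have hm : ∀ m : ℕ, x ^ m * y * (x ^ m)⁻¹ = y * z ^ m := by
      intro m
      induction m with
      | zero => simp
      | succ m ihm =>
        have e1 : x ^ (m + 1) * y * (x ^ (m + 1))⁻¹ = x * (x ^ m * y * (x ^ m)⁻¹) * x⁻¹ := by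
          rw [pow_succ']; group
        have e2 : x * (y * z ^ m) * x⁻¹ = (x * y * x⁻¹) * (x * z * x⁻¹) ^ m := by
          rw [conj_pow]; group
        rw [e1, ihm, e2, hxy, hxz, mul_assoc, ← pow_succ']
    have hzn : z ^ n = 1 := by
      have h2 := hm n
      rw [hxn] at h2
      simpa using h2.symm
    have hz1 : z = 1 := by
      have h1' : orderOf z ∣ n := orderOf_dvd_of_pow_eq_one hzn
      have h2' : orderOf z ∣ q := orderOf_dvd_of_pow_eq_one hzq
      exact orderOf_eq_one_iff.mp
        (Nat.Coprime.eq_one_of_dvd (Nat.Coprime.coprime_dvd_left h1' hcop) h2')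
    rw [hxy, hz1, mul_one]

end Cfsg.Agent.Lib.helper3
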