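import Mathlib

set_option autoImplicit false
set_option linter.style.haveILetI false

namespace Cfsg.Agent.Lib.helper3

open scoped Pointwise

universe u

/-- Product formula `|XY| |X ∩ Y| = |X| |Y|` for the product set of two subgroups. -/
theorem card_setMul_mul_card_inf {G : Type u} [Group G] (X Y : Subgroup G) :
    Nat.card ((X : Set G) * (Y : Set G) : Set G) * Nat.card (X ⊓ Y : Subgroup G) =
      Nat.card X * Nat.card Y := by
  classical
  rw [← Nat.card_prod, ← Nat.card_prod]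
  have hch : ∀ k : ((X : Set G) * (Y : Set G) : Set G), ∃ x ∈ X, ∃ y ∈ Y, x * y = (k : G) := by
    intro k
    obtain ⟨x, hx, y, hy, h⟩ := Set.mem_mul.mp k.2
    exact ⟨x, hx, y, hy, h⟩
  choose cx hcx cy hcy hcxy using hch
  let f : ((X : Set G) * (Y : Set G) : Set G) × (X ⊓ Y : Subgroup G) → X × Y := fun kz =>
    (⟨cx kz.1 * kz.2.1, X.mul_mem (hcx kz.1) (Subgroup.mem_inf.mp kz.2.2).1⟩,
     ⟨(kz.2.1)⁻¹ * cy kz.1, Y.mul_mem (Y.inv_mem (Subgroup.mem_inf.mp kz.2.2).2) (hcy kz.1)⟩)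
  apply Nat.card_congr
  refine Equiv.ofBijective f ⟨?_, ?_⟩
  · rintro ⟨k, z⟩ ⟨k', z'⟩ h
    have h1 : cx k * z.1 = cx k' * z'.1 := congrArg (fun t => (t.1 : G)) h
    have h2 : (z.1)⁻¹ * cy k = (z'.1)⁻¹ * cy k' := congrArg (fun t => (t.2 : G)) h
    have hk : (k : G) = k' := by
      rw [← hcxy k, ← hcxy k']
      calc cx k * cy k = (cx k * z.1) * ((z.1)⁻¹ * cy k) := by group
        _ = (cx k' * z'.1) * ((z'.1)⁻¹ * cy k') := by rw [h1, h2]
        _ = cx k' * cy k' := by group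
    have hk' : k = k' := Subtype.ext hk
    subst hk'
    have hz : (z : G) = z' := mul_left_cancel h1
    rw [Subtype.ext hz]
  · rintro ⟨x, y⟩
    have hk : (x : G) * y ∈ (X : Set G) * (Y : Set G) := Set.mul_mem_mul x.2 y.2
    have hkk := hcxy ⟨(x : G) * y, hk⟩
    have e : (cx ⟨(x : G) * y, hk⟩)⁻¹ * x = cy ⟨(x : G) * y, hk⟩ * (y : G)⁻¹ := by
      rw [inv_mul_eq_iff_eq_mul, ← mul_assoc, hkk]; group
    have hz : (cx ⟨(x : G) * y, hk⟩)⁻¹ * x ∈ X ⊓ Y := by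
      refine Subgroup.mem_inf.mpr ⟨X.mul_mem (X.inv_mem (hcx _)) x.2, ?_⟩
      rw [e]
      exact Y.mul_mem (hcy _) (Y.inv_mem y.2)
    refine ⟨(⟨(x : G) * y, hk⟩, ⟨(cx ⟨(x : G) * y, hk⟩)⁻¹ * x, hz⟩), ?_⟩
    apply Prod.ext
    · apply Subtype.ext
      show cx ⟨(x : G) * y, hk⟩ * ((cx ⟨(x : G) * y, hk⟩)⁻¹ * x) = x
      group
    · apply Subtype.ext
      show ((cx ⟨(x : G) * y, hk⟩)⁻¹ * x)⁻¹ * cy ⟨(x : G) * y, hk⟩ = y
      rw [e]; group

/-- If `G = HK` then `|G| |H ∩ K| = |H| |K|`. -/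
theorem card_mul_card_inf_of_factorization {G : Type u} [Group G] (H K : Subgroup G)
    (hHK : ∀ g : G, ∃ h ∈ H, ∃ k ∈ K, g = h * k) :
    Nat.card G * Nat.card (H ⊓ K : Subgroup G) = Nat.card H * Nat.card K := by
  rw [← card_setMul_mul_card_inf H K]
  congr 1
  have : ((H : Set G) * (K : Set G) : Set G) = Set.univ := by
    ext g
    simp only [Set.mem_univ, iff_true]
    obtain ⟨h, hh, k, hk, rfl⟩ := hHK g
    exact Set.mul_mem_mul hh hk
  rw [this, Nat.card_congr (Equiv.Set.univ G)]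

end Cfsg.Agent.Lib.helper3
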