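import Mathlib
import Cfsg.Agent.Lib.helper3.QuadPairGroup
import Cfsg.Agent.S0199

set_option autoImplicit false
set_option linter.style.haveILetI false

namespace Cfsg.Agent.Lib.helper3

universe u w

/-- A finite commutative `2`-group with at most one involution is cyclic. -/
theorem isCyclic_of_comm_unique_involution {A : Type*} [Group A] [Finite A]
    (hcomm : ∀ x y : A, x * y = y * x) (h2 : IsPGroup 2 A)
    (hz : ∀ x y : A, x ^ 2 = 1 → y ^ 2 = 1 → x ≠ 1 → y ≠ 1 → x = y) : IsCyclic A := by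
  classical
  obtain ⟨x, hx⟩ := Finite.exists_max (fun a : A => orderOf a)
  obtain ⟨m, hm⟩ := (IsPGroup.iff_orderOf.mp h2) x
  refine ⟨x, ?_⟩
  have key : ∀ n : ℕ, ∀ y : A, orderOf y = n → y ∈ Subgroup.zpowers x := by
    intro n
    induction n using Nat.strong_induction_on with
    | _ n ih =>
      intro y hy
      obtain ⟨k, hk⟩ := (IsPGroup.iff_orderOf.mp h2) y
      rcases Nat.eq_zero_or_pos k with h0 | h0
      · rw [h0, pow_zero, orderOf_eq_one_iff] at hk
        rw [hk]; exact Subgroup.one_mem _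
      · have hkm : k ≤ m := by
          have := hx y
          rw [hk, hm] at this
          exact (Nat.pow_le_pow_iff_right (by norm_num)).mp this
        have hy1 : (y ^ (2 ^ (k - 1))) ^ 2 = 1 := by
          rw [← pow_mul, ← pow_succ, Nat.sub_add_cancel h0, ← hk, pow_orderOf_eq_one]
        have hy2 : y ^ (2 ^ (k - 1)) ≠ 1 := by
          apply pow_ne_one_of_lt_orderOf (by positivity)
          rw [hk]; exact Nat.pow_lt_pow_right (by norm_num) (by omega)
        obtain ⟨w, hw⟩ : ∃ w : A, w = x ^ (2 ^ (m - k)) := ⟨_, rfl⟩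
        have hw1 : (w ^ (2 ^ (k - 1))) ^ 2 = 1 := by
          rw [hw, ← pow_mul, ← pow_mul, ← pow_succ, ← pow_add]
          have : m - k + (k - 1 + 1) = m := by omega
          rw [this, ← hm, pow_orderOf_eq_one]
        have hw2 : w ^ (2 ^ (k - 1)) ≠ 1 := by
          rw [hw, ← pow_mul, ← pow_add]
          apply pow_ne_one_of_lt_orderOf (by positivity)
          rw [hm]; exact Nat.pow_lt_pow_right (by norm_num) (by omega)
        have heq := hz _ _ hy1 hw1 hy2 hw2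
        have h3 : (y * w⁻¹) ^ (2 ^ (k - 1)) = 1 := by
          rw [(show Commute y w⁻¹ from hcomm y w⁻¹).mul_pow, inv_pow, heq, mul_inv_cancel]
        have h4 : orderOf (y * w⁻¹) < n := by
          have h5 := Nat.le_of_dvd (by positivity) (orderOf_dvd_of_pow_eq_one h3)
          rw [← hy, hk]
          exact lt_of_le_of_lt h5 (Nat.pow_lt_pow_right (by norm_num) (by omega))
        have h6 := ih _ h4 (y * w⁻¹) rfl
        have h7 : w ∈ Subgroup.zpowers x := by
          rw [hw]; exact Subgroup.pow_mem _ (Subgroup.mem_zpowers x) _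
        have : y = (y * w⁻¹) * w := by group
        rw [this]; exact Subgroup.mul_mem _ h6 h7
  exact fun y => key _ y rfl

/-- In `SL₂(K)` with `2 ≠ 0`, the only involution is `-1`. -/
theorem sl2_sq_one_entries {K : Type*} [Field K] (h2 : (2 : K) ≠ 0)
    (g : Matrix.SpecialLinearGroup (Fin 2) K) (hg : g * g = 1) (hg1 : g ≠ 1) :
    (g : Matrix (Fin 2) (Fin 2) K) = -1 := by
  have hdet := g.det_coe
  rw [Matrix.det_fin_two] at hdet
  have hc := congrArg
    (fun x : Matrix.SpecialLinearGroup (Fin 2) K => (x : Matrix (Fin 2) (Fin 2) K)) hg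
  simp only [Matrix.SpecialLinearGroup.coe_mul, Matrix.SpecialLinearGroup.coe_one] at hc
  have c00 := congrFun (congrFun hc 0) 0
  have c01 := congrFun (congrFun hc 0) 1
  have c10 := congrFun (congrFun hc 1) 0
  simp only [Matrix.mul_apply, Fin.sum_univ_two, Matrix.one_apply_eq, Matrix.one_apply_ne,
    ne_eq, not_false_eq_true, zero_ne_one, one_ne_zero, Fin.isValue] at c00 c01 c10
  obtain ⟨a, ha⟩ : ∃ a : K, a = (g : Matrix (Fin 2) (Fin 2) K) 0 0 := ⟨_, rfl⟩
  obtain ⟨b, hb⟩ : ∃ b : K, b = (g : Matrix (Fin 2) (Fin 2) K) 0 1 := ⟨_, rfl⟩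
  obtain ⟨c, hc'⟩ : ∃ c : K, c = (g : Matrix (Fin 2) (Fin 2) K) 1 0 := ⟨_, rfl⟩
  obtain ⟨d, hd⟩ : ∃ d : K, d = (g : Matrix (Fin 2) (Fin 2) K) 1 1 := ⟨_, rfl⟩
  rw [← ha, ← hb, ← hc', ← hd] at hdet
  rw [← ha, ← hb, ← hc'] at c00
  rw [← ha, ← hb, ← hd] at c01
  rw [← ha, ← hc', ← hd] at c10
  have hs : a * (a + d) = 2 := by linear_combination c00 + hdet
  have hne : a + d ≠ 0 := by
    intro h; rw [h, mul_zero] at hs; exact h2 hs.symm
  have hb0 : b = 0 := by
    have : b * (a + d) = 0 := by linear_combination c01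
    exact (mul_eq_zero.mp this).resolve_right hne
  have hc0 : c = 0 := by
    have : c * (a + d) = 0 := by linear_combination c10
    exact (mul_eq_zero.mp this).resolve_right hne
  have ha2 : a * a = 1 := by rw [hb0] at c00; linear_combination c00
  have had : a * d = 1 := by rw [hb0] at hdet; linear_combination hdet
  have hane : a ≠ 0 := by rintro rfl; simp at ha2
  have hd' : d = a := by
    have : a * (d - a) = 0 := by linear_combination had - ha2
    exact sub_eq_zero.mp ((mul_eq_zero.mp this).resolve_left hane)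
  have ha1 : a = 1 ∨ a = -1 := by
    have : (a - 1) * (a + 1) = 0 := by linear_combination ha2
    rcases mul_eq_zero.mp this with h | h
    · left; exact sub_eq_zero.mp h
    · right; exact eq_neg_of_add_eq_zero_left h
  rcases ha1 with h | h
  · exfalso
    apply hg1
    apply Subtype.ext
    rw [Matrix.SpecialLinearGroup.coe_one]
    ext i j
    fin_cases i <;> fin_cases j
    · simpa using ha.symm.trans h
    · simpa using hb.symm.trans hb0
    · simpa using hc'.symm.trans hc0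
    · simpa using hd.symm.trans (hd'.trans h)
  · ext i j
    fin_cases i <;> fin_cases j
    · simpa using ha.symm.trans h
    · simpa using hb.symm.trans hb0
    · simpa using hc'.symm.trans hc0
    · simpa using hd.symm.trans (hd'.trans h)

/-- A finite group with a cyclic Sylow `2`-subgroup that is generated by elements of odd order has
odd order. -/
theorem odd_card_of_cyclic_sylow2 {Γ : Type*} [Group Γ] [Finite Γ] (T : Sylow 2 Γ)
    (hT : IsCyclic T) (S : Set Γ) (hS : Subgroup.closure S = ⊤)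
    (hSo : ∀ s ∈ S, ∃ m : ℕ, Odd m ∧ s ^ m = 1) : Odd (Nat.card Γ) := by
  classical
  by_contra hodd
  rw [Nat.not_odd_iff_even, even_iff_two_dvd] at hodd
  have hmin : (Nat.card Γ).minFac = 2 := (Nat.minFac_eq_two_iff _).mpr hodd
  have hcomp := hT.isComplement' hmin
  obtain ⟨τ, hτ⟩ : ∃ τ : Γ →* ↥(T : Subgroup Γ),
      τ = MonoidHom.transferSylow T (hT.normalizer_le_centralizer hmin) := ⟨_, rfl⟩
  rw [← hτ] at hcomp
  have hker : τ.ker = ⊤ := by
    rw [eq_top_iff, ← hS, Subgroup.closure_le]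
    intro s hs
    obtain ⟨m, hm, hsm⟩ := hSo s hs
    rw [SetLike.mem_coe, MonoidHom.mem_ker]
    have h1 : (τ s) ^ m = 1 := by rw [← map_pow, hsm, map_one]
    obtain ⟨k, hk⟩ := T.isPGroup' (τ s)
    have h2 : orderOf (τ s) ∣ Nat.gcd m (2 ^ k) :=
      Nat.dvd_gcd (orderOf_dvd_of_pow_eq_one h1) (orderOf_dvd_of_pow_eq_one hk)
    have h3 : Nat.gcd m (2 ^ k) = 1 := Nat.Coprime.pow_right k (Nat.coprime_two_right.mpr hm)
    rw [h3, Nat.dvd_one, orderOf_eq_one_iff] at h2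
    exact h2
  have h4 := hcomp.index_eq_card
  rw [hker, Subgroup.card_top] at h4
  exact T.not_dvd_index (h4 ▸ hodd)

/-- Variant of `quad_pair_odd`: `p` odd and the Sylow `2`-subgroups of `G` abelian. -/
theorem quad_pair_sylow2 {E : Type u} [CommGroup E] [Finite E] {p : ℕ} [Fact p.Prime]
    (hp2 : p ≠ 2)
    (hexp : ∀ x : E, x ^ p = 1) {G : Type w} [Group G] [Finite G] (α : G →* MulAut E) (a b : G)
    (hgen : Subgroup.closure {a, b} = ⊤)
    (ha : ∀ x : E, α a (α a x / x) = α a x / x) (hb : ∀ x : E, α b (α b x / x) = α b x / x)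
    (T : Sylow 2 G) (hT : ∀ x ∈ T, ∀ y ∈ T, x * y = y * x) :
    ∀ g : G, ∃ j : ℕ, α g ^ (p ^ j) = 1 := by
  classical
  have hp : p.Prime := Fact.out
  by_contra hcon
  push Not at hcon
  obtain ⟨n, φ, hφ1, g₀, hg₀⟩ := quad_pair_abstract hexp α a b hgen ha hb hcon
  haveI : Finite φ.range := Finite.of_surjective φ.rangeRestrict φ.rangeRestrict_surjective
  have h2K : (2 : GaloisField p n) ≠ 0 := by
    intro h
    have h' : ((2 : ℕ) : GaloisField p n) = 0 := by exact_mod_cast h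
    rw [CharP.cast_eq_zero_iff (GaloisField p n) p] at h'
    exact hp2 ((Nat.prime_dvd_prime_iff_eq hp Nat.prime_two).mp h')
  obtain ⟨T₂, hT₂⟩ : ∃ T₂ : Sylow 2 φ.range,
      (T₂ : Subgroup φ.range) = (T : Subgroup G).map φ.rangeRestrict :=
    ⟨T.mapSurjective φ.rangeRestrict_surjective, Sylow.coe_mapSurjective _ _⟩
  have hT₂c : ∀ x y : ↥(T₂ : Subgroup φ.range), x * y = y * x := by
    intro x y
    have hx : (x : φ.range) ∈ (T : Subgroup G).map φ.rangeRestrict := hT₂ ▸ x.2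
    have hy : (y : φ.range) ∈ (T : Subgroup G).map φ.rangeRestrict := hT₂ ▸ y.2
    obtain ⟨x', hx', hxe⟩ := hx
    obtain ⟨y', hy', hye⟩ := hy
    apply Subtype.ext
    rw [Subgroup.coe_mul, Subgroup.coe_mul, ← hxe, ← hye, ← map_mul, ← map_mul,
      hT x' hx' y' hy']
  have hT₂z : ∀ x y : ↥(T₂ : Subgroup φ.range), x ^ 2 = 1 → y ^ 2 = 1 → x ≠ 1 → y ≠ 1 →
      x = y := by
    intro x y hx hy hx1 hy1
    have hx' : ((x : φ.range) : Matrix.SpecialLinearGroup (Fin 2) (GaloisField p n)) *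
        ((x : φ.range) : Matrix.SpecialLinearGroup (Fin 2) (GaloisField p n)) = 1 := by
      have := congrArg (fun t : ↥(T₂ : Subgroup φ.range) =>
        ((t : φ.range) : Matrix.SpecialLinearGroup (Fin 2) (GaloisField p n))) hx
      simpa [pow_two] using this
    have hy' : ((y : φ.range) : Matrix.SpecialLinearGroup (Fin 2) (GaloisField p n)) *
        ((y : φ.range) : Matrix.SpecialLinearGroup (Fin 2) (GaloisField p n)) = 1 := by
      have := congrArg (fun t : ↥(T₂ : Subgroup φ.range) =>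
        ((t : φ.range) : Matrix.SpecialLinearGroup (Fin 2) (GaloisField p n))) hy
      simpa [pow_two] using this
    have hx1' : ((x : φ.range) : Matrix.SpecialLinearGroup (Fin 2) (GaloisField p n)) ≠ 1 :=
      fun h => hx1 (Subtype.ext (Subtype.ext h))
    have hy1' : ((y : φ.range) : Matrix.SpecialLinearGroup (Fin 2) (GaloisField p n)) ≠ 1 :=
      fun h => hy1 (Subtype.ext (Subtype.ext h))
    have e1 := sl2_sq_one_entries h2K _ hx' hx1'
    have e2 := sl2_sq_one_entries h2K _ hy' hy1'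
    apply Subtype.ext
    apply Subtype.ext
    apply Subtype.ext
    rw [e1, e2]
  have hcyc : IsCyclic ↥(T₂ : Subgroup φ.range) :=
    isCyclic_of_comm_unique_involution hT₂c T₂.isPGroup' hT₂z
  have hS : Subgroup.closure ({φ.rangeRestrict a, φ.rangeRestrict b} : Set φ.range) = ⊤ := by
    have h1 := MonoidHom.map_closure φ.rangeRestrict ({a, b} : Set G)
    rw [hgen, Subgroup.map_top_of_surjective _ φ.rangeRestrict_surjective, Set.image_pair] at h1
    exact h1.symm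
  have hSp1 : ∀ s ∈ ({φ.rangeRestrict a, φ.rangeRestrict b} : Set φ.range), s ^ p = 1 := by
    intro s hs
    rcases hs with rfl | hs
    · rw [← map_pow]
      apply Subtype.ext
      show φ (a ^ p) = 1
      exact hφ1 _ (by rw [map_pow]; exact mulAut_quad_pow_prime hexp _ ha)
    · rw [Set.mem_singleton_iff] at hs
      subst hs
      rw [← map_pow]
      apply Subtype.ext
      show φ (b ^ p) = 1
      exact hφ1 _ (by rw [map_pow]; exact mulAut_quad_pow_prime hexp _ hb)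
  have hSp : ∀ s ∈ ({φ.rangeRestrict a, φ.rangeRestrict b} : Set φ.range),
      ∃ j : ℕ, s ^ (p ^ j) = 1 := fun s hs => ⟨1, by rw [pow_one]; exact hSp1 s hs⟩
  have hodd' : Odd (Nat.card φ.range) :=
    odd_card_of_cyclic_sylow2 T₂ hcyc _ hS
      (fun s hs => ⟨p, hp.odd_of_ne_two hp2, hSp1 s hs⟩)
  have hP := sl2_odd_isPGroup (p := p) φ.range.subtype φ.range.subtype_injective hodd' _ hS hSp
  obtain ⟨j, hj⟩ := hP (φ.rangeRestrict g₀)
  apply hg₀ j
  have := congrArg Subtype.val hj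
  simpa using this

/-- If a Sylow `p`-subgroup is commutative, every `p`-subgroup is commutative. -/
theorem psubgroup_comm_of_sylow_comm {G : Type*} [Group G] [Finite G] {p : ℕ} [Fact p.Prime]
    (T : Sylow p G) (hT : ∀ x ∈ T, ∀ y ∈ T, x * y = y * x) (Q : Subgroup G)
    (hQ : IsPGroup p Q) : ∀ x ∈ Q, ∀ y ∈ Q, x * y = y * x := by
  obtain ⟨Q', hQ'⟩ := hQ.exists_le_sylow
  obtain ⟨g, hg⟩ := MulAction.exists_smul_eq G T Q'
  have key : ∀ x ∈ Q, g⁻¹ * x * g ∈ T := by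
    intro x hx
    have h1 : x ∈ (Q' : Subgroup G) := hQ' hx
    rw [← hg, Sylow.coe_subgroup_smul, Subgroup.mem_pointwise_smul_iff_inv_smul_mem] at h1
    have h2 : g⁻¹ * x * g ∈ (T : Subgroup G) := by simpa [MulAut.smul_def] using h1
    exact h2
  intro x hx y hy
  have h1 := hT _ (key x hx) _ (key y hy)
  have h2 : g⁻¹ * (x * y) * g = g⁻¹ * (y * x) * g := by
    calc g⁻¹ * (x * y) * g = (g⁻¹ * x * g) * (g⁻¹ * y * g) := by group
      _ = (g⁻¹ * y * g) * (g⁻¹ * x * g) := h1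
      _ = g⁻¹ * (y * x) * g := by group
  exact mul_left_cancel (mul_right_cancel h2)

/-- If a Sylow `2`-subgroup of `H` is commutative, every `2`-subgroup of `G` inside `H` is. -/
theorem two_subgroups_comm_of_sylow {G : Type*} [Group G] [Finite G] (H : Subgroup G)
    (T : Sylow 2 H) (hT : IsMulCommutative T) :
    ∀ Q : Subgroup G, IsPGroup 2 Q → Q ≤ H → ∀ x ∈ Q, ∀ y ∈ Q, x * y = y * x := by
  intro Q hQ hQH x hx y hy
  have hQ' : IsPGroup 2 (Q.subgroupOf H) := by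
    rintro ⟨z, hz⟩
    obtain ⟨k, hk⟩ := hQ ⟨(z : G), Subgroup.mem_subgroupOf.mp hz⟩
    refine ⟨k, ?_⟩
    apply Subtype.ext
    apply Subtype.ext
    have := congrArg Subtype.val hk
    simpa using this
  have hTc : ∀ x ∈ T, ∀ y ∈ T, x * y = y * x := by
    intro x hx y hy
    have := hT.is_comm.comm (⟨x, hx⟩ : ↥T) ⟨y, hy⟩
    exact congrArg Subtype.val this
  have h1 := psubgroup_comm_of_sylow_comm T hTc (Q.subgroupOf H) hQ'
    ⟨x, hQH hx⟩ (Subgroup.mem_subgroupOf.mpr hx) ⟨y, hQH hy⟩ (Subgroup.mem_subgroupOf.mpr hy)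
  exact congrArg Subtype.val h1

/-- Concrete version of `quad_pair_sylow2` inside a group. -/
theorem quad_pair_sylow2_subgroup {Y : Type u} [Group Y] [Finite Y] {p : ℕ} [Fact p.Prime]
    (hp2 : p ≠ 2)
    (V : Subgroup Y) (hVc : ∀ x ∈ V, ∀ y ∈ V, x * y = y * x) (hVe : ∀ x ∈ V, x ^ p = 1)
    (a b : Y) (haV : a ∈ Subgroup.normalizer (V : Set Y))
    (hbV : b ∈ Subgroup.normalizer (V : Set Y))
    (ha : ∀ v ∈ V, a * (a * v * a⁻¹ * v⁻¹) * a⁻¹ = a * v * a⁻¹ * v⁻¹)
    (hb : ∀ v ∈ V, b * (b * v * b⁻¹ * v⁻¹) * b⁻¹ = b * v * b⁻¹ * v⁻¹)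
    (h2 : ∀ Q : Subgroup Y, IsPGroup 2 Q → Q ≤ Subgroup.closure ({a, b} : Set Y) →
      ∀ x ∈ Q, ∀ y ∈ Q, x * y = y * x) :
    ∀ h ∈ Subgroup.closure ({a, b} : Set Y),
      ∃ j : ℕ, h ^ (p ^ j) ∈ Subgroup.centralizer (V : Set Y) := by
  classical
  letI : CommGroup ↥V :=
    { (inferInstance : Group ↥V) with
      mul_comm := fun x y => Subtype.ext (hVc x x.2 y y.2) }
  have hHN : Subgroup.closure ({a, b} : Set Y) ≤ Subgroup.normalizer (V : Set Y) := by
    rw [Subgroup.closure_le]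
    intro x hx
    rcases hx with rfl | hx
    · exact haV
    · rw [Set.mem_singleton_iff] at hx; subst hx; exact hbV
  obtain ⟨α, hα⟩ : ∃ α : ↥(Subgroup.closure ({a, b} : Set Y)) →* MulAut ↥V,
      ∀ (g : ↥(Subgroup.closure ({a, b} : Set Y))) (v : ↥V),
        ((α g v : ↥V) : Y) = (g : Y) * v * (g : Y)⁻¹ :=
    ⟨(Subgroup.normalizerMonoidHom V).comp (Subgroup.inclusion hHN), fun g v => rfl⟩
  obtain ⟨a', ha'⟩ : ∃ a' : ↥(Subgroup.closure ({a, b} : Set Y)), (a' : Y) = a :=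
    ⟨⟨a, Subgroup.subset_closure (by simp)⟩, rfl⟩
  obtain ⟨b', hb'⟩ : ∃ b' : ↥(Subgroup.closure ({a, b} : Set Y)), (b' : Y) = b :=
    ⟨⟨b, Subgroup.subset_closure (by simp)⟩, rfl⟩
  have hgen : Subgroup.closure ({a', b'} : Set ↥(Subgroup.closure ({a, b} : Set Y))) = ⊤ := by
    have h1 := Subgroup.closure_closure_coe_preimage (k := ({a, b} : Set Y))
    have h2 : (Subtype.val ⁻¹' ({a, b} : Set Y) :
        Set ↥(Subgroup.closure ({a, b} : Set Y))) = {a', b'} := by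
      ext x
      simp only [Set.mem_preimage, Set.mem_insert_iff, Set.mem_singleton_iff]
      rw [Subtype.ext_iff, Subtype.ext_iff, ha', hb']
    rw [← h2]; exact h1
  have hexp : ∀ x : ↥V, x ^ p = 1 := fun x => Subtype.ext (hVe x x.2)
  have hqa : ∀ x : ↥V, α a' (α a' x / x) = α a' x / x := by
    intro x
    apply Subtype.ext
    rw [hα, Subgroup.coe_div, hα, ha', div_eq_mul_inv]
    exact ha x x.2
  have hqb : ∀ x : ↥V, α b' (α b' x / x) = α b' x / x := by
    intro x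
    apply Subtype.ext
    rw [hα, Subgroup.coe_div, hα, hb', div_eq_mul_inv]
    exact hb x x.2
  obtain ⟨T⟩ : Nonempty (Sylow 2 ↥(Subgroup.closure ({a, b} : Set Y))) := inferInstance
  have hTc : ∀ x ∈ T, ∀ y ∈ T, x * y = y * x := by
    intro x hx y hy
    have h3 := h2 ((T : Subgroup ↥(Subgroup.closure ({a, b} : Set Y))).map
      (Subgroup.closure ({a, b} : Set Y)).subtype) (T.isPGroup'.map _)
      (by rintro _ ⟨z, -, rfl⟩; exact z.2)
      x ⟨x, hx, rfl⟩ y ⟨y, hy, rfl⟩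
    exact Subtype.ext h3
  have key := quad_pair_sylow2 hp2 hexp α a' b' hgen hqa hqb T hTc
  intro h hh
  obtain ⟨j, hj⟩ := key ⟨h, hh⟩
  refine ⟨j, ?_⟩
  refine Subgroup.mem_centralizer_iff.mpr ?_
  intro v hv
  rw [← map_pow] at hj
  have h3 := hα (⟨h, hh⟩ ^ (p ^ j)) ⟨v, hv⟩
  rw [hj] at h3
  have h4 : v = h ^ (p ^ j) * v * (h ^ (p ^ j))⁻¹ := h3
  calc v * h ^ (p ^ j) = (h ^ (p ^ j) * v * (h ^ (p ^ j))⁻¹) * h ^ (p ^ j) := by rw [← h4]
    _ = h ^ (p ^ j) * v := by group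

/-- From `[[V, ⟨a⟩], ⟨a⟩] = 1` to the elementwise quadratic condition. -/
theorem quad_of_comm_comm_eq_bot {G : Type*} [Group G] (V : Subgroup G) (a : G)
    (hq : ⁅⁅V, Subgroup.zpowers a⁆, Subgroup.zpowers a⁆ = ⊥) :
    ∀ v ∈ V, a * (a * v * a⁻¹ * v⁻¹) * a⁻¹ = a * v * a⁻¹ * v⁻¹ := by
  intro k hk
  have haA : a ∈ Subgroup.zpowers a := Subgroup.mem_zpowers a
  have h1 : k * a * k⁻¹ * a⁻¹ ∈ ⁅V, Subgroup.zpowers a⁆ :=
    Subgroup.commutator_mem_commutator hk haA
  obtain ⟨c, hc⟩ : ∃ c : G, c = k * a * k⁻¹ * a⁻¹ := ⟨_, rfl⟩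
  rw [← hc] at h1
  have h2 : c * a * c⁻¹ * a⁻¹ ∈ ⁅⁅V, Subgroup.zpowers a⁆, Subgroup.zpowers a⁆ :=
    Subgroup.commutator_mem_commutator h1 haA
  rw [hq, Subgroup.mem_bot] at h2
  have hcomm : Commute c a := by
    have h3 : c * a * c⁻¹ = a := mul_inv_eq_one.mp h2
    show c * a = a * c
    calc c * a = (c * a * c⁻¹) * c := by group
      _ = a * c := by rw [h3]
  have hcinv : a * k * a⁻¹ * k⁻¹ = c⁻¹ := by
    rw [hc]; group
  rw [hcinv]
  have h4 := hcomm.inv_left.eq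
  calc a * c⁻¹ * a⁻¹ = (c⁻¹ * a) * a⁻¹ := by rw [h4]
    _ = c⁻¹ := by group

/-- Conjugates of quadratically acting elements by elements normalizing `V` act quadratically. -/
theorem quad_conj {G : Type*} [Group G] (V : Subgroup G) (a g : G)
    (hg : g ∈ Subgroup.normalizer (V : Set G))
    (ha : ∀ v ∈ V, a * (a * v * a⁻¹ * v⁻¹) * a⁻¹ = a * v * a⁻¹ * v⁻¹) :
    ∀ v ∈ V, (g * a * g⁻¹) * ((g * a * g⁻¹) * v * (g * a * g⁻¹)⁻¹ * v⁻¹) * (g * a * g⁻¹)⁻¹ =
      (g * a * g⁻¹) * v * (g * a * g⁻¹)⁻¹ * v⁻¹ := by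
  intro v hv
  have hw : g⁻¹ * v * g ∈ V := by
    have h1 := (Subgroup.mem_normalizer_iff.mp (Subgroup.inv_mem _ hg) v).mp hv
    simpa using h1
  have h1 := ha _ hw
  have h2 : g * (a * (a * (g⁻¹ * v * g) * a⁻¹ * (g⁻¹ * v * g)⁻¹) * a⁻¹) * g⁻¹ =
      g * (a * (g⁻¹ * v * g) * a⁻¹ * (g⁻¹ * v * g)⁻¹) * g⁻¹ := by rw [h1]
  calc (g * a * g⁻¹) * ((g * a * g⁻¹) * v * (g * a * g⁻¹)⁻¹ * v⁻¹) * (g * a * g⁻¹)⁻¹
      = g * (a * (a * (g⁻¹ * v * g) * a⁻¹ * (g⁻¹ * v * g)⁻¹) * a⁻¹) * g⁻¹ := by group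
    _ = g * (a * (g⁻¹ * v * g) * a⁻¹ * (g⁻¹ * v * g)⁻¹) * g⁻¹ := h2
    _ = (g * a * g⁻¹) * v * (g * a * g⁻¹)⁻¹ * v⁻¹ := by group

/-- Two quadratically acting generators of a faithful non-`p`-group `H` force non-abelian Sylow
`2`-subgroups (`p` odd). -/
theorem sylow2_nonabelian_quad_pair {G : Type u} [Group G] [Finite G] {p : ℕ} [Fact p.Prime]
    (hp : p ≠ 2) (V H : Subgroup G) (hVc : ∀ x ∈ V, ∀ y ∈ V, x * y = y * x)
    (hVe : ∀ x ∈ V, x ^ p = 1) (hHV : H ≤ Subgroup.normalizer (V : Set G))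
    (hf : H ⊓ Subgroup.centralizer (V : Set G) = ⊥) (a b : G)
    (hab : H = Subgroup.closure {a, b})
    (ha : ⁅⁅V, Subgroup.zpowers a⁆, Subgroup.zpowers a⁆ = ⊥)
    (hb : ⁅⁅V, Subgroup.zpowers b⁆, Subgroup.zpowers b⁆ = ⊥) (hnp : ¬ IsPGroup p H)
    (T : Sylow 2 H) : ¬ IsMulCommutative T := by
  intro hTc
  have h2sub := two_subgroups_comm_of_sylow H T hTc
  have haH : a ∈ H := by rw [hab]; exact Subgroup.subset_closure (by simp)
  have hbH : b ∈ H := by rw [hab]; exact Subgroup.subset_closure (by simp)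
  have hcl := quad_pair_sylow2_subgroup hp V hVc hVe a b (hHV haH) (hHV hbH)
    (quad_of_comm_comm_eq_bot V a ha) (quad_of_comm_comm_eq_bot V b hb)
    (fun Q hQ hQle => h2sub Q hQ (by rw [hab]; exact hQle))
  apply hnp
  rintro ⟨h, hh⟩
  obtain ⟨j, hj⟩ := hcl h (by rw [← hab]; exact hh)
  refine ⟨j, Subtype.ext ?_⟩
  have h1 : h ^ (p ^ j) ∈ H ⊓ Subgroup.centralizer (V : Set G) := ⟨H.pow_mem hh _, hj⟩
  rw [hf, Subgroup.mem_bot] at h1
  simpa using h1

/-- If `H` acts faithfully on the elementary abelian `p`-group `V` (`p` odd) with abelian Sylow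
`2`-subgroups, every quadratically acting element of `H` lies in a normal `p`-subgroup of `H`. -/
theorem quad_mem_normal_p_of_sylow2_comm {G : Type u} [Group G] [Finite G] {p : ℕ}
    [Fact p.Prime] (hp : p ≠ 2) (V H : Subgroup G) (hVc : ∀ x ∈ V, ∀ y ∈ V, x * y = y * x)
    (hVe : ∀ x ∈ V, x ^ p = 1) (hHV : H ≤ Subgroup.normalizer (V : Set G))
    (hf : H ⊓ Subgroup.centralizer (V : Set G) = ⊥) (a : G) (haH : a ∈ H)
    (hq : ⁅⁅V, Subgroup.zpowers a⁆, Subgroup.zpowers a⁆ = ⊥) (T : Sylow 2 H)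
    (hTc : IsMulCommutative T) :
    ∃ N : Subgroup ↥H, N.Normal ∧ IsPGroup p N ∧ (⟨a, haH⟩ : ↥H) ∈ N := by
  have h2sub := two_subgroups_comm_of_sylow H T hTc
  have hqa := quad_of_comm_comm_eq_bot V a hq
  have key : ∀ g ∈ H, ∀ h ∈ Subgroup.closure ({a, g * a * g⁻¹} : Set G),
      ∃ j : ℕ, h ^ (p ^ j) = 1 := by
    intro g hg h hh
    have hle : Subgroup.closure ({a, g * a * g⁻¹} : Set G) ≤ H := by
      rw [Subgroup.closure_le]
      intro x hx
      rcases hx with rfl | hx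
      · exact haH
      · rw [Set.mem_singleton_iff] at hx; subst hx
        exact H.mul_mem (H.mul_mem hg haH) (H.inv_mem hg)
    have hcl := quad_pair_sylow2_subgroup hp V hVc hVe a (g * a * g⁻¹) (hHV haH)
      (hHV (hle (Subgroup.subset_closure (by simp)))) hqa (quad_conj V a g (hHV hg) hqa)
      (fun Q hQ hQle => h2sub Q hQ (hQle.trans hle))
    obtain ⟨j, hj⟩ := hcl h hh
    refine ⟨j, ?_⟩
    have h1 : h ^ (p ^ j) ∈ H ⊓ Subgroup.centralizer (V : Set G) := ⟨H.pow_mem (hle hh) _, hj⟩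
    rw [hf, Subgroup.mem_bot] at h1
    exact h1
  obtain ⟨x, hx⟩ : ∃ x : ↥H, x = ⟨a, haH⟩ := ⟨_, rfl⟩
  have hXp : IsPGroup p (Subgroup.zpowers x) := by
    rintro ⟨y, hy⟩
    have h1 : (y : G) ∈ Subgroup.closure ({a, 1 * a * 1⁻¹} : Set G) := by
      obtain ⟨i, rfl⟩ := Subgroup.mem_zpowers_iff.mp hy
      rw [hx]
      simp only [Subgroup.coe_zpow]
      exact Subgroup.zpow_mem _ (Subgroup.subset_closure (by simp)) _
    obtain ⟨j, hj⟩ := key 1 H.one_mem _ h1
    exact ⟨j, Subtype.ext (Subtype.ext (by simpa using hj))⟩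
  have hBS : ∀ g : ↥H, IsPGroup p ↥(Subgroup.zpowers x ⊔
      (Subgroup.zpowers x).map (MulAut.conj g).toMonoidHom) := by
    intro g
    have hle : Subgroup.zpowers x ⊔ (Subgroup.zpowers x).map (MulAut.conj g).toMonoidHom ≤
        (Subgroup.closure ({a, (g : G) * a * (g : G)⁻¹} : Set G)).subgroupOf H := by
      apply sup_le
      · rw [Subgroup.zpowers_le, Subgroup.mem_subgroupOf, hx]
        exact Subgroup.subset_closure (by simp)
      · rw [MonoidHom.map_zpowers, Subgroup.zpowers_le, Subgroup.mem_subgroupOf, hx]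
        exact Subgroup.subset_closure (by simp)
    rintro ⟨y, hy⟩
    obtain ⟨j, hj⟩ := key g g.2 _ (Subgroup.mem_subgroupOf.mp (hle hy))
    refine ⟨j, Subtype.ext (Subtype.ext ?_)⟩
    show (y : G) ^ (p ^ j) = 1
    exact hj
  obtain ⟨N, hNn, hNp, hxN⟩ := Cfsg.Agent.S0199.result (Subgroup.zpowers x) hXp hBS
  exact ⟨N, hNn, hNp, hx ▸ hxN (Subgroup.mem_zpowers x)⟩

end Cfsg.Agent.Lib.helper3
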