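import Mathlib
import Cfsg.Agent.Lib.helper3.QuadPairGroup

set_option autoImplicit false
set_option linter.style.haveILetI false

/-! Tracked versions of the quadratic-pair reduction to `SL₂`: a given element which does not act
as a `p`-element keeps this property in the two-dimensional section. -/

namespace Cfsg.Agent.Lib.helper3

universe u v w

/-- The irreducible case of `quad_pair_sl2`. -/
theorem quad_pair_irred_tr {K : Type u} [Field K] [Fintype K] {p : ℕ} [Fact p.Prime] [CharP K p]
    {G : Type w} [Group G] (a b : G) (hgen : Subgroup.closure {a, b} = ⊤)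
    (W : Type v) [AddCommGroup W] [Module K W] [FiniteDimensional K W]
    (ρ : G →* Module.End K W)
    (ha : ∀ x : W, ρ a (ρ a x - x) = ρ a x - x) (hb : ∀ x : W, ρ b (ρ b x - x) = ρ b x - x)
    (g₀ : G) (hg₀ : ∀ j : ℕ, ρ g₀ ^ (p ^ j) ≠ 1)
    (hord : ∃ e k : ℕ, ρ (a * b) ^ (p ^ e * k) = 1 ∧ k ∣ Fintype.card K - 1)
    (hirr : ∀ U : Submodule K W, (∀ g : G, ∀ x ∈ U, ρ g x ∈ U) → U = ⊥ ∨ U = ⊤) :
    ∃ φ : G →* Matrix.SpecialLinearGroup (Fin 2) K,
      (∀ g : G, ρ g = 1 → φ g = 1) ∧ ∀ j : ℕ, φ g₀ ^ (p ^ j) ≠ 1 := by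
  classical
  have hp : p.Prime := Fact.out
  have htriv : (∀ x : W, ρ a x = x) → (∀ x : W, ρ b x = x) → False := by
    intro h1 h2
    apply hg₀ 0
    rw [pow_zero, pow_one]
    exact rep_trivial_of_gens ρ a b hgen h1 h2 g₀
  haveI : Nontrivial W := by
    by_contra hcon
    rw [not_nontrivial_iff_subsingleton] at hcon
    exact htriv (fun x => Subsingleton.elim _ _) (fun x => Subsingleton.elim _ _)
  obtain ⟨e, k, hT, hk⟩ := hord
  obtain ⟨μ, x, hx0, hTx⟩ := exists_eigen_of_pow_eq_one (ρ (a * b)) e k hT hk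
  have hab : ρ a (ρ b x) = μ • x := by rw [← hTx, map_mul]; rfl
  have hE : ρ b x = μ • (x - (ρ a x - x)) := by
    have := congrArg (ρ a⁻¹) hab
    rw [rep_inv_apply, map_smul, quad_inv_apply ρ a ha] at this
    exact this
  have hμ : μ ≠ 0 := by
    rintro rfl
    rw [zero_smul] at hab
    have := congrArg (ρ b⁻¹) (congrArg (ρ a⁻¹) hab)
    rw [rep_inv_apply, rep_inv_apply, map_zero, map_zero] at this
    exact hx0 this
  obtain ⟨u₁, hu₁⟩ : ∃ u₁ : W, u₁ = ρ a x - x := ⟨_, rfl⟩
  obtain ⟨u₂, hu₂⟩ : ∃ u₂ : W, u₂ = ρ b x - x := ⟨_, rfl⟩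
  have hax : ρ a x = x + u₁ := by rw [hu₁]; abel
  have hbx : ρ b x = x + u₂ := by rw [hu₂]; abel
  have a_u₁ : ρ a u₁ = u₁ := by rw [hu₁]; exact ha x
  have b_u₂ : ρ b u₂ = u₂ := by rw [hu₂]; exact hb x
  have e1 : u₂ = (μ - 1) • x - μ • u₁ := by
    rw [hu₂, hE, ← hu₁]
    module
  have e2 : u₁ = μ⁻¹ • ((μ - 1) • x - u₂) := by
    rw [e1, sub_sub_cancel, smul_smul, inv_mul_cancel₀ hμ, one_smul]
  have a_u₂ : ρ a u₂ = u₂ + (μ - 1) • u₁ := by
    calc ρ a u₂ = ρ a ((μ - 1) • x - μ • u₁) := by rw [← e1]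
      _ = (μ - 1) • (x + u₁) - μ • u₁ := by rw [map_sub, map_smul, map_smul, a_u₁, hax]
      _ = ((μ - 1) • x - μ • u₁) + (μ - 1) • u₁ := by module
      _ = u₂ + (μ - 1) • u₁ := by rw [← e1]
  have b_u₁ : ρ b u₁ = u₁ + (μ⁻¹ * (μ - 1)) • u₂ := by
    calc ρ b u₁ = ρ b (μ⁻¹ • ((μ - 1) • x - u₂)) := by rw [← e2]
      _ = μ⁻¹ • ((μ - 1) • (x + u₂) - u₂) := by rw [map_smul, map_sub, map_smul, b_u₂, hbx]
      _ = μ⁻¹ • ((μ - 1) • x - u₂) + (μ⁻¹ * (μ - 1)) • u₂ := by module
      _ = u₁ + (μ⁻¹ * (μ - 1)) • u₂ := by rw [← e2]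
  obtain ⟨U, hUdef⟩ : ∃ U : Submodule K W, U = Submodule.span K (({u₁, u₂} : Finset W) : Set W) :=
    ⟨_, rfl⟩
  have hu₁U : u₁ ∈ U := by
    rw [hUdef]; exact Submodule.subset_span (by simp)
  have hu₂U : u₂ ∈ U := by
    rw [hUdef]; exact Submodule.subset_span (by simp)
  have hUa : ∀ y ∈ U, ρ a y ∈ U := by
    have : U ≤ U.comap (ρ a) := by
      conv_lhs => rw [hUdef]
      rw [Submodule.span_le]
      intro y hy
      simp only [Finset.coe_insert, Finset.coe_singleton, Set.mem_insert_iff,
        Set.mem_singleton_iff] at hy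
      rcases hy with rfl | rfl
      · show ρ a y ∈ U
        rw [a_u₁]; exact hu₁U
      · show ρ a y ∈ U
        rw [a_u₂]; exact U.add_mem hu₂U (U.smul_mem _ hu₁U)
    exact fun y hy => this hy
  have hUb : ∀ y ∈ U, ρ b y ∈ U := by
    have : U ≤ U.comap (ρ b) := by
      conv_lhs => rw [hUdef]
      rw [Submodule.span_le]
      intro y hy
      simp only [Finset.coe_insert, Finset.coe_singleton, Set.mem_insert_iff,
        Set.mem_singleton_iff] at hy
      rcases hy with rfl | rfl
      · show ρ b y ∈ U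
        rw [b_u₁]; exact U.add_mem hu₁U (U.smul_mem _ hu₂U)
      · show ρ b y ∈ U
        rw [b_u₂]; exact hu₂U
    exact fun y hy => this hy
  have hUa' : ∀ y ∈ U, ρ a⁻¹ y ∈ U := by
    intro y hy
    rw [quad_inv_apply ρ a ha]
    exact U.sub_mem hy (U.sub_mem (hUa y hy) hy)
  have hUb' : ∀ y ∈ U, ρ b⁻¹ y ∈ U := by
    intro y hy
    rw [quad_inv_apply ρ b hb]
    exact U.sub_mem hy (U.sub_mem (hUb y hy) hy)
  have hUinv := rep_invariant_of_gens ρ a b hgen U hUa hUa' hUb hUb'
  rcases hirr U hUinv with hbot | htop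
  · exfalso
    have h1 : u₁ = 0 := by
      have := hu₁U; rw [hbot] at this; exact (Submodule.mem_bot K).mp this
    have h2 : u₂ = 0 := by
      have := hu₂U; rw [hbot] at this; exact (Submodule.mem_bot K).mp this
    rw [h1, add_zero] at hax
    rw [h2, add_zero] at hbx
    obtain ⟨U', hU'def⟩ : ∃ U' : Submodule K W, U' = Submodule.span K ({x} : Set W) := ⟨_, rfl⟩
    have hfix : ∀ y ∈ U', ρ a y = y ∧ ρ b y = y := by
      intro y hy
      rw [hU'def, Submodule.mem_span_singleton] at hy
      obtain ⟨c, rfl⟩ := hy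
      rw [map_smul, map_smul, hax, hbx]
      exact ⟨rfl, rfl⟩
    have hU'inv : ∀ g : G, ∀ y ∈ U', ρ g y ∈ U' := by
      apply rep_invariant_of_gens ρ a b hgen U'
      · intro y hy; rw [(hfix y hy).1]; exact hy
      · intro y hy; rw [quad_inv_apply ρ a ha, (hfix y hy).1, sub_self, sub_zero]; exact hy
      · intro y hy; rw [(hfix y hy).2]; exact hy
      · intro y hy; rw [quad_inv_apply ρ b hb, (hfix y hy).2, sub_self, sub_zero]; exact hy
    have hxU' : x ∈ U' := by rw [hU'def]; exact Submodule.mem_span_singleton_self x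
    rcases hirr U' hU'inv with h | h
    · rw [h] at hxU'
      exact hx0 ((Submodule.mem_bot K).mp hxU')
    · have hall : ∀ y : W, y ∈ U' := fun y => by rw [h]; exact Submodule.mem_top
      exact htriv (fun y => (hfix y (hall y)).1) (fun y => (hfix y (hall y)).2)
  · have hfr : Module.finrank K W ≤ 2 := by
      have h1 : Module.finrank K (⊤ : Submodule K W) = Module.finrank K W := finrank_top K W
      rw [← h1, ← htop, hUdef]
      exact (finrank_span_finset_le_card ({u₁, u₂} : Finset W)).trans Finset.card_le_two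
    by_cases h2 : Module.finrank K W = 2
    · obtain ⟨bas⟩ : Nonempty (Module.Basis (Fin 2) K W) := ⟨Module.finBasisOfFinrankEq K W h2⟩
      have hdet : ∀ g : G, LinearMap.det (ρ g) = 1 := by
        intro g
        have hg : g ∈ Subgroup.closure {a, b} := by rw [hgen]; exact Subgroup.mem_top g
        induction hg using Subgroup.closure_induction with
        | mem s hs =>
          rcases hs with rfl | hs
          · exact det_eq_one_of_quad (p := p) _ ha
          · rw [Set.mem_singleton_iff] at hs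
            subst hs
            exact det_eq_one_of_quad (p := p) _ hb
        | one => rw [map_one, map_one]
        | mul y z _ _ hy hz => rw [map_mul, map_mul, hy, hz, one_mul]
        | inv y _ hy =>
          have h3 : LinearMap.det (ρ y⁻¹) * LinearMap.det (ρ y) = 1 := by
            rw [← map_mul, ← map_mul, inv_mul_cancel, map_one, map_one]
          rw [hy, mul_one] at h3
          exact h3
      obtain ⟨φ, hφ⟩ : ∃ φ : G →* Matrix.SpecialLinearGroup (Fin 2) K,
          ∀ g : G, ((φ g : Matrix.SpecialLinearGroup (Fin 2) K) : Matrix (Fin 2) (Fin 2) K)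
            = LinearMap.toMatrix bas bas (ρ g) := by
        refine ⟨{ toFun := fun g => ⟨LinearMap.toMatrix bas bas (ρ g), by
                    rw [LinearMap.det_toMatrix]; exact hdet g⟩
                  map_one' := ?_
                  map_mul' := ?_ }, fun g => rfl⟩
        · apply Subtype.ext
          show LinearMap.toMatrix bas bas (ρ 1) = 1
          rw [map_one, LinearMap.toMatrix_one]
        · intro g h
          apply Subtype.ext
          show LinearMap.toMatrix bas bas (ρ (g * h))
            = LinearMap.toMatrix bas bas (ρ g) * LinearMap.toMatrix bas bas (ρ h)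
          rw [map_mul, LinearMap.toMatrix_mul]
      refine ⟨φ, ?_, ?_⟩
      · intro g hg
        apply Subtype.ext
        rw [hφ, hg, LinearMap.toMatrix_one]
        rfl
      · intro j hj
        apply hg₀ j
        have h3 : LinearMap.toMatrix bas bas (ρ g₀ ^ (p ^ j)) = 1 := by
          rw [← map_pow ρ, ← hφ, map_pow, hj]
          rfl
        apply (LinearMap.toMatrix bas bas).injective
        rw [h3, LinearMap.toMatrix_one]
    · exfalso
      have h1 : Module.finrank K W ≤ 1 := by omega
      obtain ⟨v₀, hv₀⟩ := finrank_le_one_iff.mp h1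
      have hone : ∀ c : G, (∀ y : W, ρ c (ρ c y - y) = ρ c y - y) → ∀ y : W, ρ c y = y := by
        intro c hc
        obtain ⟨t, ht⟩ := hv₀ (ρ c v₀ - v₀)
        have h3 := hc v₀
        rw [← ht, map_smul] at h3
        have h4 : t • (ρ c v₀ - v₀) = 0 := by
          rw [smul_sub, h3, sub_self]
        rw [← ht, smul_smul] at h4
        have h5 : ρ c v₀ = v₀ := by
          rcases smul_eq_zero.mp h4 with h | h
          · have ht0 : t = 0 := mul_self_eq_zero.mp h
            rw [ht0, zero_smul] at ht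
            exact (sub_eq_zero.mp ht.symm)
          · rw [h, map_zero]
        intro y
        obtain ⟨s, rfl⟩ := hv₀ y
        rw [map_smul, h5]
      exact htriv (hone a ha) (hone b hb)

/-- Two quadratically acting generators of a group represented on a finite-dimensional space
over a finite field `K` of characteristic `p`, whose image is not a `p`-group and with the
`p'`-part of the order of the product dividing `|K| - 1`, give a homomorphism to `SL₂(K)`
factoring through the representation with image not a `p`-group. -/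
theorem quad_pair_sl2_tr {K : Type u} [Field K] [Fintype K] {p : ℕ} [Fact p.Prime] [CharP K p]
    {G : Type w} [Group G] (a b : G) (hgen : Subgroup.closure {a, b} = ⊤) :
    ∀ (n : ℕ) (W : Type v) [AddCommGroup W] [Module K W] [FiniteDimensional K W]
      (ρ : G →* Module.End K W), Module.finrank K W ≤ n →
      (∀ x : W, ρ a (ρ a x - x) = ρ a x - x) → (∀ x : W, ρ b (ρ b x - x) = ρ b x - x) →
      ∀ g₀ : G, (∀ j : ℕ, ρ g₀ ^ (p ^ j) ≠ 1) →
      (∃ e k : ℕ, ρ (a * b) ^ (p ^ e * k) = 1 ∧ k ∣ Fintype.card K - 1) →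
      ∃ φ : G →* Matrix.SpecialLinearGroup (Fin 2) K,
        (∀ g : G, ρ g = 1 → φ g = 1) ∧ ∀ j : ℕ, φ g₀ ^ (p ^ j) ≠ 1 := by
  intro n
  induction n with
  | zero =>
    intro W _ _ _ ρ hn ha hb g₀ hg₀ hord
    exfalso
    have hsub : Subsingleton W := Module.finrank_zero_iff.mp (Nat.le_zero.mp hn)
    exact hg₀ 0 (LinearMap.ext fun x => Subsingleton.elim _ _)
  | succ n ih =>
    intro W _ _ _ ρ hn ha hb g₀ hg₀ hord
    by_cases hred : ∃ U : Submodule K W, U ≠ ⊥ ∧ U ≠ ⊤ ∧ ∀ g : G, ∀ x ∈ U, ρ g x ∈ U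
    · obtain ⟨U, hU0, hU1, hU⟩ := hred
      have hf1 : Module.finrank K U < Module.finrank K W := Submodule.finrank_lt hU1
      have hf2 : Module.finrank K (W ⧸ U) < Module.finrank K W := by
        have h1 := Submodule.finrank_quotient_add_finrank U
        have h2 : Module.finrank K U ≠ 0 := fun h => hU0 (Submodule.finrank_eq_zero.mp h)
        omega
      have hor : (∀ j : ℕ, repRestrict ρ U hU g₀ ^ (p ^ j) ≠ 1) ∨
          (∀ j : ℕ, repQuot ρ U hU g₀ ^ (p ^ j) ≠ 1) := by
        by_contra hcon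
        push Not at hcon
        obtain ⟨h1, h2⟩ := hcon
        obtain ⟨j₁, hj₁⟩ := h1
        obtain ⟨j₂, hj₂⟩ := h2
        obtain ⟨h, hh⟩ : ∃ h : G, h = g₀ ^ (p ^ (j₁ + j₂)) := ⟨_, rfl⟩
        have e1 : repRestrict ρ U hU h = 1 := by
          rw [hh, map_pow, pow_add, pow_mul, hj₁, one_pow]
        have e2 : repQuot ρ U hU h = 1 := by
          rw [hh, map_pow, pow_add, mul_comm, pow_mul, hj₂, one_pow]
        have hq : ∀ x : W, ρ h (ρ h x - x) = ρ h x - x := by
          intro x
          have hmem : ρ h x - x ∈ U := by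
            have h3 : repQuot ρ U hU h (Submodule.Quotient.mk x) = Submodule.Quotient.mk x := by
              rw [e2]; rfl
            rw [repQuot_apply] at h3
            exact (Submodule.Quotient.eq U).mp h3
          have h4 : repRestrict ρ U hU h ⟨_, hmem⟩ = ⟨_, hmem⟩ := by rw [e1]; rfl
          have h5 := congrArg (fun y : U => (y : W)) h4
          exact h5
        have h3 := end_quad_pow_char (p := p) (ρ h) hq
        apply hg₀ (j₁ + j₂ + 1)
        rw [pow_succ, pow_mul, ← map_pow ρ g₀, ← hh]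
        exact h3
      obtain ⟨e, k, hT, hk⟩ := hord
      have hT' : ρ ((a * b) ^ (p ^ e * k)) = 1 := by rw [map_pow]; exact hT
      rcases hor with h | h
      · obtain ⟨φ, hφ1, hφ2⟩ := ih U (repRestrict ρ U hU) (by omega)
          (fun x => Subtype.ext (ha x)) (fun x => Subtype.ext (hb x)) g₀ h
          ⟨e, k, by rw [← map_pow]; exact repRestrict_eq_one ρ U hU _ hT', hk⟩
        exact ⟨φ, fun g hg => hφ1 g (repRestrict_eq_one ρ U hU g hg), hφ2⟩
      · obtain ⟨φ, hφ1, hφ2⟩ := ih (W ⧸ U) (repQuot ρ U hU) (by omega)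
          (fun q => by
            induction q using Submodule.Quotient.induction_on with
            | _ z =>
              rw [repQuot_apply, ← Submodule.Quotient.mk_sub, repQuot_apply, ha])
          (fun q => by
            induction q using Submodule.Quotient.induction_on with
            | _ z =>
              rw [repQuot_apply, ← Submodule.Quotient.mk_sub, repQuot_apply, hb])
          g₀ h ⟨e, k, by rw [← map_pow]; exact repQuot_eq_one ρ U hU _ hT', hk⟩
        exact ⟨φ, fun g hg => hφ1 g (repQuot_eq_one ρ U hU g hg), hφ2⟩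
    · push Not at hred
      apply quad_pair_irred_tr a b hgen W ρ ha hb g₀ hg₀ hord
      intro U hU
      by_contra hcon
      push Not at hcon
      obtain ⟨g, x, hx, hgx⟩ := hred U hcon.1 hcon.2
      exact hgx (hU g x hx)

/-- Two quadratically acting generators of a finite group acting on an elementary abelian
`p`-group, not as a `p`-group, give a homomorphism to `SL₂` of a finite field of characteristic
`p` whose image is not a `p`-group and whose kernel contains the kernel of the action. -/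
theorem quad_pair_abstract_tr {E : Type u} [CommGroup E] [Finite E] {p : ℕ} [Fact p.Prime]
    (hexp : ∀ x : E, x ^ p = 1) {G : Type w} [Group G] [Finite G] (α : G →* MulAut E) (a b : G)
    (hgen : Subgroup.closure {a, b} = ⊤)
    (ha : ∀ x : E, α a (α a x / x) = α a x / x) (hb : ∀ x : E, α b (α b x / x) = α b x / x)
    (g₀ : G) (hg₀ : ∀ j : ℕ, α g₀ ^ (p ^ j) ≠ 1) :
    ∃ (n : ℕ) (φ : G →* Matrix.SpecialLinearGroup (Fin 2) (GaloisField p n)),
      (∀ g : G, α g = 1 → φ g = 1) ∧ ∀ j : ℕ, φ g₀ ^ (p ^ j) ≠ 1 := by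
  classical
  have hp : p.Prime := Fact.out
  have hA : ∀ x : Additive E, p • x = 0 := fun x => congrArg Additive.ofMul (hexp x.toMul)
  haveI : Module (ZMod p) (Additive E) := AddCommGroup.zmodModule hA
  obtain ⟨L, hL⟩ : ∃ L : G →* Module.End (ZMod p) (Additive E),
      ∀ (g : G) (x : Additive E), L g x = Additive.ofMul (α g x.toMul) := by
    refine ⟨{ toFun := fun g => (MonoidHom.toAdditive (α g).toMonoidHom).toZModLinearMap p
              map_one' := ?_
              map_mul' := ?_ }, fun g x => rfl⟩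
    · apply LinearMap.ext
      intro x
      show Additive.ofMul (α 1 x.toMul) = x
      rw [map_one]
      rfl
    · intro g h
      apply LinearMap.ext
      intro x
      show Additive.ofMul (α (g * h) x.toMul) = Additive.ofMul (α g (α h x.toMul))
      rw [map_mul]
      rfl
  obtain ⟨e, k, hk, hek⟩ :=
    Nat.exists_eq_pow_mul_and_not_dvd (orderOf_pos (a * b)).ne' p hp.ne_one
  have hk0 : k ≠ 0 := by rintro rfl; exact hk (dvd_zero p)
  obtain ⟨n, hn⟩ : ∃ n : ℕ, n = Nat.totient k := ⟨_, rfl⟩
  have hn0 : n ≠ 0 := by rw [hn]; exact (Nat.totient_pos.mpr (Nat.pos_of_ne_zero hk0)).ne'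
  letI : Fintype (GaloisField p n) := Fintype.ofFinite _
  have hcard : Fintype.card (GaloisField p n) = p ^ n := by
    rw [← Nat.card_eq_fintype_card]; exact GaloisField.card p n hn0
  have hkdvd : k ∣ Fintype.card (GaloisField p n) - 1 := by
    rw [hcard]
    have hcop : p.Coprime k := (Nat.Prime.coprime_iff_not_dvd hp).mpr hk
    have h1 := Nat.ModEq.pow_totient hcop
    rw [← hn] at h1
    exact (Nat.modEq_iff_dvd' (Nat.one_le_pow _ _ hp.pos)).mp h1.symm
  obtain ⟨ρ, hρapp⟩ : ∃ ρ : G →* Module.End (GaloisField p n)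
      (Additive E →ₗ[ZMod p] GaloisField p n),
      ∀ (g : G) (f : Additive E →ₗ[ZMod p] GaloisField p n) (x : Additive E),
        ρ g f x = f (L g⁻¹ x) := ⟨dualRep (GaloisField p n) L, fun _ _ _ => rfl⟩
  haveI : Finite (Additive E) := inferInstanceAs (Finite E)
  haveI : Finite (Additive E →ₗ[ZMod p] GaloisField p n) :=
    Finite.of_injective (fun f => (f : Additive E → GaloisField p n)) DFunLike.coe_injective
  haveI : FiniteDimensional (GaloisField p n) (Additive E →ₗ[ZMod p] GaloisField p n) :=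
    Module.Finite.of_finite
  have hρ1 : ∀ g : G, α g = 1 → ρ g = 1 := by
    intro g hg
    apply LinearMap.ext
    intro f
    apply LinearMap.ext
    intro x
    rw [hρapp, hL, map_inv, hg, inv_one]
    rfl
  have hρinj : ∀ g : G, ρ g = 1 → α g = 1 := by
    intro g hg
    have h1 : ∀ x : Additive E, L g⁻¹ x = x := by
      intro x
      by_contra hne
      have hne' : L g⁻¹ x - x ≠ 0 := sub_ne_zero.mpr hne
      obtain ⟨ψ, hψ⟩ : ∃ ψ : Module.Dual (ZMod p) (Additive E), ψ (L g⁻¹ x - x) ≠ 0 := by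
        by_contra hcon
        push Not at hcon
        exact hne' ((Module.forall_dual_apply_eq_zero_iff (ZMod p) _).mp hcon)
      obtain ⟨f, hf⟩ : ∃ f : Additive E →ₗ[ZMod p] GaloisField p n,
          ∀ y, f y = algebraMap (ZMod p) (GaloisField p n) (ψ y) :=
        ⟨(Algebra.linearMap (ZMod p) (GaloisField p n)).comp ψ, fun y => rfl⟩
      have h2 : ρ g f x = f x := by rw [hg]; rfl
      rw [hρapp, hf, hf] at h2
      have h3 : algebraMap (ZMod p) (GaloisField p n) (ψ (L g⁻¹ x - x)) = 0 := by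
        rw [map_sub, map_sub]; exact sub_eq_zero.mpr h2
      exact hψ ((map_eq_zero _).mp h3)
    have h4 : α g⁻¹ = 1 := by
      apply MulEquiv.ext
      intro x
      have := h1 (Additive.ofMul x)
      rw [hL] at this
      exact congrArg Additive.toMul this
    rw [map_inv, inv_eq_one] at h4
    exact h4
  have hquad : ∀ c : G, (∀ x : E, α c (α c x / x) = α c x / x) →
      ∀ f : Additive E →ₗ[ZMod p] GaloisField p n, ρ c (ρ c f - f) = ρ c f - f := by
    intro c hc f
    apply LinearMap.ext
    intro x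
    have hc' := mulAut_quad_inv (α c) hc
    rw [hρapp, LinearMap.sub_apply, LinearMap.sub_apply, hρapp, hρapp]
    have h1 : L c⁻¹ (L c⁻¹ x) - L c⁻¹ x = L c⁻¹ x - x := by
      rw [← map_sub, hL, hL, map_inv]
      exact congrArg Additive.ofMul (hc' x.toMul)
    rw [← map_sub, h1, map_sub]
  have hg₀' : ∀ j : ℕ, ρ g₀ ^ (p ^ j) ≠ 1 := by
    intro j hj
    apply hg₀ j
    rw [← map_pow] at hj ⊢
    exact hρinj _ hj
  have hord : ∃ e k : ℕ, ρ (a * b) ^ (p ^ e * k) = 1 ∧
      k ∣ Fintype.card (GaloisField p n) - 1 := by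
    refine ⟨e, k, ?_, hkdvd⟩
    rw [← map_pow, ← hek, pow_orderOf_eq_one, map_one]
  obtain ⟨φ, hφ1, hφ2⟩ := quad_pair_sl2_tr a b hgen _ _ ρ le_rfl (hquad a ha) (hquad b hb) g₀ hg₀' hord
  exact ⟨n, φ, fun g hg => hφ1 g (hρ1 g hg), hφ2⟩


end Cfsg.Agent.Lib.helper3
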