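import Mathlib
import Cfsg.Agent.S1003
import Cfsg.Agent.S0985
import Cfsg.Agent.Lib.helper1.Dihedral
import Cfsg.Agent.Lib.helper3.Conj

set_option autoImplicit false
set_option linter.style.haveILetI false

namespace Cfsg.Agent.Lib.helper3.S168

open Pointwise

universe u

theorem fact7 : Fact (Nat.Prime 7) := ⟨by norm_num⟩

/-! ### generic counting / group lemmas -/

theorem card_fiber_mul {α β : Type*} [Finite α] [Finite β] (f : α → β) (k : ℕ)
    (h : ∀ b, Nat.card {a // f a = b} = k) : Nat.card α = Nat.card β * k := by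
  classical
  haveI := Fintype.ofFinite β
  rw [← Nat.card_congr (Equiv.sigmaFiberEquiv f), Nat.card_sigma]
  simp only [h, Finset.sum_const, Finset.card_univ, smul_eq_mul, Nat.card_eq_fintype_card]

theorem card_fiber_eq {α : Type*} {β : Type*} (p : α → Prop) (f : {a // p a} → β) (b : β)
    (S : Set α) (h1 : ∀ a : {a // p a}, f a = b → a.1 ∈ S)
    (h2 : ∀ x ∈ S, ∃ hp : p x, f ⟨x, hp⟩ = b) :
    Nat.card {a : {a // p a} // f a = b} = Nat.card S := by
  apply Nat.card_congr
  refine Equiv.ofBijective (fun a => ⟨a.1.1, h1 a.1 a.2⟩) ⟨?_, ?_⟩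
  · intro a a' haa
    have h3 := congrArg Subtype.val haa
    exact Subtype.ext (Subtype.ext h3)
  · intro x
    obtain ⟨hp, hf⟩ := h2 x.1 x.2
    exact ⟨⟨⟨x.1, hp⟩, hf⟩, Subtype.ext rfl⟩

theorem orderOf_conj_eq {H : Type*} [Group H] (g x : H) : orderOf (g * x * g⁻¹) = orderOf x := by
  have := (MulAut.conj g).orderOf_eq x
  rwa [MulAut.conj_apply] at this

theorem orderOf_conj_eq' {H : Type*} [Group H] (g x : H) : orderOf (g⁻¹ * x * g) = orderOf x := by
  have := orderOf_conj_eq g⁻¹ x
  rwa [inv_inv] at this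

variable {G : Type u} [Group G] [Finite G]

theorem mem_smul_syl {p : ℕ} (g : G) (P : Sylow p G) (x : G) :
    x ∈ ((g • P : Sylow p G) : Subgroup G) ↔ g⁻¹ * x * g ∈ (P : Subgroup G) := by
  rw [Sylow.coe_subgroup_smul]
  exact mem_conj_smul

theorem not_normalizer_le_centralizer [IsSimpleGroup G] {p : ℕ} [Fact p.Prime] (P : Sylow p G)
    (h1 : (P : Subgroup G) ≠ ⊥) (h2 : (P : Subgroup G) ≠ ⊤) :
    ¬ Subgroup.normalizer ((P : Subgroup G) : Set G) ≤
      Subgroup.centralizer ((P : Subgroup G) : Set G) := by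
  intro hP
  have hc := MonoidHom.ker_transferSylow_isComplement' P hP
  rcases (MonoidHom.transferSylow P hP).normal_ker.eq_bot_or_eq_top with h | h
  · rw [h] at hc
    have := hc.sup_eq_top
    rw [bot_sup_eq] at this
    exact h2 this
  · rw [h] at hc
    have := hc.disjoint
    rw [disjoint_iff, top_inf_eq] at this
    exact h1 this

theorem card_normalizer_mul {p : ℕ} [Fact p.Prime] (P : Sylow p G) :
    Nat.card (Subgroup.normalizer ((P : Subgroup G) : Set G)) * Nat.card (Sylow p G) =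
      Nat.card G := by
  rw [Sylow.card_eq_index_normalizer P]
  exact Subgroup.card_mul_index _

theorem sylow_card_of {p : ℕ} [Fact p.Prime] (a m : ℕ) (h : Nat.card G = p ^ a * m)
    (hm : ¬ p ∣ m) (P : Sylow p G) : Nat.card (P : Subgroup G) = p ^ a := by
  have hp : p.Prime := Fact.out
  have hm0 : m ≠ 0 := by rintro rfl; exact hm (dvd_zero p)
  rw [Sylow.card_eq_multiplicity P, h, Nat.factorization_mul (pow_ne_zero _ hp.ne_zero) hm0,
    Finsupp.add_apply, hp.factorization_pow, Finsupp.single_eq_same,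
    Nat.factorization_eq_zero_of_not_dvd hm, add_zero]

theorem sylow_ne_bot {p : ℕ} (P : Sylow p G) (hc : 1 < Nat.card (P : Subgroup G)) :
    (P : Subgroup G) ≠ ⊥ := by
  intro hb; rw [hb, Subgroup.card_bot] at hc; omega

theorem order_of_dvd (p : ℕ)
    (hc : ∀ g : G, orderOf g = p → Subgroup.centralizer {g} = Subgroup.zpowers g)
    (g : G) (hd : p ∣ orderOf g) : orderOf g = p := by
  have h0 : orderOf g ≠ 0 := (orderOf_pos g).ne'
  have h1 : orderOf (g ^ (orderOf g / p)) = p := orderOf_pow_orderOf_div h0 hd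
  have h2 : g ∈ Subgroup.centralizer {g ^ (orderOf g / p)} := by
    rw [Subgroup.mem_centralizer_iff]
    intro y hy
    rw [Set.mem_singleton_iff.mp hy]
    exact pow_mul_comm' g _
  rw [hc _ h1] at h2
  have h3 := orderOf_dvd_of_mem_zpowers h2
  rw [h1] at h3
  exact Nat.dvd_antisymm h3 hd

theorem count_order_p (p : ℕ) [Fact p.Prime]
    (hP : ∀ P : Sylow p G, Nat.card (P : Subgroup G) = p) :
    Nat.card {g : G // orderOf g = p} = Nat.card (Sylow p G) * (p - 1) := by
  have hp : p.Prime := Fact.out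
  have hex : ∀ g : {g : G // orderOf g = p}, ∃ P : Sylow p G, g.1 ∈ (P : Subgroup G) := by
    intro g
    have hz : Nat.card (Subgroup.zpowers g.1) = p := by rw [Nat.card_zpowers, g.2]
    obtain ⟨P, hle⟩ := (IsPGroup.of_card (p := p) (n := 1) (by rw [hz, pow_one])).exists_le_sylow
    exact ⟨P, hle (Subgroup.mem_zpowers _)⟩
  choose f hf using hex
  have huniq : ∀ (x : G) (P P' : Sylow p G), orderOf x = p → x ∈ (P : Subgroup G) →
      x ∈ (P' : Subgroup G) → P = P' := by
    intro x P P' hxo hx hx'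
    have hz : Nat.card (Subgroup.zpowers x) = p := by rw [Nat.card_zpowers, hxo]
    have h1 : Subgroup.zpowers x = P :=
      Subgroup.eq_of_le_of_card_ge (by rw [Subgroup.zpowers_le]; exact hx) (by rw [hP, hz])
    have h2 : Subgroup.zpowers x = P' :=
      Subgroup.eq_of_le_of_card_ge (by rw [Subgroup.zpowers_le]; exact hx') (by rw [hP, hz])
    exact Sylow.ext (h1.symm.trans h2)
  apply card_fiber_mul f
  intro P
  rw [card_fiber_eq (fun g : G => orderOf g = p) f P (((P : Subgroup G) : Set G) \ {1})]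
  · rw [Nat.card_coe_set_eq, Set.ncard_sdiff_singleton_of_mem (one_mem _), ← Nat.card_coe_set_eq]
    exact congrArg (· - 1) (hP P)
  · intro a ha
    refine ⟨ha ▸ hf a, ?_⟩
    intro h1
    have h2 := a.2
    rw [Set.mem_singleton_iff.mp h1, orderOf_one] at h2
    exact hp.one_lt.ne h2
  · intro x hx
    have hd := Subgroup.orderOf_dvd_natCard _ hx.1
    rw [hP] at hd
    have ho : orderOf x = p := by
      rcases (Nat.dvd_prime hp).mp hd with h1 | h1
      · exact absurd (orderOf_eq_one_iff.mp h1) hx.2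
      · exact h1
    exact ⟨ho, huniq x _ P ho (hf ⟨x, ho⟩) hx.1⟩

/-! ### decidable facts about the dihedral group of order 8 -/

theorem d4_center : ∀ g : DihedralGroup 4, (∀ k : DihedralGroup 4, k * g = g * k) →
    g = 1 ∨ g = DihedralGroup.r 2 := by decide

theorem d4_r2_central : ∀ k : DihedralGroup 4, k * DihedralGroup.r 2 = DihedralGroup.r 2 * k := by
  decide

theorem d4_r2_ne : (DihedralGroup.r 2 : DihedralGroup 4) ≠ 1 := by decide

theorem d4_r2_sq : (DihedralGroup.r 2 : DihedralGroup 4) * DihedralGroup.r 2 = 1 := by decide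

theorem d4_sq : ∀ d : DihedralGroup 4, d * d ≠ 1 → d * d = DihedralGroup.r 2 := by decide

theorem d4_ord4 : ∀ d d' : DihedralGroup 4, d * d ≠ 1 → d' * d' ≠ 1 →
    d' = d ∨ d' = DihedralGroup.sr 0 * d * (DihedralGroup.sr 0)⁻¹ := by decide

theorem d4_card4 : Fintype.card {d : DihedralGroup 4 // d * d ≠ 1} = 2 := by decide

/-! ### the simple group of order 168 -/

section
variable [IsSimpleGroup G] (h : Nat.card G = 168)
include h

theorem n2 : Nat.card (Sylow 2 G) = 21 := (Cfsg.Agent.S1003.result h).1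
theorem n3 : Nat.card (Sylow 3 G) = 28 := (Cfsg.Agent.S1003.result h).2.1
theorem n7 : Nat.card (Sylow 7 G) = 8 := (Cfsg.Agent.S1003.result h).2.2

theorem sylow_ne_top {p : ℕ} (P : Sylow p G) (hc : Nat.card (P : Subgroup G) < 168) :
    (P : Subgroup G) ≠ ⊤ := by
  intro hb; rw [hb, Subgroup.card_top, h] at hc; omega

theorem card_syl2 (T : Sylow 2 G) : Nat.card (T : Subgroup G) = 8 := by
  have := sylow_card_of (p := 2) 3 21 (by rw [h]; norm_num) (by norm_num) T
  simpa using this

theorem card_syl3 (P : Sylow 3 G) : Nat.card (P : Subgroup G) = 3 := by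
  have := sylow_card_of (p := 3) 1 56 (by rw [h]; norm_num) (by norm_num) P
  simpa using this

theorem card_syl7 (P : Sylow 7 G) : Nat.card (P : Subgroup G) = 7 := by
  haveI := fact7
  have := sylow_card_of (p := 7) 1 24 (by rw [h]; norm_num) (by norm_num) P
  simpa using this

theorem card_norm2 (T : Sylow 2 G) :
    Nat.card (Subgroup.normalizer ((T : Subgroup G) : Set G)) = 8 := by
  have := card_normalizer_mul T
  rw [n2 h, h] at this
  omega

theorem card_norm3 (P : Sylow 3 G) :
    Nat.card (Subgroup.normalizer ((P : Subgroup G) : Set G)) = 6 := by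
  have := card_normalizer_mul P
  rw [n3 h, h] at this
  omega

theorem card_norm7 (P : Sylow 7 G) :
    Nat.card (Subgroup.normalizer ((P : Subgroup G) : Set G)) = 21 := by
  haveI := fact7
  have := card_normalizer_mul P
  rw [n7 h, h] at this
  omega

theorem norm2 (T : Sylow 2 G) : Subgroup.normalizer ((T : Subgroup G) : Set G) = T :=
  (Subgroup.eq_of_le_of_card_ge Subgroup.le_normalizer
    (by rw [card_norm2 h T, card_syl2 h T])).symm

theorem cent_sylow_prime (p q : ℕ) [Fact p.Prime] (hq : q.Prime) (P : Sylow p G)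
    (hP : Nat.card (P : Subgroup G) = p)
    (hN : Nat.card (Subgroup.normalizer ((P : Subgroup G) : Set G)) = p * q) (hp168 : p < 168) :
    Subgroup.centralizer ((P : Subgroup G) : Set G) = P := by
  have hp : p.Prime := Fact.out
  have hcyc : IsCyclic (P : Subgroup G) := isCyclic_of_prime_card hP
  have hPC : (P : Subgroup G) ≤ Subgroup.centralizer ((P : Subgroup G) : Set G) := by
    intro x hx
    rw [Subgroup.mem_centralizer_iff]
    intro y hy
    obtain ⟨g, hg⟩ := hcyc.exists_generator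
    obtain ⟨i, hi⟩ := Subgroup.mem_zpowers_iff.mp (hg ⟨x, hx⟩)
    obtain ⟨j, hj⟩ := Subgroup.mem_zpowers_iff.mp (hg ⟨y, hy⟩)
    have hc : (⟨y, hy⟩ : (P : Subgroup G)) * ⟨x, hx⟩ = ⟨x, hx⟩ * ⟨y, hy⟩ := by
      rw [← hi, ← hj]; exact (Commute.zpow_zpow_self g j i).eq
    exact congrArg Subtype.val hc
  have hCN : Subgroup.centralizer ((P : Subgroup G) : Set G) ≤
      Subgroup.normalizer ((P : Subgroup G) : Set G) := Subgroup.centralizer_le_normalizer _
  have hnot := not_normalizer_le_centralizer P (sylow_ne_bot P (by rw [hP]; exact hp.one_lt))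
    (sylow_ne_top h P (by rw [hP]; exact hp168))
  have d1 : p ∣ Nat.card (Subgroup.centralizer ((P : Subgroup G) : Set G)) := by
    have := Subgroup.card_dvd_of_le hPC
    rwa [hP] at this
  have d2 : Nat.card (Subgroup.centralizer ((P : Subgroup G) : Set G)) ∣ p * q := by
    have := Subgroup.card_dvd_of_le hCN
    rwa [hN] at this
  obtain ⟨j, hj⟩ := d1
  rw [hj] at d2
  have hjq : j ∣ q := Nat.dvd_of_mul_dvd_mul_left hp.pos d2
  rcases (Nat.dvd_prime hq).mp hjq with rfl | rfl
  · exact (Subgroup.eq_of_le_of_card_ge hPC (by rw [hj, hP, mul_one])).symm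
  · exfalso
    apply hnot
    have : Subgroup.centralizer ((P : Subgroup G) : Set G) =
        Subgroup.normalizer ((P : Subgroup G) : Set G) :=
      Subgroup.eq_of_le_of_card_ge hCN (by rw [hN, hj])
    rw [this]

theorem cent_elt (p q : ℕ) [Fact p.Prime] (hq : q.Prime) (hp168 : p < 168)
    (hP : ∀ P : Sylow p G, Nat.card (P : Subgroup G) = p)
    (hN : ∀ P : Sylow p G, Nat.card (Subgroup.normalizer ((P : Subgroup G) : Set G)) = p * q)
    (g : G) (hg : orderOf g = p) : Subgroup.centralizer {g} = Subgroup.zpowers g := by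
  have hz : Nat.card (Subgroup.zpowers g) = p := by rw [Nat.card_zpowers, hg]
  obtain ⟨P, hle⟩ := (IsPGroup.of_card (p := p) (n := 1) (by rw [hz, pow_one])).exists_le_sylow
  have hPz : (P : Subgroup G) = Subgroup.zpowers g :=
    (Subgroup.eq_of_le_of_card_ge hle (by rw [hP, hz])).symm
  have hc := cent_sylow_prime h p q hq P (hP P) (hN P) hp168
  rw [← hPz]
  apply le_antisymm
  · intro x hx
    rw [← hc]
    rw [Subgroup.mem_centralizer_iff] at hx ⊢
    intro y hy
    have hy' : y ∈ Subgroup.zpowers g := by rw [← hPz]; exact hy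
    obtain ⟨i, rfl⟩ := Subgroup.mem_zpowers_iff.mp hy'
    have hgx : Commute g x := hx g (Set.mem_singleton g)
    exact (hgx.zpow_left i).eq
  · intro x hx
    rw [← hc] at hx
    rw [Subgroup.mem_centralizer_iff] at hx ⊢
    intro y hy
    rw [Set.mem_singleton_iff.mp hy]
    exact hx g (by show g ∈ (P : Subgroup G); rw [hPz]; exact Subgroup.mem_zpowers g)

theorem cent7 (g : G) (hg : orderOf g = 7) : Subgroup.centralizer {g} = Subgroup.zpowers g := by
  haveI := fact7
  exact cent_elt h 7 3 (by norm_num) (by norm_num) (card_syl7 h)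
    (fun P => by rw [card_norm7 h P]) g hg

theorem cent3 (g : G) (hg : orderOf g = 3) : Subgroup.centralizer {g} = Subgroup.zpowers g :=
  cent_elt h 3 2 (by norm_num) (by norm_num) (card_syl3 h) (fun P => by rw [card_norm3 h P]) g hg

theorem syl2_noncomm (T : Sylow 2 G) :
    ¬ ∀ x ∈ (T : Subgroup G), ∀ y ∈ (T : Subgroup G), x * y = y * x := by
  intro hc
  apply not_normalizer_le_centralizer T (sylow_ne_bot T (by rw [card_syl2 h T]; norm_num))
    (sylow_ne_top h T (by rw [card_syl2 h T]; norm_num))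
  rw [norm2 h T]
  intro x hx
  rw [Subgroup.mem_centralizer_iff]
  intro y hy
  exact hc y hy x hx

theorem no_order8 (g : G) (hg : orderOf g = 8) : False := by
  have hz : Nat.card (Subgroup.zpowers g) = 8 := by rw [Nat.card_zpowers, hg]
  obtain ⟨T, hle⟩ := (IsPGroup.of_card (p := 2) (n := 3) (by rw [hz]; norm_num)).exists_le_sylow
  have hTz : (T : Subgroup G) = Subgroup.zpowers g :=
    (Subgroup.eq_of_le_of_card_ge hle (by rw [card_syl2 h T, hz])).symm
  apply syl2_noncomm h T
  intro x hx y hy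
  rw [hTz] at hx hy
  obtain ⟨i, rfl⟩ := Subgroup.mem_zpowers_iff.mp hx
  obtain ⟨j, rfl⟩ := Subgroup.mem_zpowers_iff.mp hy
  exact (Commute.zpow_zpow_self g i j).eq

theorem orders (g : G) :
    orderOf g = 1 ∨ orderOf g = 2 ∨ orderOf g = 3 ∨ orderOf g = 4 ∨ orderOf g = 7 := by
  by_cases h7 : 7 ∣ orderOf g
  · right; right; right; right; exact order_of_dvd 7 (cent7 h) g h7
  by_cases h3 : 3 ∣ orderOf g
  · right; right; left; exact order_of_dvd 3 (cent3 h) g h3
  have hd : orderOf g ∣ 168 := h ▸ orderOf_dvd_natCard g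
  have hd8 : orderOf g ∣ 8 := by
    have hc : Nat.Coprime (orderOf g) 21 := by
      have : (21 : ℕ) = 3 * 7 := by norm_num
      rw [this]
      exact Nat.Coprime.mul_right
        ((Nat.Prime.coprime_iff_not_dvd (by norm_num)).2 h3).symm
        ((Nat.Prime.coprime_iff_not_dvd (by norm_num)).2 h7).symm
    exact hc.dvd_of_dvd_mul_right (by
      have : (8 * 21 : ℕ) = 168 := by norm_num
      rw [this]; exact hd)
  have hle : orderOf g ≤ 8 := Nat.le_of_dvd (by norm_num) hd8
  have hpos := orderOf_pos g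
  have h8 : orderOf g ≠ 8 := fun h8 => no_order8 h g h8
  generalize orderOf g = n at hd8 hle hpos h8 ⊢
  interval_cases n <;> simp_all

theorem cent_central (T : Sylow 2 G) (z : G) (hz : z ∈ (T : Subgroup G)) (hz1 : z ≠ 1)
    (hc : ∀ t ∈ (T : Subgroup G), t * z = z * t) : Subgroup.centralizer {z} = T := by
  have hTC : (T : Subgroup G) ≤ Subgroup.centralizer {z} := by
    intro t ht
    rw [Subgroup.mem_centralizer_iff]
    intro y hy
    rw [Set.mem_singleton_iff.mp hy]
    exact (hc t ht).symm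
  have hzo : orderOf z ∣ 8 := by
    have := Subgroup.orderOf_dvd_natCard _ hz
    rwa [card_syl2 h T] at this
  have key : ∀ p : ℕ, p.Prime →
      (∀ g : G, orderOf g = p → Subgroup.centralizer {g} = Subgroup.zpowers g) →
      Nat.Coprime p 8 → ¬ p ∣ Nat.card (Subgroup.centralizer ({z} : Set G)) := by
    intro p hp hcp hcop hdvd
    haveI : Fact p.Prime := ⟨hp⟩
    obtain ⟨y, hy⟩ := exists_prime_orderOf_dvd_card' p hdvd
    have hy' : orderOf (y : G) = p := by rw [Subgroup.orderOf_coe]; exact hy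
    have hzy : z ∈ Subgroup.centralizer {(y : G)} := by
      rw [Subgroup.mem_centralizer_iff]
      intro w hw
      rw [Set.mem_singleton_iff.mp hw]
      have := Subgroup.mem_centralizer_iff.mp y.2 z (Set.mem_singleton z)
      exact this.symm
    rw [hcp _ hy'] at hzy
    have h3 := orderOf_dvd_of_mem_zpowers hzy
    rw [hy'] at h3
    have h4 : orderOf z ∣ Nat.gcd p 8 := Nat.dvd_gcd h3 hzo
    rw [hcop.gcd_eq_one, Nat.dvd_one, orderOf_eq_one_iff] at h4
    exact hz1 h4
  have hd : Nat.card (Subgroup.centralizer ({z} : Set G)) ∣ 168 :=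
    h ▸ Subgroup.card_subgroup_dvd_card _
  have hd8 : Nat.card (Subgroup.centralizer ({z} : Set G)) ∣ 8 := by
    have hc21 : Nat.Coprime (Nat.card (Subgroup.centralizer ({z} : Set G))) 21 := by
      have : (21 : ℕ) = 3 * 7 := by norm_num
      rw [this]
      exact Nat.Coprime.mul_right
        ((Nat.Prime.coprime_iff_not_dvd (by norm_num)).2
          (key 3 (by norm_num) (cent3 h) (by norm_num))).symm
        ((Nat.Prime.coprime_iff_not_dvd (by norm_num)).2
          (key 7 (by norm_num) (cent7 h) (by norm_num))).symm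
    exact hc21.dvd_of_dvd_mul_right (by
      have : (8 * 21 : ℕ) = 168 := by norm_num
      rw [this]; exact hd)
  exact (Subgroup.eq_of_le_of_card_ge hTC
    (by rw [card_syl2 h T]; exact Nat.le_of_dvd (by norm_num) hd8)).symm

theorem exists_pair : ∃ (P R : Sylow 2 G) (w : G), P ≠ R ∧ w ∈ (P : Subgroup G) ∧
    w ∈ (R : Subgroup G) ∧ w ≠ 1 := by
  have hmod : ¬ Nat.card (Sylow 2 G) ≡ 1 [MOD 2 ^ 3] := by
    rw [n2 h]; decide
  obtain ⟨P, R, hne, hidx⟩ := Cfsg.Agent.S0985.result 2 3 hmod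
  have hcm := Subgroup.card_mul_index ((R : Subgroup G).subgroupOf (P : Subgroup G))
  rw [card_syl2 h P] at hcm
  have hnb : (R : Subgroup G).subgroupOf (P : Subgroup G) ≠ ⊥ := by
    intro hb
    rw [hb] at hcm hidx
    rw [Subgroup.card_bot] at hcm
    have h4 : (2 : ℕ) ^ (3 - 1) = 4 := by norm_num
    rw [h4] at hidx
    omega
  obtain ⟨x, hx1⟩ := (Subgroup.ne_bot_iff_exists_ne_one).mp hnb
  refine ⟨P, R, ((x : ↥(P : Subgroup G)) : G), hne, (x : ↥(P : Subgroup G)).2,
    Subgroup.mem_subgroupOf.mp x.2, ?_⟩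
  intro h1
  apply hx1
  apply Subtype.ext
  apply Subtype.ext
  exact h1

theorem exists_noncentral_invol (T : Sylow 2 G) :
    ∃ b ∈ (T : Subgroup G), orderOf b = 2 ∧ ¬ ∀ t ∈ (T : Subgroup G), t * b = b * t := by
  by_contra hcon
  push_neg at hcon
  have hall : ∀ S : Sylow 2 G, ∀ b ∈ (S : Subgroup G), orderOf b = 2 →
      ∀ t ∈ (S : Subgroup G), t * b = b * t := by
    intro S b hb hbo t ht
    obtain ⟨g, rfl⟩ := MulAction.exists_smul_eq G T S
    rw [mem_smul_syl] at hb ht
    have hbo' : orderOf (g⁻¹ * b * g) = 2 := by rw [orderOf_conj_eq', hbo]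
    have := hcon _ hb hbo' _ ht
    have h2 : g⁻¹ * (t * b) * g = g⁻¹ * (b * t) * g := by
      calc g⁻¹ * (t * b) * g = (g⁻¹ * t * g) * (g⁻¹ * b * g) := by group
        _ = (g⁻¹ * b * g) * (g⁻¹ * t * g) := this
        _ = g⁻¹ * (b * t) * g := by group
    exact mul_left_cancel (mul_right_cancel h2)
  obtain ⟨P, R, w, hne, hwP, hwR, hw1⟩ := exists_pair h
  obtain ⟨w', hw'P, hw'R, hw'o⟩ : ∃ w' : G, w' ∈ (P : Subgroup G) ∧ w' ∈ (R : Subgroup G) ∧
      orderOf w' = 2 := by
    have hd := Subgroup.orderOf_dvd_natCard _ hwP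
    rw [card_syl2 h P] at hd
    rcases orders h w with ho | ho | ho | ho | ho
    · exact absurd (orderOf_eq_one_iff.mp ho) hw1
    · exact ⟨w, hwP, hwR, ho⟩
    · rw [ho] at hd; norm_num at hd
    · refine ⟨w ^ 2, Subgroup.pow_mem _ hwP 2, Subgroup.pow_mem _ hwR 2, ?_⟩
      rw [orderOf_pow' w (by norm_num), ho]
      rfl
    · rw [ho] at hd; norm_num at hd
  have hw'1 : w' ≠ 1 := by
    intro h1; rw [h1, orderOf_one] at hw'o; norm_num at hw'o
  have c1 := cent_central h P w' hw'P hw'1 (hall P w' hw'P hw'o)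
  have c2 := cent_central h R w' hw'R hw'1 (hall R w' hw'R hw'o)
  exact hne (Sylow.ext (c1.symm.trans c2))

theorem exists_d8 (T : Sylow 2 G) : Nonempty (↥(T : Subgroup G) ≃* DihedralGroup 4) := by
  classical
  obtain ⟨b, hbT, hbo, hbnc⟩ := exists_noncentral_invol h T
  have hex4 : ∃ a ∈ (T : Subgroup G), orderOf a = 4 := by
    by_contra hno
    push_neg at hno
    apply syl2_noncomm h T
    have hsq : ∀ x ∈ (T : Subgroup G), x * x = 1 := by
      intro x hx
      have hd := Subgroup.orderOf_dvd_natCard _ hx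
      rw [card_syl2 h T] at hd
      rcases orders h x with ho | ho | ho | ho | ho
      · rw [orderOf_eq_one_iff.mp ho, mul_one]
      · rw [← pow_two, ← ho]; exact pow_orderOf_eq_one x
      · rw [ho] at hd; norm_num at hd
      · exact absurd ho (hno x hx)
      · rw [ho] at hd; norm_num at hd
    intro x hx y hy
    have h1 := hsq _ (Subgroup.mul_mem _ hx hy)
    have h2 := hsq x hx
    have h3 := hsq y hy
    calc x * y = x * (x * y * (x * y)) * y := by rw [h1, mul_one]
      _ = (x * x) * (y * x) * (y * y) := by group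
      _ = y * x := by rw [h2, h3, one_mul, mul_one]
  obtain ⟨a, haT, hao⟩ := hex4
  have hza : Subgroup.zpowers a ≤ (T : Subgroup G) := by rw [Subgroup.zpowers_le]; exact haT
  have hidx : ((Subgroup.zpowers a).subgroupOf (T : Subgroup G)).index = 2 := by
    have h1 := Subgroup.card_mul_index ((Subgroup.zpowers a).subgroupOf (T : Subgroup G))
    rw [card_syl2 h T, Nat.card_congr (Subgroup.subgroupOfEquivOfLe hza).toEquiv,
      Nat.card_zpowers, hao] at h1
    omega
  have hnorm : ∀ t ∈ (T : Subgroup G), t * a * t⁻¹ ∈ Subgroup.zpowers a := by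
    intro t ht
    have := (Subgroup.normal_of_index_eq_two hidx).conj_mem ⟨a, haT⟩
      (Subgroup.mem_subgroupOf.mpr (Subgroup.mem_zpowers a)) ⟨t, ht⟩
    exact Subgroup.mem_subgroupOf.mp this
  have ha4 : a ^ 4 = 1 := by rw [← hao]; exact pow_orderOf_eq_one a
  have hz4 : ∀ x ∈ Subgroup.zpowers a, orderOf x = 4 → x = a ∨ x = a⁻¹ := by
    intro x hx hxo
    rw [mem_zpowers_iff_mem_range_orderOf, hao] at hx
    simp only [Finset.mem_image, Finset.mem_range] at hx
    obtain ⟨n, hn, rfl⟩ := hx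
    interval_cases n
    · simp at hxo
    · left; exact pow_one a
    · exfalso
      rw [orderOf_pow' a (by norm_num), hao] at hxo
      norm_num at hxo
    · right
      rw [eq_inv_iff_mul_eq_one, ← pow_succ]
      exact ha4
  have hconj : ∀ t ∈ (T : Subgroup G), t * a * t⁻¹ = a ∨ t * a * t⁻¹ = a⁻¹ := by
    intro t ht
    exact hz4 _ (hnorm t ht) (by rw [orderOf_conj_eq, hao])
  have haa : a * a * (a * a) = 1 := by
    have : a ^ 4 = a * a * (a * a) := by
      rw [show (4 : ℕ) = 2 + 2 from rfl, pow_add, pow_two]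
    rw [← this]; exact ha4
  have hz2c : ∀ t ∈ (T : Subgroup G), t * (a * a) = (a * a) * t := by
    intro t ht
    have h1 : t * (a * a) * t⁻¹ = (t * a * t⁻¹) * (t * a * t⁻¹) := by group
    have h2 : t * (a * a) * t⁻¹ = a * a := by
      rw [h1]
      rcases hconj t ht with hc | hc
      · rw [hc]
      · rw [hc]
        calc a⁻¹ * a⁻¹ = (a * a)⁻¹ := (mul_inv_rev a a).symm
          _ = a * a := inv_eq_of_mul_eq_one_right haa
    calc t * (a * a) = t * (a * a) * t⁻¹ * t := by group
      _ = a * a * t := by rw [h2]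
  have hb1 : b ≠ 1 := by intro h1; rw [h1, orderOf_one] at hbo; norm_num at hbo
  have hbz : b ∉ Subgroup.zpowers a := by
    intro hx
    rw [mem_zpowers_iff_mem_range_orderOf, hao] at hx
    simp only [Finset.mem_image, Finset.mem_range] at hx
    obtain ⟨n, hn, hnb⟩ := hx
    interval_cases n
    · exact hb1 (by rw [← hnb, pow_zero])
    · rw [pow_one] at hnb; rw [← hnb, hao] at hbo; norm_num at hbo
    · apply hbnc
      intro t ht
      rw [← hnb, pow_two]
      exact hz2c t ht
    · rw [← hnb, orderOf_pow' a (by norm_num), hao] at hbo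
      norm_num at hbo
  have hba : b * a * b⁻¹ = a⁻¹ := by
    rcases hconj b hbT with hc | hc
    · exfalso
      apply hbnc
      have hab : Commute b a := by
        have : b * a = b * a * b⁻¹ * b := by group
        rw [hc] at this
        exact this
      intro t ht
      by_cases htz : t ∈ Subgroup.zpowers a
      · obtain ⟨i, rfl⟩ := Subgroup.mem_zpowers_iff.mp htz
        exact (hab.zpow_right i).eq.symm
      · have h1 : (⟨b, hbT⟩ * ⟨t, ht⟩ : ↥(T : Subgroup G)) ∈
            (Subgroup.zpowers a).subgroupOf (T : Subgroup G) := by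
          rw [Subgroup.mul_mem_iff_of_index_two hidx]
          constructor
          · intro hb'; exact absurd (Subgroup.mem_subgroupOf.mp hb') hbz
          · intro ht'; exact absurd (Subgroup.mem_subgroupOf.mp ht') htz
        have h2 : b * t ∈ Subgroup.zpowers a := Subgroup.mem_subgroupOf.mp h1
        obtain ⟨i, hi⟩ := Subgroup.mem_zpowers_iff.mp h2
        have ht' : t = b⁻¹ * a ^ i := by rw [hi]; group
        rw [ht']
        have hbi : Commute b (a ^ i) := hab.zpow_right i
        calc b⁻¹ * a ^ i * b = b⁻¹ * (a ^ i * b) := by group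
          _ = b⁻¹ * (b * a ^ i) := by rw [← hbi.eq]
          _ = b * (b⁻¹ * a ^ i) := by group
    · exact hc
  have hb'2 : (⟨b, hbT⟩ : ↥(T : Subgroup G)) * ⟨b, hbT⟩ = 1 := by
    apply Subtype.ext
    show b * b = 1
    rw [← pow_two, ← hbo]; exact pow_orderOf_eq_one b
  have hconj' : (⟨b, hbT⟩ : ↥(T : Subgroup G)) * ⟨a, haT⟩ * (⟨b, hbT⟩ : ↥(T : Subgroup G))⁻¹ =
      (⟨a, haT⟩ : ↥(T : Subgroup G))⁻¹ := Subtype.ext hba
  have hnot' : (⟨b, hbT⟩ : ↥(T : Subgroup G)) ∉
      Subgroup.zpowers (⟨a, haT⟩ : ↥(T : Subgroup G)) := by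
    intro hm
    obtain ⟨i, hi⟩ := Subgroup.mem_zpowers_iff.mp hm
    apply hbz
    rw [Subgroup.mem_zpowers_iff]
    refine ⟨i, ?_⟩
    have := congrArg Subtype.val hi
    simpa using this
  have hinj := Cfsg.Agent.Lib.helper1.dihHom_injective _ _ hb'2 hconj' hnot'
  have hao' : orderOf (⟨a, haT⟩ : ↥(T : Subgroup G)) = 4 := by
    rw [← hao]; exact Subgroup.orderOf_mk a haT
  have hbij : Function.Bijective (Cfsg.Agent.Lib.helper1.dihHom _ _ hb'2 hconj') := by
    apply hinj.bijective_of_nat_card_le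
    have h1 : Nat.card (DihedralGroup (orderOf (⟨a, haT⟩ : ↥(T : Subgroup G)))) = 8 := by
      rw [DihedralGroup.nat_card, hao']
    rw [h1, card_syl2 h T]
  have e := MulEquiv.ofBijective _ hbij
  rw [hao'] at e
  exact ⟨e.symm⟩

/-- A chosen isomorphism of a Sylow 2-subgroup with the dihedral group of order 8. -/
noncomputable def d8 (T : Sylow 2 G) : ↥(T : Subgroup G) ≃* DihedralGroup 4 :=
  (exists_d8 h T).some

/-- The central involution of a Sylow 2-subgroup. -/
noncomputable def zc (T : Sylow 2 G) : G :=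
  ((d8 h T).symm (DihedralGroup.r 2) : ↥(T : Subgroup G))

theorem zc_mem (T : Sylow 2 G) : zc h T ∈ (T : Subgroup G) :=
  ((d8 h T).symm (DihedralGroup.r 2)).2

theorem zc_ne (T : Sylow 2 G) : zc h T ≠ 1 := by
  intro h1
  have : (d8 h T).symm (DihedralGroup.r 2) = 1 := Subtype.ext h1
  rw [MulEquiv.map_eq_one_iff] at this
  exact d4_r2_ne this

theorem zc_central (T : Sylow 2 G) : ∀ t ∈ (T : Subgroup G), t * zc h T = zc h T * t := by
  intro t ht
  have h1 := d4_r2_central (d8 h T ⟨t, ht⟩)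
  have h2 := congrArg (d8 h T).symm h1
  rw [map_mul, map_mul, MulEquiv.symm_apply_apply] at h2
  exact congrArg Subtype.val h2

theorem cent_zc (T : Sylow 2 G) : Subgroup.centralizer {zc h T} = T :=
  cent_central h T _ (zc_mem h T) (zc_ne h T) (zc_central h T)

theorem zc_unique (T : Sylow 2 G) (z : G) (hz : z ∈ (T : Subgroup G)) (hz1 : z ≠ 1)
    (hc : ∀ t ∈ (T : Subgroup G), t * z = z * t) : z = zc h T := by
  have h1 : ∀ k : DihedralGroup 4, k * d8 h T ⟨z, hz⟩ = d8 h T ⟨z, hz⟩ * k := by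
    intro k
    obtain ⟨t, rfl⟩ := (d8 h T).surjective k
    rw [← map_mul, ← map_mul]
    congr 1
    exact Subtype.ext (hc t.1 t.2)
  rcases d4_center _ h1 with h2 | h2
  · exfalso; apply hz1
    have : (⟨z, hz⟩ : ↥(T : Subgroup G)) = 1 := by rwa [MulEquiv.map_eq_one_iff] at h2
    exact congrArg Subtype.val this
  · have : (⟨z, hz⟩ : ↥(T : Subgroup G)) = (d8 h T).symm (DihedralGroup.r 2) := by
      rw [← h2, MulEquiv.symm_apply_apply]
    exact congrArg Subtype.val this

theorem zc_order (T : Sylow 2 G) : orderOf (zc h T) = 2 := by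
  have h1 : zc h T * zc h T = 1 := by
    have h2 := congrArg (d8 h T).symm d4_r2_sq
    rw [map_mul, map_one] at h2
    exact congrArg Subtype.val h2
  exact orderOf_eq_prime (by rw [pow_two]; exact h1) (zc_ne h T)

theorem ord4_iff (T : Sylow 2 G) (x : G) (hx : x ∈ (T : Subgroup G)) :
    orderOf x = 4 ↔ x * x ≠ 1 := by
  constructor
  · intro ho hxx
    have : orderOf x ∣ 2 := orderOf_dvd_of_pow_eq_one (by rw [pow_two]; exact hxx)
    rw [ho] at this; norm_num at this
  · intro hxx
    have hd := Subgroup.orderOf_dvd_natCard _ hx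
    rw [card_syl2 h T] at hd
    rcases orders h x with ho | ho | ho | ho | ho
    · exact absurd (by rw [orderOf_eq_one_iff.mp ho, mul_one]) hxx
    · exact absurd (by rw [← pow_two, ← ho]; exact pow_orderOf_eq_one x) hxx
    · rw [ho] at hd; norm_num at hd
    · exact ho
    · rw [ho] at hd; norm_num at hd

theorem sq_eq_zc (T : Sylow 2 G) (x : G) (hx : x ∈ (T : Subgroup G)) (hxx : x * x ≠ 1) :
    x * x = zc h T := by
  have h1 : d8 h T ⟨x, hx⟩ * d8 h T ⟨x, hx⟩ ≠ 1 := by
    intro h2
    rw [← map_mul, MulEquiv.map_eq_one_iff] at h2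
    exact hxx (congrArg Subtype.val h2)
  have h2 := d4_sq _ h1
  have h3 := congrArg (d8 h T).symm h2
  rw [map_mul, MulEquiv.symm_apply_apply] at h3
  exact congrArg Subtype.val h3

theorem card_ord4_in (T : Sylow 2 G) :
    Nat.card {x : G // x ∈ (T : Subgroup G) ∧ x * x ≠ 1} = 2 := by
  rw [← Nat.card_congr (Equiv.subtypeSubtypeEquivSubtypeInter
    (fun x : G => x ∈ (T : Subgroup G)) (fun x => x * x ≠ 1))]
  have e : {x : {x : G // x ∈ (T : Subgroup G)} // x.1 * x.1 ≠ 1} ≃
      {d : DihedralGroup 4 // d * d ≠ 1} :=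
    Equiv.subtypeEquiv (d8 h T).toEquiv (fun x => by
      constructor
      · intro hne hd
        have hd' : d8 h T x * d8 h T x = 1 := hd
        rw [← map_mul, MulEquiv.map_eq_one_iff] at hd'
        exact hne (congrArg Subtype.val hd')
      · intro hne hx
        apply hne
        show d8 h T x * d8 h T x = 1
        rw [← map_mul, MulEquiv.map_eq_one_iff]
        exact Subtype.ext hx)
  rw [Nat.card_congr e, Nat.card_eq_fintype_card]
  exact d4_card4

theorem count4 : Nat.card {g : G // orderOf g = 4} = 42 := by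
  have hex : ∀ g : {g : G // orderOf g = 4}, ∃ T : Sylow 2 G, g.1 ∈ (T : Subgroup G) := by
    intro g
    have hz : Nat.card (Subgroup.zpowers g.1) = 4 := by rw [Nat.card_zpowers, g.2]
    obtain ⟨T, hle⟩ := (IsPGroup.of_card (p := 2) (n := 2) (by rw [hz]; norm_num)).exists_le_sylow
    exact ⟨T, hle (Subgroup.mem_zpowers _)⟩
  choose f hf using hex
  have huniq : ∀ (x : G) (T T' : Sylow 2 G), orderOf x = 4 → x ∈ (T : Subgroup G) →
      x ∈ (T' : Subgroup G) → T = T' := by
    intro x T T' hxo hx hx'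
    have h1 := sq_eq_zc h T x hx ((ord4_iff h T x hx).1 hxo)
    have h2 := sq_eq_zc h T' x hx' ((ord4_iff h T' x hx').1 hxo)
    have h3 := cent_zc h T
    have h4 := cent_zc h T'
    rw [← h1] at h3; rw [← h2] at h4
    exact Sylow.ext (h3.symm.trans h4)
  rw [card_fiber_mul f 2, n2 h]
  intro T
  rw [card_fiber_eq (fun g : G => orderOf g = 4) f T {x : G | x ∈ (T : Subgroup G) ∧ x * x ≠ 1}]
  · exact card_ord4_in h T
  · intro a ha
    have hm : a.1 ∈ (T : Subgroup G) := ha ▸ hf a
    exact ⟨hm, (ord4_iff h T a.1 hm).1 a.2⟩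
  · intro x hx
    have ho : orderOf x = 4 := (ord4_iff h T x hx.1).2 hx.2
    exact ⟨ho, huniq x _ T ho (hf ⟨x, ho⟩) hx.1⟩

theorem count7 : Nat.card {g : G // orderOf g = 7} = 48 := by
  haveI := fact7
  rw [count_order_p 7 (card_syl7 h), n7 h]

theorem count3 : Nat.card {g : G // orderOf g = 3} = 56 := by
  rw [count_order_p 3 (card_syl3 h), n3 h]

theorem count_all : Nat.card G = Nat.card {g : G // orderOf g = 1} +
    Nat.card {g : G // orderOf g = 2} + Nat.card {g : G // orderOf g = 3} +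
    Nat.card {g : G // orderOf g = 4} + Nat.card {g : G // orderOf g = 7} := by
  classical
  haveI := Fintype.ofFinite G
  have hmaps : ((Finset.univ : Finset G) : Set G).MapsTo orderOf
      (({1, 2, 3, 4, 7} : Finset ℕ) : Set ℕ) := by
    intro x _
    rcases orders h x with ho | ho | ho | ho | ho <;> simp [ho]
  have := Finset.card_eq_sum_card_fiberwise hmaps
  rw [Finset.card_univ, Finset.sum_insert (by decide), Finset.sum_insert (by decide),
    Finset.sum_insert (by decide), Finset.sum_insert (by decide), Finset.sum_singleton] at this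
  simp only [Nat.card_eq_fintype_card, Fintype.card_subtype]
  rw [this]
  ring

theorem count2 : Nat.card {g : G // orderOf g = 2} = 21 := by
  have h1 := count_all h
  have h0 : Nat.card {g : G // orderOf g = 1} = 1 := by
    haveI : Unique {g : G // orderOf g = 1} :=
      ⟨⟨⟨1, orderOf_one⟩⟩, fun g => Subtype.ext (orderOf_eq_one_iff.mp g.2)⟩
    exact Nat.card_unique
  rw [h, h0, count3 h, count4 h, count7 h] at h1
  omega

theorem invol_eq_zc (s : G) (hs : orderOf s = 2) : ∃ T : Sylow 2 G, s = zc h T := by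
  have hinj : Function.Injective
      (fun T : Sylow 2 G => (⟨zc h T, zc_order h T⟩ : {g : G // orderOf g = 2})) := by
    intro T T' hTT
    have h1 : zc h T = zc h T' := congrArg Subtype.val hTT
    have h2 := cent_zc h T
    rw [h1, cent_zc h T'] at h2
    exact (Sylow.ext h2).symm
  have hbij := hinj.bijective_of_nat_card_le (by rw [count2 h, n2 h])
  obtain ⟨T, hT⟩ := hbij.2 ⟨s, hs⟩
  exact ⟨T, (congrArg Subtype.val hT).symm⟩

theorem zc_conj (T : Sylow 2 G) (g : G) : zc h (g • T) = g * zc h T * g⁻¹ := by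
  symm
  apply zc_unique h (g • T)
  · rw [mem_smul_syl]
    have e : g⁻¹ * (g * zc h T * g⁻¹) * g = zc h T := by group
    rw [e]; exact zc_mem h T
  · intro h1
    apply zc_ne h T
    have e : zc h T = g⁻¹ * (g * zc h T * g⁻¹) * g := by group
    rw [e, h1]; group
  · intro t ht
    rw [mem_smul_syl] at ht
    have := zc_central h T _ ht
    calc t * (g * zc h T * g⁻¹) = g * ((g⁻¹ * t * g) * zc h T) * g⁻¹ := by group
      _ = g * (zc h T * (g⁻¹ * t * g)) * g⁻¹ := by rw [this]
      _ = g * zc h T * g⁻¹ * t := by group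

theorem invol_conj (s t : G) (hs : orderOf s = 2) (ht : orderOf t = 2) : IsConj s t := by
  obtain ⟨T, rfl⟩ := invol_eq_zc h s hs
  obtain ⟨T', rfl⟩ := invol_eq_zc h t ht
  obtain ⟨g, rfl⟩ := MulAction.exists_smul_eq G T T'
  rw [isConj_iff]
  exact ⟨g, (zc_conj h T g).symm⟩

theorem ord3_conj (s t : G) (hs : orderOf s = 3) (ht : orderOf t = 3) : IsConj s t := by
  classical
  have hsyl : ∀ x : G, orderOf x = 3 → ∃ P : Sylow 3 G, (P : Subgroup G) = Subgroup.zpowers x := by
    intro x hx
    have hz : Nat.card (Subgroup.zpowers x) = 3 := by rw [Nat.card_zpowers, hx]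
    obtain ⟨P, hle⟩ := (IsPGroup.of_card (p := 3) (n := 1) (by rw [hz, pow_one])).exists_le_sylow
    exact ⟨P, (Subgroup.eq_of_le_of_card_ge hle (by rw [card_syl3 h P, hz])).symm⟩
  have hmem : ∀ t x : G, orderOf t = 3 → x ∈ Subgroup.zpowers t → orderOf x = 3 →
      x = t ∨ x = t⁻¹ := by
    intro t x ht hx hxo
    rw [mem_zpowers_iff_mem_range_orderOf, ht] at hx
    simp only [Finset.mem_image, Finset.mem_range] at hx
    obtain ⟨n, hn, rfl⟩ := hx
    have ht3 : t ^ 3 = 1 := by rw [← ht]; exact pow_orderOf_eq_one t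
    interval_cases n
    · simp at hxo
    · left; exact pow_one t
    · right; rw [eq_inv_iff_mul_eq_one, ← pow_succ]; exact ht3
  have hinv : ∀ t : G, orderOf t = 3 → ∃ c : G, c * t * c⁻¹ = t⁻¹ := by
    intro t ht
    obtain ⟨P, hP⟩ := hsyl t ht
    have hnot := not_normalizer_le_centralizer P
      (sylow_ne_bot P (by rw [card_syl3 h P]; norm_num))
      (sylow_ne_top h P (by rw [card_syl3 h P]; norm_num))
    rw [SetLike.not_le_iff_exists] at hnot
    obtain ⟨c, hcN, hcC⟩ := hnot
    refine ⟨c, ?_⟩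
    have hct : c * t * c⁻¹ ∈ Subgroup.zpowers t := by
      rw [← hP]
      exact (Subgroup.mem_normalizer_iff.mp hcN t).mp (by rw [hP]; exact Subgroup.mem_zpowers t)
    rcases hmem t _ ht hct (by rw [orderOf_conj_eq, ht]) with h1 | h1
    · exfalso
      apply hcC
      rw [Subgroup.mem_centralizer_iff]
      intro y hy
      have hy' : y ∈ Subgroup.zpowers t := by rw [← hP]; exact hy
      obtain ⟨i, rfl⟩ := Subgroup.mem_zpowers_iff.mp hy'
      have hct' : Commute c t := by
        have : c * t = c * t * c⁻¹ * c := by group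
        rw [h1] at this; exact this
      exact (hct'.zpow_right i).eq.symm
    · exact h1
  obtain ⟨P, hP⟩ := hsyl s hs
  obtain ⟨Q, hQ⟩ := hsyl t ht
  obtain ⟨g, rfl⟩ := MulAction.exists_smul_eq G P Q
  have hgs : g * s * g⁻¹ ∈ Subgroup.zpowers t := by
    rw [← hQ, mem_smul_syl, hP]
    have : g⁻¹ * (g * s * g⁻¹) * g = s := by group
    rw [this]; exact Subgroup.mem_zpowers s
  rw [isConj_iff]
  rcases hmem t _ ht hgs (by rw [orderOf_conj_eq, hs]) with h1 | h1
  · exact ⟨g, h1⟩
  · obtain ⟨c, hc⟩ := hinv t ht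
    refine ⟨c * g, ?_⟩
    calc c * g * s * (c * g)⁻¹ = c * (g * s * g⁻¹) * c⁻¹ := by group
      _ = c * t⁻¹ * c⁻¹ := by rw [h1]
      _ = (c * t * c⁻¹)⁻¹ := by group
      _ = t := by rw [hc, inv_inv]

theorem ord4_conj (u v : G) (hu : orderOf u = 4) (hv : orderOf v = 4) : IsConj u v := by
  have hsyl : ∀ x : G, orderOf x = 4 → ∃ T : Sylow 2 G, x ∈ (T : Subgroup G) := by
    intro x hx
    have hz : Nat.card (Subgroup.zpowers x) = 4 := by rw [Nat.card_zpowers, hx]
    obtain ⟨T, hle⟩ := (IsPGroup.of_card (p := 2) (n := 2) (by rw [hz]; norm_num)).exists_le_sylow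
    exact ⟨T, hle (Subgroup.mem_zpowers _)⟩
  obtain ⟨T, hT⟩ := hsyl u hu
  obtain ⟨T', hT'⟩ := hsyl v hv
  obtain ⟨g, rfl⟩ := MulAction.exists_smul_eq G T T'
  have hw : g * u * g⁻¹ ∈ ((g • T : Sylow 2 G) : Subgroup G) := by
    rw [mem_smul_syl]
    have : g⁻¹ * (g * u * g⁻¹) * g = u := by group
    rw [this]; exact hT
  have hwo : orderOf (g * u * g⁻¹) = 4 := by rw [orderOf_conj_eq, hu]
  have h1 := (ord4_iff h (g • T) _ hw).1 hwo
  have h2 := (ord4_iff h (g • T) _ hT').1 hv
  have d1 : d8 h (g • T) ⟨v, hT'⟩ * d8 h (g • T) ⟨v, hT'⟩ ≠ 1 := by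
    intro hd; rw [← map_mul, MulEquiv.map_eq_one_iff] at hd; exact h2 (congrArg Subtype.val hd)
  have d2 : d8 h (g • T) ⟨g * u * g⁻¹, hw⟩ * d8 h (g • T) ⟨g * u * g⁻¹, hw⟩ ≠ 1 := by
    intro hd; rw [← map_mul, MulEquiv.map_eq_one_iff] at hd; exact h1 (congrArg Subtype.val hd)
  rw [isConj_iff]
  rcases d4_ord4 _ _ d2 d1 with h3 | h3
  · have : (⟨v, hT'⟩ : ↥((g • T : Sylow 2 G) : Subgroup G)) = ⟨g * u * g⁻¹, hw⟩ :=
      (d8 h (g • T)).injective h3
    exact ⟨g, (congrArg Subtype.val this).symm⟩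
  · obtain ⟨c, hc⟩ : ∃ c : ↥((g • T : Sylow 2 G) : Subgroup G),
        d8 h (g • T) c = DihedralGroup.sr 0 := (d8 h (g • T)).surjective _
    have : (⟨v, hT'⟩ : ↥((g • T : Sylow 2 G) : Subgroup G)) = c * ⟨g * u * g⁻¹, hw⟩ * c⁻¹ := by
      apply (d8 h (g • T)).injective
      rw [h3, map_mul, map_mul, map_inv, hc]
    have hv' : v = (c : G) * (g * u * g⁻¹) * (c : G)⁻¹ := congrArg Subtype.val this
    refine ⟨(c : G) * g, ?_⟩
    rw [hv']; group

theorem class7 (x : G) (hx : orderOf x = 7) : Nat.card {g : G // IsConj x g} = 24 := by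
  have h1 : {g : G | IsConj x g} = MulAction.orbit (ConjAct G) x := by
    ext g
    rw [ConjAct.mem_orbit_conjAct]
    exact isConj_comm
  have h2 : Nat.card {g : G // IsConj x g} = (MulAction.orbit (ConjAct G) x).ncard := by
    rw [← h1]; rfl
  rw [h2, ← MulAction.index_stabilizer]
  have h3 := Subgroup.card_mul_index (MulAction.stabilizer (ConjAct G) x)
  rw [← Subgroup.nat_card_centralizer_nat_card_stabilizer, cent7 h x hx, Nat.card_zpowers, hx]
    at h3
  have h4 : Nat.card (ConjAct G) = 168 := h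
  rw [h4] at h3
  omega

theorem not_conj_inv7 (x : G) (hx : orderOf x = 7) : ¬ IsConj x x⁻¹ := by
  haveI := fact7
  rw [isConj_iff]
  rintro ⟨g, hg⟩
  have hxx : x ≠ x⁻¹ := by
    intro h1
    have h2 : x ^ 2 = 1 := by
      rw [pow_two]
      calc x * x = x * x⁻¹ := by rw [← h1]
        _ = 1 := mul_inv_cancel x
    have := orderOf_dvd_of_pow_eq_one h2
    rw [hx] at this; norm_num at this
  have hg2 : (g * g) * x * (g * g)⁻¹ = x := by
    calc (g * g) * x * (g * g)⁻¹ = g * (g * x * g⁻¹) * g⁻¹ := by group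
      _ = g * x⁻¹ * g⁻¹ := by rw [hg]
      _ = (g * x * g⁻¹)⁻¹ := by group
      _ = x := by rw [hg, inv_inv]
  have hgg : g * g ∈ Subgroup.zpowers x := by
    rw [← cent7 h x hx, Subgroup.mem_centralizer_iff]
    intro w hw
    rw [Set.mem_singleton_iff.mp hw]
    calc x * (g * g) = ((g * g) * x * (g * g)⁻¹) * (g * g) := by rw [hg2]
      _ = g * g * x := by group
  have hgn : g ∉ Subgroup.zpowers x := by
    intro hm
    obtain ⟨i, rfl⟩ := Subgroup.mem_zpowers_iff.mp hm
    have : x ^ i * x * (x ^ i)⁻¹ = x := by group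
    exact hxx (this.symm.trans hg)
  obtain ⟨P, hP⟩ : ∃ P : Sylow 7 G, (P : Subgroup G) = Subgroup.zpowers x := by
    have hz : Nat.card (Subgroup.zpowers x) = 7 := by rw [Nat.card_zpowers, hx]
    obtain ⟨P, hle⟩ := (IsPGroup.of_card (p := 7) (n := 1) (by rw [hz, pow_one])).exists_le_sylow
    exact ⟨P, (Subgroup.eq_of_le_of_card_ge hle (by rw [card_syl7 h P, hz])).symm⟩
  have hginv : g⁻¹ * x * g = x⁻¹ := by
    have : x = g⁻¹ * x⁻¹ * g := by rw [← hg]; group
    calc g⁻¹ * x * g = (g⁻¹ * x⁻¹ * g)⁻¹ := by group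
      _ = x⁻¹ := by rw [← this]
  have hgen : ∀ c : G, c * x * c⁻¹ ∈ Subgroup.zpowers x → ∀ y ∈ Subgroup.zpowers x,
      c * y * c⁻¹ ∈ Subgroup.zpowers x := by
    intro c hc y hy
    obtain ⟨i, rfl⟩ := Subgroup.mem_zpowers_iff.mp hy
    rw [← conj_zpow]
    exact Subgroup.zpow_mem _ hc i
  have hN : g ∈ Subgroup.normalizer ((P : Subgroup G) : Set G) := by
    rw [Subgroup.mem_normalizer_iff, hP]
    intro y
    constructor
    · exact hgen g (by rw [hg]; exact Subgroup.inv_mem _ (Subgroup.mem_zpowers x)) y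
    · intro hy
      have h5 := hgen g⁻¹ (by rw [inv_inv, hginv]; exact Subgroup.inv_mem _ (Subgroup.mem_zpowers x))
        _ hy
      have h6 : g⁻¹ * (g * y * g⁻¹) * g⁻¹⁻¹ = y := by group
      rwa [h6] at h5
  have hd := Subgroup.orderOf_dvd_natCard _ hN
  rw [card_norm7 h P] at hd
  have hpow : ∀ k : ℕ, g ^ (2 * k) ∈ Subgroup.zpowers x := by
    intro k
    rw [pow_mul, pow_two]
    exact Subgroup.pow_mem _ hgg k
  rcases orders h g with ho | ho | ho | ho | ho
  · apply hgn; rw [orderOf_eq_one_iff.mp ho]; exact one_mem _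
  · rw [ho] at hd; norm_num at hd
  · apply hgn
    have h3 : g ^ 3 = 1 := by rw [← ho]; exact pow_orderOf_eq_one g
    have : g ^ (2 * 2) = g := by
      calc g ^ (2 * 2) = g ^ 3 * g := by rw [← pow_succ]
        _ = g := by rw [h3, one_mul]
    rw [← this]; exact hpow 2
  · rw [ho] at hd; norm_num at hd
  · apply hgn
    have h7 : g ^ 7 = 1 := by rw [← ho]; exact pow_orderOf_eq_one g
    have : g ^ (2 * 4) = g := by
      calc g ^ (2 * 4) = g ^ 7 * g := by rw [← pow_succ]
        _ = g := by rw [h7, one_mul]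
    rw [← this]; exact hpow 4

end

end Cfsg.Agent.Lib.helper3.S168
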