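import Mathlib
import Cfsg.Agent.S0991
import Cfsg.Agent.S0989
import Cfsg.Agent.S0105
import Cfsg.Agent.Lib.helper3.Simple168

/-!
# The simple group of order 504 (S1011)

Centralizers of involutions are elementary abelian of order 8.
-/

set_option autoImplicit false
set_option linter.style.haveILetI false

namespace Cfsg.Agent.Lib.helper3.S504

universe u

/-! ### generic lemmas -/

theorem noncomm_of_not_prime {H : Type*} [Group H] [Finite H] [IsSimpleGroup H]
    (hnp : ¬ (Nat.card H).Prime) : ¬ IsMulCommutative H := by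
  intro hc
  letI : CommGroup H := { (inferInstance : Group H) with mul_comm := hc.is_comm.comm }
  exact hnp IsSimpleGroup.prime_card

theorem class_card_mul {H : Type*} [Group H] [Finite H] (x : H) :
    Nat.card (Subgroup.centralizer {x}) * Nat.card {g : H // IsConj x g} = Nat.card H := by
  have h1 : {g : H | IsConj x g} = MulAction.orbit (ConjAct H) x := by
    ext g
    rw [ConjAct.mem_orbit_conjAct]
    exact isConj_comm
  have h2 : Nat.card {g : H // IsConj x g} = (MulAction.orbit (ConjAct H) x).ncard := by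
    rw [← h1]; rfl
  rw [h2, ← MulAction.index_stabilizer]
  have h3 := Subgroup.card_mul_index (MulAction.stabilizer (ConjAct H) x)
  rw [← Subgroup.nat_card_centralizer_nat_card_stabilizer] at h3
  exact h3

theorem comm_of_sq {H : Type*} [Group H] (a b : H) (ha : a ^ 2 = 1) (hb : b ^ 2 = 1)
    (hab : (a * b) ^ 2 = 1) : a * b = b * a := by
  have ha' : a⁻¹ = a := inv_eq_of_mul_eq_one_right (by rw [← pow_two]; exact ha)
  have hb' : b⁻¹ = b := inv_eq_of_mul_eq_one_right (by rw [← pow_two]; exact hb)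
  have hab' : (a * b)⁻¹ = a * b := inv_eq_of_mul_eq_one_right (by rw [← pow_two]; exact hab)
  calc a * b = (a * b)⁻¹ := hab'.symm
    _ = b⁻¹ * a⁻¹ := mul_inv_rev a b
    _ = b * a := by rw [ha', hb']

/-- A group of order 36 with a central element of order 3 and no normal subgroup of order 9
has a normal subgroup of order 4. -/
theorem lemmaA36 {K : Type*} [Group K] [Finite K] (hK : Nat.card K = 36) (y : K)
    (hy : orderOf y = 3) (hyc : ∀ k : K, k * y = y * k)
    (hno : ∀ M : Subgroup K, M.Normal → Nat.card M ≠ 9) :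
    ∃ Q : Subgroup K, Q.Normal ∧ Nat.card Q = 4 := by
  obtain ⟨Q⟩ : Nonempty (Sylow 2 K) := inferInstance
  have hQ : Nat.card (Q : Subgroup K) = 4 := by
    have := S168.sylow_card_of (p := 2) 2 9 (by rw [hK]; norm_num) (by norm_num) Q
    simpa using this
  refine ⟨Q, ?_, hQ⟩
  rw [← Subgroup.normalizer_eq_top_iff]
  by_contra hN
  have hcomm : IsMulCommutative (Q : Subgroup K) :=
    IsPGroup.isMulCommutative_of_card_eq_prime_sq (p := 2) (by rw [hQ]; norm_num)
  have hQC : (Q : Subgroup K) ≤ Subgroup.centralizer ((Q : Subgroup K) : Set K) := by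
    intro x hx
    rw [Subgroup.mem_centralizer_iff]
    intro q hq
    exact congrArg Subtype.val (hcomm.is_comm.comm ⟨q, hq⟩ ⟨x, hx⟩)
  have hyC : y ∈ Subgroup.centralizer ((Q : Subgroup K) : Set K) := by
    rw [Subgroup.mem_centralizer_iff]
    intro q _
    exact hyc q
  have hCN : Subgroup.centralizer ((Q : Subgroup K) : Set K) ≤
      Subgroup.normalizer ((Q : Subgroup K) : Set K) := Subgroup.centralizer_le_normalizer _
  have d4 : 4 ∣ Nat.card (Subgroup.centralizer ((Q : Subgroup K) : Set K)) := by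
    have := Subgroup.card_dvd_of_le hQC
    rwa [hQ] at this
  have d3 : 3 ∣ Nat.card (Subgroup.centralizer ((Q : Subgroup K) : Set K)) := by
    have := Subgroup.orderOf_dvd_natCard _ hyC
    rwa [hy] at this
  have d12 : 12 ∣ Nat.card (Subgroup.centralizer ((Q : Subgroup K) : Set K)) :=
    Nat.Coprime.mul_dvd_of_dvd_of_dvd (by norm_num : Nat.Coprime 4 3) d4 d3
  have dCN := Subgroup.card_dvd_of_le hCN
  have dN : Nat.card (Subgroup.normalizer ((Q : Subgroup K) : Set K)) ∣ 36 := by
    rw [← hK]; exact Subgroup.card_subgroup_dvd_card _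
  have hNlt : Nat.card (Subgroup.normalizer ((Q : Subgroup K) : Set K)) ≠ 36 := by
    intro h36
    apply hN
    exact Subgroup.eq_top_of_card_eq _ (by rw [h36, hK])
  have hN12 : Nat.card (Subgroup.normalizer ((Q : Subgroup K) : Set K)) = 12 := by
    obtain ⟨a, ha⟩ := d12.trans dCN
    rw [ha] at dN hNlt ⊢
    have ha3 : a ∣ 3 :=
      Nat.dvd_of_mul_dvd_mul_left (by norm_num : 0 < 12) (show 12 * a ∣ 12 * 3 from dN)
    rcases (Nat.dvd_prime Nat.prime_three).mp ha3 with h1 | h1 <;> omega
  have hC12 : Nat.card (Subgroup.centralizer ((Q : Subgroup K) : Set K)) = 12 := by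
    rw [hN12] at dCN
    exact Nat.dvd_antisymm dCN d12
  have hNC : Subgroup.normalizer ((Q : Subgroup K) : Set K) ≤
      Subgroup.centralizer ((Q : Subgroup K) : Set K) := by
    have : Subgroup.centralizer ((Q : Subgroup K) : Set K) =
        Subgroup.normalizer ((Q : Subgroup K) : Set K) :=
      Subgroup.eq_of_le_of_card_ge hCN (by rw [hN12, hC12])
    rw [this]
  have hc := MonoidHom.ker_transferSylow_isComplement' Q hNC
  have h1 := hc.card_mul_card
  rw [hQ, hK] at h1
  exact hno _ (MonoidHom.transferSylow Q hNC).normal_ker (by omega)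

variable {G : Type u} [Group G] [Finite G]

section
variable [IsSimpleGroup G] (h : Nat.card G = 504)
include h

theorem noncomm : ¬ IsMulCommutative G := noncomm_of_not_prime (by rw [h]; norm_num)

theorem exists_emb (M : Subgroup G) (hM : M ≠ ⊤) (n : ℕ) (hn : M.index = n) :
    ∃ f : G →* ↥(alternatingGroup (Fin n)), Function.Injective f := by
  subst hn
  exact Cfsg.Agent.S0991.result (noncomm h) M hM

theorem index_ge7 (M : Subgroup G) (hM : M ≠ ⊤) : 7 ≤ M.index := by
  obtain ⟨f, hf⟩ := Cfsg.Agent.S0991.result (noncomm h) M hM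
  have h1 : Nat.card G ∣ Nat.card ↥(alternatingGroup (Fin M.index)) :=
    Subgroup.card_dvd_of_injective f hf
  have h2 : Nat.card ↥(alternatingGroup (Fin M.index)) ∣ Nat.card (Equiv.Perm (Fin M.index)) :=
    Subgroup.card_subgroup_dvd_card _
  rw [Nat.card_perm, Nat.card_fin] at h2
  have h3 : 7 ∣ (M.index).factorial := by
    have : (7 : ℕ) ∣ Nat.card G := by rw [h]; norm_num
    exact this.trans (h1.trans h2)
  exact (Nat.Prime.dvd_factorial (by norm_num)).mp h3

theorem index_ne7 (M : Subgroup G) (hM : M ≠ ⊤) : M.index ≠ 7 := by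
  intro h7
  obtain ⟨f, hf⟩ := exists_emb h M hM 7 h7
  have hA : Nat.card ↥(alternatingGroup (Fin 7)) = 2520 := by
    rw [nat_card_alternatingGroup, Nat.card_eq_fintype_card, Fintype.card_fin]
    decide
  haveI : IsSimpleGroup ↥(alternatingGroup (Fin 7)) := alternatingGroup.isSimpleGroup (by
    rw [Nat.card_eq_fintype_card, Fintype.card_fin]; norm_num)
  have hr : Nat.card f.range = 504 := by
    rw [← h]
    exact (Nat.card_congr (MonoidHom.ofInjective hf).toEquiv).symm
  have hne : f.range ≠ ⊤ := by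
    intro ht
    rw [ht, Subgroup.card_top, hA] at hr
    omega
  have hidx : f.range.index = 5 := by
    have := Subgroup.card_mul_index f.range
    rw [hr, hA] at this
    omega
  obtain ⟨g, hg⟩ := Cfsg.Agent.S0991.result
    (noncomm_of_not_prime (H := ↥(alternatingGroup (Fin 7))) (by rw [hA]; norm_num)) f.range hne
  have h1 : Nat.card ↥(alternatingGroup (Fin 7)) ∣
      Nat.card ↥(alternatingGroup (Fin f.range.index)) := Subgroup.card_dvd_of_injective g hg
  have h2 : Nat.card ↥(alternatingGroup (Fin f.range.index)) ∣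
      Nat.card (Equiv.Perm (Fin f.range.index)) := Subgroup.card_subgroup_dvd_card _
  rw [Nat.card_perm, Nat.card_fin] at h2
  rw [hA] at h1
  have h3 : (2520 : ℕ) ∣ Nat.factorial f.range.index := h1.trans h2
  rw [hidx] at h3
  have h4 : Nat.factorial 5 = 120 := by decide
  rw [h4] at h3
  omega

theorem index_ge8 (M : Subgroup G) (hM : M ≠ ⊤) : 8 ≤ M.index := by
  have h1 := index_ge7 h M hM
  have h2 := index_ne7 h M hM
  omega

theorem card_le63 (M : Subgroup G) (hM : M ≠ ⊤) : Nat.card M ≤ 63 := by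
  have h1 := Subgroup.card_mul_index M
  rw [h] at h1
  have h2 := index_ge8 h M hM
  have : Nat.card M * 8 ≤ Nat.card M * M.index := Nat.mul_le_mul_left _ h2
  omega

theorem eq_top_of_card_gt (M : Subgroup G) (hM : 63 < Nat.card M) : M = ⊤ := by
  by_contra hne
  have := card_le63 h M hne
  omega

theorem sylow_ne_top {p : ℕ} (P : Sylow p G) (hc : Nat.card (P : Subgroup G) < 504) :
    (P : Subgroup G) ≠ ⊤ := by
  intro hb; rw [hb, Subgroup.card_top, h] at hc; omega

theorem not_normal_of_card (M : Subgroup G) (h1 : 1 < Nat.card M) (h2 : Nat.card M < 504) :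
    ¬ M.Normal := by
  intro hn
  rcases hn.eq_bot_or_eq_top with hb | hb
  · rw [hb, Subgroup.card_bot] at h1; omega
  · rw [hb, Subgroup.card_top, h] at h2; omega

theorem norm_ne_top (M : Subgroup G) (h1 : 1 < Nat.card M) (h2 : Nat.card M < 504) :
    Subgroup.normalizer (M : Set G) ≠ ⊤ := fun ht =>
  not_normal_of_card h M h1 h2 (Subgroup.normalizer_eq_top_iff.mp ht)

theorem card_syl2 (T : Sylow 2 G) : Nat.card (T : Subgroup G) = 8 := by
  have := S168.sylow_card_of (p := 2) 3 63 (by rw [h]; norm_num) (by norm_num) T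
  simpa using this

theorem card_syl3 (P : Sylow 3 G) : Nat.card (P : Subgroup G) = 9 := by
  have := S168.sylow_card_of (p := 3) 2 56 (by rw [h]; norm_num) (by norm_num) P
  simpa using this

theorem card_syl7 (P : Sylow 7 G) : Nat.card (P : Subgroup G) = 7 := by
  haveI := S168.fact7
  have := S168.sylow_card_of (p := 7) 1 72 (by rw [h]; norm_num) (by norm_num) P
  simpa using this

theorem syl_count_ge8 {p : ℕ} [Fact p.Prime] (P : Sylow p G)
    (h1 : 1 < Nat.card (P : Subgroup G)) (h2 : Nat.card (P : Subgroup G) < 504) :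
    8 ≤ Nat.card (Sylow p G) := by
  rw [Sylow.card_eq_index_normalizer P]
  exact index_ge8 h _ (norm_ne_top h _ h1 h2)

set_option maxRecDepth 8000 in
theorem n7 : Nat.card (Sylow 7 G) = 36 := by
  haveI := S168.fact7
  obtain ⟨P⟩ : Nonempty (Sylow 7 G) := inferInstance
  have hP := card_syl7 h P
  have hge := syl_count_ge8 h P (by rw [hP]; norm_num) (by rw [hP]; norm_num)
  have hmod : Nat.card (Sylow 7 G) % 7 = 1 := card_sylow_modEq_one 7 G
  have hmul := S168.card_normalizer_mul P
  rw [h] at hmul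
  have hdvd7 : 7 ∣ Nat.card (Subgroup.normalizer ((P : Subgroup G) : Set G)) := by
    have := Subgroup.card_dvd_of_le (Subgroup.le_normalizer (H := (P : Subgroup G)))
    rwa [hP] at this
  obtain ⟨k, hk⟩ := hdvd7
  have hk72 : k * Nat.card (Sylow 7 G) = 72 := by
    rw [hk] at hmul
    have : 7 * (k * Nat.card (Sylow 7 G)) = 7 * 72 := by rw [← mul_assoc]; exact hmul
    exact Nat.eq_of_mul_eq_mul_left (by norm_num) this
  have hd : Nat.card (Sylow 7 G) ∣ 72 := Dvd.intro_left k hk72
  have hcases : ∀ d ∈ Nat.divisors 72, d % 7 = 1 → 8 ≤ d → d = 8 ∨ d = 36 := by decide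
  rcases hcases _ (Nat.mem_divisors.mpr ⟨hd, by norm_num⟩) hmod hge with h8 | h36
  · exfalso
    have hN63 : Nat.card (Subgroup.normalizer ((P : Subgroup G) : Set G)) = 63 := by
      rw [h8] at hk72; rw [hk]; omega
    have hidx : (Subgroup.normalizer ((P : Subgroup G) : Set G)).index = 8 := by
      have h0 := Sylow.card_eq_index_normalizer P
      rw [h8] at h0
      exact h0.symm
    obtain ⟨f, hf⟩ := exists_emb h _
      (norm_ne_top h _ (by rw [hP]; norm_num) (by rw [hP]; norm_num)) 8 hidx
    obtain ⟨ψ, hψ⟩ : ∃ ψ : G →* Equiv.Perm (Fin 8),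
        ψ = (alternatingGroup (Fin 8)).subtype.comp f := ⟨_, rfl⟩
    have hψi : Function.Injective ψ := by
      rw [hψ]; exact (Subgroup.subtype_injective _).comp hf
    have hS8 : Nat.card (Equiv.Perm (Fin 8)) = 7 ^ 1 * 5760 := by
      rw [Nat.card_perm, Nat.card_fin]; decide
    have hQ : Nat.card ((P : Subgroup G).map ψ) = 7 :=
      (Nat.card_congr (Subgroup.equivMapOfInjective _ _ hψi).symm.toEquiv).trans hP
    obtain ⟨P', hle⟩ :=
      (IsPGroup.of_card (p := 7) (n := 1) (by rw [hQ, pow_one])).exists_le_sylow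
    have hP' : Nat.card (P' : Subgroup (Equiv.Perm (Fin 8))) = 7 := by
      have := S168.sylow_card_of (p := 7) 1 5760 hS8 (by norm_num) P'
      simpa using this
    have hQP' : (P : Subgroup G).map ψ = P' :=
      Subgroup.eq_of_le_of_card_ge hle (by rw [hP', hQ])
    have hnorm := Cfsg.Agent.S0989.result (α := Fin 8) 7 (Or.inr (by rw [Fintype.card_fin])) P'
    have hle2 := Subgroup.le_normalizer_map (H := (P : Subgroup G)) ψ
    rw [hQP'] at hle2
    have hd2 := Subgroup.card_dvd_of_le hle2
    have hc63 : Nat.card ((Subgroup.normalizer ((P : Subgroup G) : Set G)).map ψ) = 63 :=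
      (Nat.card_congr (Subgroup.equivMapOfInjective _ _ hψi).symm.toEquiv).trans hN63
    rw [hc63, hnorm] at hd2
    omega
  · exact h36

theorem card_norm7 (P : Sylow 7 G) :
    Nat.card (Subgroup.normalizer ((P : Subgroup G) : Set G)) = 14 := by
  haveI := S168.fact7
  have := S168.card_normalizer_mul P
  rw [n7 h, h] at this
  omega

theorem cent_sylow_prime (p q : ℕ) [Fact p.Prime] (hq : q.Prime) (P : Sylow p G)
    (hP : Nat.card (P : Subgroup G) = p)
    (hN : Nat.card (Subgroup.normalizer ((P : Subgroup G) : Set G)) = p * q) (hp504 : p < 504) :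
    Subgroup.centralizer ((P : Subgroup G) : Set G) = P := by
  have hp : p.Prime := Fact.out
  have hcyc : IsCyclic (P : Subgroup G) := isCyclic_of_prime_card hP
  have hPC : (P : Subgroup G) ≤ Subgroup.centralizer ((P : Subgroup G) : Set G) := by
    intro x hx
    rw [Subgroup.mem_centralizer_iff]
    intro y hy
    obtain ⟨g, hg⟩ := hcyc.exists_generator
    obtain ⟨i, hi⟩ := Subgroup.mem_zpowers_iff.mp (hg ⟨x, hx⟩)
    obtain ⟨j, hj⟩ := Subgroup.mem_zpowers_iff.mp (hg ⟨y, hy⟩)
    have hc : (⟨y, hy⟩ : (P : Subgroup G)) * ⟨x, hx⟩ = ⟨x, hx⟩ * ⟨y, hy⟩ := by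
      rw [← hi, ← hj]; exact (Commute.zpow_zpow_self g j i).eq
    exact congrArg Subtype.val hc
  have hCN : Subgroup.centralizer ((P : Subgroup G) : Set G) ≤
      Subgroup.normalizer ((P : Subgroup G) : Set G) := Subgroup.centralizer_le_normalizer _
  have hnot := S168.not_normalizer_le_centralizer P
    (S168.sylow_ne_bot P (by rw [hP]; exact hp.one_lt))
    (sylow_ne_top h P (by rw [hP]; exact hp504))
  have d1 : p ∣ Nat.card (Subgroup.centralizer ((P : Subgroup G) : Set G)) := by
    have := Subgroup.card_dvd_of_le hPC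
    rwa [hP] at this
  have d2 : Nat.card (Subgroup.centralizer ((P : Subgroup G) : Set G)) ∣ p * q := by
    have := Subgroup.card_dvd_of_le hCN
    rwa [hN] at this
  obtain ⟨j, hj⟩ := d1
  rw [hj] at d2
  have hjq : j ∣ q := Nat.dvd_of_mul_dvd_mul_left hp.pos d2
  rcases (Nat.dvd_prime hq).mp hjq with rfl | rfl
  · exact (Subgroup.eq_of_le_of_card_ge hPC (by rw [hj, hP, mul_one])).symm
  · exfalso
    apply hnot
    have : Subgroup.centralizer ((P : Subgroup G) : Set G) =
        Subgroup.normalizer ((P : Subgroup G) : Set G) :=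
      Subgroup.eq_of_le_of_card_ge hCN (by rw [hN, hj])
    rw [this]

theorem cent7 (g : G) (hg : orderOf g = 7) : Subgroup.centralizer {g} = Subgroup.zpowers g := by
  haveI := S168.fact7
  have hz : Nat.card (Subgroup.zpowers g) = 7 := by rw [Nat.card_zpowers, hg]
  obtain ⟨P, hle⟩ := (IsPGroup.of_card (p := 7) (n := 1) (by rw [hz, pow_one])).exists_le_sylow
  have hPz : (P : Subgroup G) = Subgroup.zpowers g :=
    (Subgroup.eq_of_le_of_card_ge hle (by rw [card_syl7 h P, hz])).symm
  have hc := cent_sylow_prime h 7 2 (by norm_num) P (card_syl7 h P)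
    (by rw [card_norm7 h P]) (by norm_num)
  rw [← hPz]
  apply le_antisymm
  · intro x hx
    rw [← hc]
    rw [Subgroup.mem_centralizer_iff] at hx ⊢
    intro y hy
    have hy' : y ∈ Subgroup.zpowers g := by rw [← hPz]; exact hy
    obtain ⟨i, rfl⟩ := Subgroup.mem_zpowers_iff.mp hy'
    have hgx : Commute g x := hx g (Set.mem_singleton g)
    exact (hgx.zpow_left i).eq
  · intro x hx
    rw [← hc] at hx
    rw [Subgroup.mem_centralizer_iff] at hx ⊢
    intro y hy
    rw [Set.mem_singleton_iff.mp hy]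
    exact hx g (by show g ∈ (P : Subgroup G); rw [hPz]; exact Subgroup.mem_zpowers g)

set_option maxRecDepth 8000 in
theorem n3 : Nat.card (Sylow 3 G) = 28 := by
  obtain ⟨P⟩ : Nonempty (Sylow 3 G) := inferInstance
  have hP := card_syl3 h P
  have hge := syl_count_ge8 h P (by rw [hP]; norm_num) (by rw [hP]; norm_num)
  have hmod : Nat.card (Sylow 3 G) % 3 = 1 := card_sylow_modEq_one 3 G
  have hmul := S168.card_normalizer_mul P
  rw [h] at hmul
  have hdvd9 : 9 ∣ Nat.card (Subgroup.normalizer ((P : Subgroup G) : Set G)) := by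
    have := Subgroup.card_dvd_of_le (Subgroup.le_normalizer (H := (P : Subgroup G)))
    rwa [hP] at this
  obtain ⟨k, hk⟩ := hdvd9
  have hk56 : k * Nat.card (Sylow 3 G) = 56 := by
    rw [hk] at hmul
    have : 9 * (k * Nat.card (Sylow 3 G)) = 9 * 56 := by rw [← mul_assoc]; exact hmul
    exact Nat.eq_of_mul_eq_mul_left (by norm_num) this
  have hd : Nat.card (Sylow 3 G) ∣ 56 := Dvd.intro_left k hk56
  have hcases : ∀ d ∈ Nat.divisors 56, d % 3 = 1 → 8 ≤ d → d = 28 := by decide
  exact hcases _ (Nat.mem_divisors.mpr ⟨hd, by norm_num⟩) hmod hge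

theorem card_norm3 (P : Sylow 3 G) :
    Nat.card (Subgroup.normalizer ((P : Subgroup G) : Set G)) = 18 := by
  have := S168.card_normalizer_mul P
  rw [n3 h, h] at this
  omega

theorem syl3_comm (P : Sylow 3 G) (a b : G) (ha : a ∈ (P : Subgroup G))
    (hb : b ∈ (P : Subgroup G)) : a * b = b * a := by
  have hc : IsMulCommutative (P : Subgroup G) :=
    IsPGroup.isMulCommutative_of_card_eq_prime_sq (p := 3) (by rw [card_syl3 h P]; norm_num)
  exact congrArg Subtype.val (hc.is_comm.comm ⟨a, ha⟩ ⟨b, hb⟩)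

omit [IsSimpleGroup G] h in
theorem exists_syl3 (y : G) (hy : y ^ 9 = 1) : ∃ P : Sylow 3 G, y ∈ (P : Subgroup G) := by
  have hd : orderOf y ∣ 3 ^ 2 := by
    have := orderOf_dvd_of_pow_eq_one hy
    norm_num
    exact this
  obtain ⟨i, -, hi⟩ := (Nat.dvd_prime_pow Nat.prime_three).mp hd
  have hz : Nat.card (Subgroup.zpowers y) = 3 ^ i := by rw [Nat.card_zpowers, hi]
  obtain ⟨P, hle⟩ := (IsPGroup.of_card hz).exists_le_sylow
  exact ⟨P, hle (Subgroup.mem_zpowers y)⟩

/-- No involution commutes with an element of order 3. -/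
theorem no_comm_23 (t y : G) (ht : orderOf t = 2) (hy : orderOf y = 3) (hc : t * y = y * t) :
    False := by
  haveI := S168.fact7
  obtain ⟨P, hyP⟩ := exists_syl3 y
    (orderOf_dvd_iff_pow_eq_one.mp (by rw [hy]; norm_num : orderOf y ∣ 9))
  have hP := card_syl3 h P
  obtain ⟨K, hKdef⟩ : ∃ K : Subgroup G, K = Subgroup.centralizer {y} := ⟨_, rfl⟩
  have hmemK : ∀ x : G, x ∈ K ↔ y * x = x * y := by
    intro x
    rw [hKdef, Subgroup.mem_centralizer_iff]
    constructor
    · intro hx; exact hx y (Set.mem_singleton y)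
    · intro hx z hz
      rw [Set.mem_singleton_iff.mp hz]; exact hx
  have hPK : (P : Subgroup G) ≤ K := fun x hx => (hmemK x).mpr (syl3_comm h P y x hyP hx)
  have htK : t ∈ K := (hmemK t).mpr hc.symm
  have hyK : y ∈ K := (hmemK y).mpr rfl
  have d9 : 9 ∣ Nat.card K := by
    have := Subgroup.card_dvd_of_le hPK
    rwa [hP] at this
  have d2 : 2 ∣ Nat.card K := by
    have := Subgroup.orderOf_dvd_natCard K htK
    rwa [ht] at this
  have d18 : 18 ∣ Nat.card K :=
    Nat.Coprime.mul_dvd_of_dvd_of_dvd (by norm_num : Nat.Coprime 9 2) d9 d2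
  have hn7 : ¬ 7 ∣ Nat.card K := by
    intro h7
    obtain ⟨z', hz'⟩ := exists_prime_orderOf_dvd_card' (G := K) 7 h7
    have hz : orderOf (z' : G) = 7 := by rw [Subgroup.orderOf_coe]; exact hz'
    have hyz : y ∈ Subgroup.centralizer {(z' : G)} := by
      rw [Subgroup.mem_centralizer_iff]
      intro w hw
      rw [Set.mem_singleton_iff.mp hw]
      exact ((hmemK _).mp z'.2).symm
    rw [cent7 h _ hz] at hyz
    have := orderOf_dvd_of_mem_zpowers hyz
    rw [hy, hz] at this
    omega
  have dK : Nat.card K ∣ 504 := by rw [← h]; exact Subgroup.card_subgroup_dvd_card K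
  have hKne : K ≠ ⊤ := by
    intro ht'
    apply hn7
    rw [ht', Subgroup.card_top, h]; norm_num
  have hle := card_le63 h K hKne
  have hKpos : 0 < Nat.card K := Nat.card_pos
  obtain ⟨e, he⟩ := d18
  have he28 : e ∣ 28 := Nat.dvd_of_mul_dvd_mul_left (by norm_num : 0 < 18)
    (show 18 * e ∣ 18 * 28 by rw [← he]; exact dK)
  have hepos : 0 < e := by
    rcases Nat.eq_zero_or_pos e with h0 | h0
    · rw [h0, mul_zero] at he
      omega
    · exact h0
  have he3 : e ≤ 3 := by omega
  have he12 : e = 1 ∨ e = 2 := by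
    interval_cases e <;> omega
  have hN18 := card_norm3 h P
  rcases he12 with he1 | he2
  · -- `|K| = 18`: `y` is central in the normalizer of `P`
    have hK18 : Nat.card K = 18 := by omega
    have hsub : Nat.card ((P : Subgroup G).subgroupOf K) = 9 := by
      rw [Nat.card_congr (Subgroup.subgroupOfEquivOfLe hPK).toEquiv, hP]
    have hidx : ((P : Subgroup G).subgroupOf K).index = 2 := by
      have := Subgroup.card_mul_index ((P : Subgroup G).subgroupOf K)
      rw [hsub, hK18] at this
      omega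
    have hnorm : ((P : Subgroup G).subgroupOf K).Normal := Subgroup.normal_of_index_eq_two hidx
    have hKN : K ≤ Subgroup.normalizer ((P : Subgroup G) : Set G) :=
      (Subgroup.normal_subgroupOf_iff_le_normalizer hPK).mp hnorm
    have hKeq : K = Subgroup.normalizer ((P : Subgroup G) : Set G) :=
      Subgroup.eq_of_le_of_card_ge hKN (by rw [hN18, hK18])
    have hyC : y ∈ Subgroup.centralizer
        (Subgroup.normalizer ((P : Subgroup G) : Set G) : Set G) := by
      rw [Subgroup.mem_centralizer_iff]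
      intro n hn
      have hn' : n ∈ K := by rw [hKeq]; exact hn
      exact ((hmemK n).mp hn').symm
    have hPc : IsMulCommutative P :=
      ⟨⟨fun a b => Subtype.ext (syl3_comm h P a.1 b.1 a.2 b.2)⟩⟩
    obtain ⟨N, hNn, ⟨φ⟩⟩ := Cfsg.Agent.S0105.result P hPc
    have hyZ : y ∈ ((P : Subgroup G) ⊓ Subgroup.centralizer
        (Subgroup.normalizer (P : Set G) : Set G) : Subgroup G) := ⟨hyP, hyC⟩
    have d3 := Subgroup.orderOf_dvd_natCard _ hyZ
    rw [hy] at d3
    have d9' := Subgroup.card_dvd_of_le (inf_le_left : ((P : Subgroup G) ⊓ Subgroup.centralizer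
        (Subgroup.normalizer (P : Set G) : Set G) : Subgroup G) ≤ P)
    rw [hP] at d9'
    have hidxN : N.index = Nat.card ↥((P : Subgroup G) ⊓ Subgroup.centralizer
        (Subgroup.normalizer (P : Set G) : Set G) : Subgroup G) := Nat.card_congr φ.toEquiv
    rcases hNn.eq_bot_or_eq_top with hb | hb
    · rw [hb, Subgroup.index_bot, h] at hidxN
      rw [← hidxN] at d9'
      omega
    · rw [hb, Subgroup.index_top] at hidxN
      rw [← hidxN] at d3
      omega
  · -- `|K| = 36`
    have hK36 : Nat.card K = 36 := by omega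
    have hyo : orderOf (⟨y, hyK⟩ : K) = 3 := by
      rw [← Subgroup.orderOf_coe]; exact hy
    have hcen : ∀ k : K, k * ⟨y, hyK⟩ = ⟨y, hyK⟩ * k := by
      intro k
      apply Subtype.ext
      exact ((hmemK k.1).mp k.2).symm
    have hno : ∀ M : Subgroup K, M.Normal → Nat.card M ≠ 9 := by
      intro M hMn hM9
      have hM' : Nat.card (M.map K.subtype) = 9 :=
        (Nat.card_congr (Subgroup.equivMapOfInjective _ _
          (Subgroup.subtype_injective _)).symm.toEquiv).trans hM9
      obtain ⟨P', hle'⟩ :=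
        (IsPGroup.of_card (p := 3) (n := 2) (by rw [hM']; norm_num)).exists_le_sylow
      have hMP' : M.map K.subtype = P' :=
        Subgroup.eq_of_le_of_card_ge hle' (by rw [card_syl3 h P', hM'])
      have hKN : K ≤ Subgroup.normalizer ((M.map K.subtype : Subgroup G) : Set G) := by
        have h1 := Subgroup.le_normalizer_map (H := M) K.subtype
        rw [Subgroup.normalizer_eq_top_iff.mpr hMn, ← MonoidHom.range_eq_map,
          Subgroup.range_subtype] at h1
        exact h1
      rw [hMP'] at hKN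
      have := Subgroup.card_dvd_of_le hKN
      rw [hK36, card_norm3 h P'] at this
      omega
    obtain ⟨Q, hQn, hQ4⟩ := lemmaA36 hK36 ⟨y, hyK⟩ hyo hcen hno
    have hQ' : Nat.card (Q.map K.subtype) = 4 :=
      (Nat.card_congr (Subgroup.equivMapOfInjective _ _
        (Subgroup.subtype_injective _)).symm.toEquiv).trans hQ4
    have hKN : K ≤ Subgroup.normalizer ((Q.map K.subtype : Subgroup G) : Set G) := by
      have h1 := Subgroup.le_normalizer_map (H := Q) K.subtype
      rw [Subgroup.normalizer_eq_top_iff.mpr hQn, ← MonoidHom.range_eq_map,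
        Subgroup.range_subtype] at h1
      exact h1
    obtain ⟨T, hQT⟩ :=
      (IsPGroup.of_card (p := 2) (n := 2) (by rw [hQ']; norm_num)).exists_le_sylow
    have hT := card_syl2 h T
    have hsub : Nat.card ((Q.map K.subtype).subgroupOf T) = 4 := by
      rw [Nat.card_congr (Subgroup.subgroupOfEquivOfLe hQT).toEquiv, hQ']
    have hidx : ((Q.map K.subtype).subgroupOf T).index = 2 := by
      have := Subgroup.card_mul_index ((Q.map K.subtype).subgroupOf T)
      rw [hsub, hT] at this
      omega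
    have hTN : (T : Subgroup G) ≤
        Subgroup.normalizer ((Q.map K.subtype : Subgroup G) : Set G) :=
      (Subgroup.normal_subgroupOf_iff_le_normalizer hQT).mp
        (Subgroup.normal_of_index_eq_two hidx)
    have d36 := Subgroup.card_dvd_of_le hKN
    have d8 := Subgroup.card_dvd_of_le hTN
    rw [hK36] at d36
    rw [hT] at d8
    have d72 : 72 ∣ Nat.card (Subgroup.normalizer ((Q.map K.subtype : Subgroup G) : Set G)) := by
      have d9'' : 9 ∣ Nat.card (Subgroup.normalizer ((Q.map K.subtype : Subgroup G) : Set G)) :=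
        Dvd.dvd.trans (by norm_num) d36
      exact Nat.Coprime.mul_dvd_of_dvd_of_dvd (by norm_num : Nat.Coprime 9 8) d9'' d8
    have hposN : 0 < Nat.card (Subgroup.normalizer ((Q.map K.subtype : Subgroup G) : Set G)) :=
      Nat.card_pos
    have htop := eq_top_of_card_gt h
      (Subgroup.normalizer ((Q.map K.subtype : Subgroup G) : Set G)) (by
        have := Nat.le_of_dvd hposN d72
        omega)
    exact not_normal_of_card h _ (by rw [hQ']; norm_num) (by rw [hQ']; norm_num)
      (Subgroup.normalizer_eq_top_iff.mp htop)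

set_option maxRecDepth 8000 in
/-- The centralizer of an element of order 3 is the Sylow 3-subgroup containing it. -/
theorem cent3 (y : G) (hy : orderOf y = 3) (P : Sylow 3 G) (hyP : y ∈ (P : Subgroup G)) :
    Subgroup.centralizer {y} = P := by
  haveI := S168.fact7
  have hP := card_syl3 h P
  have hPK : (P : Subgroup G) ≤ Subgroup.centralizer {y} := by
    intro x hx
    rw [Subgroup.mem_centralizer_iff]
    intro z hz
    rw [Set.mem_singleton_iff.mp hz]
    exact syl3_comm h P y x hyP hx
  have d9 : 9 ∣ Nat.card (Subgroup.centralizer {y}) := by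
    have := Subgroup.card_dvd_of_le hPK
    rwa [hP] at this
  have hn2 : ¬ 2 ∣ Nat.card (Subgroup.centralizer {y}) := by
    intro h2
    obtain ⟨t', ht'⟩ := exists_prime_orderOf_dvd_card' (G := Subgroup.centralizer {y}) 2 h2
    have ht : orderOf (t' : G) = 2 := by rw [Subgroup.orderOf_coe]; exact ht'
    have hc := (Subgroup.mem_centralizer_iff.mp t'.2) y (Set.mem_singleton y)
    exact no_comm_23 h (t' : G) y ht hy hc.symm
  have hn7 : ¬ 7 ∣ Nat.card (Subgroup.centralizer {y}) := by
    intro h7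
    obtain ⟨z', hz'⟩ := exists_prime_orderOf_dvd_card' (G := Subgroup.centralizer {y}) 7 h7
    have hz : orderOf (z' : G) = 7 := by rw [Subgroup.orderOf_coe]; exact hz'
    have hyz : y ∈ Subgroup.centralizer {(z' : G)} := by
      rw [Subgroup.mem_centralizer_iff]
      intro w hw
      rw [Set.mem_singleton_iff.mp hw]
      exact ((Subgroup.mem_centralizer_iff.mp z'.2) y (Set.mem_singleton y)).symm
    rw [cent7 h _ hz] at hyz
    have := orderOf_dvd_of_mem_zpowers hyz
    rw [hy, hz] at this
    omega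
  have dK : Nat.card (Subgroup.centralizer {y}) ∣ 504 := by
    rw [← h]; exact Subgroup.card_subgroup_dvd_card _
  have hK9 : Nat.card (Subgroup.centralizer {y}) = 9 := by
    obtain ⟨e, he⟩ := d9
    rw [he] at dK hn2 hn7 ⊢
    have he56 : e ∣ 56 :=
      Nat.dvd_of_mul_dvd_mul_left (by norm_num : 0 < 9) (show 9 * e ∣ 9 * 56 from dK)
    have hcases : ∀ d ∈ Nat.divisors 56, ¬ 2 ∣ 9 * d → ¬ 7 ∣ 9 * d → d = 1 := by decide
    have he1 : e = 1 := hcases e (Nat.mem_divisors.mpr ⟨he56, by norm_num⟩) hn2 hn7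
    omega
  exact (Subgroup.eq_of_le_of_card_ge hPK (by rw [hK9, hP])).symm

theorem syl3_unique (x : G) (hx1 : x ≠ 1) (P P' : Sylow 3 G) (hx : x ∈ (P : Subgroup G))
    (hx' : x ∈ (P' : Subgroup G)) : P = P' := by
  have hd : orderOf x ∣ 3 ^ 2 := by
    have := Subgroup.orderOf_dvd_natCard _ hx
    rw [card_syl3 h P] at this
    norm_num
    exact this
  have h3 : 3 ∣ orderOf x := by
    obtain ⟨i, -, hi⟩ := (Nat.dvd_prime_pow Nat.prime_three).mp hd
    rcases Nat.eq_zero_or_pos i with h0 | h0
    · rw [h0, pow_zero] at hi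
      exact absurd (orderOf_eq_one_iff.mp hi) hx1
    · rw [hi]; exact dvd_pow_self 3 h0.ne'
  have hy : orderOf (x ^ (orderOf x / 3)) = 3 :=
    orderOf_pow_orderOf_div (orderOf_pos x).ne' h3
  have e1 := cent3 h _ hy P (Subgroup.pow_mem _ hx _)
  have e2 := cent3 h _ hy P' (Subgroup.pow_mem _ hx' _)
  exact Sylow.ext (e1.symm.trans e2)

theorem count3 : Nat.card {g : G // g ≠ 1 ∧ g ^ 9 = 1} = 224 := by
  have hex : ∀ g : {g : G // g ≠ 1 ∧ g ^ 9 = 1}, ∃ P : Sylow 3 G, g.1 ∈ (P : Subgroup G) :=
    fun g => exists_syl3 g.1 g.2.2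
  choose f hf using hex
  have key := S168.card_fiber_mul f 8 (by
    intro P
    rw [S168.card_fiber_eq (fun g : G => g ≠ 1 ∧ g ^ 9 = 1) f P
      (((P : Subgroup G) : Set G) \ {1})]
    · rw [Nat.card_coe_set_eq, Set.ncard_sdiff_singleton_of_mem (one_mem _),
        ← Nat.card_coe_set_eq]
      exact congrArg (· - 1) (card_syl3 h P)
    · intro a ha
      exact ⟨ha ▸ hf a, fun h1 => a.2.1 (Set.mem_singleton_iff.mp h1)⟩
    · intro x hx
      have hx9 : x ^ 9 = 1 := by
        have h0 := congrArg Subtype.val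
          (pow_card_eq_one' (G := ↥(P : Subgroup G)) (x := ⟨x, hx.1⟩))
        rw [card_syl3 h P] at h0
        exact h0
      have hx1 : x ≠ 1 := fun h1 => hx.2 (Set.mem_singleton_iff.mpr h1)
      exact ⟨⟨hx1, hx9⟩, syl3_unique h x hx1 _ P (hf ⟨x, ⟨hx1, hx9⟩⟩) hx.1⟩)
  rw [key, n3 h]

theorem count7 : Nat.card {g : G // orderOf g = 7} = 216 := by
  haveI := S168.fact7
  rw [S168.count_order_p 7 (card_syl7 h), n7 h]

/-- The centralizer of an involution has order 8 and every nontrivial 2-element is conjugate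
to the involution. -/
theorem invol_main (t : G) (ht : orderOf t = 2) :
    Nat.card (Subgroup.centralizer {t}) = 8 ∧ ∀ x : G, x ≠ 1 → x ^ 8 = 1 → IsConj t x := by
  classical
  haveI := S168.fact7
  haveI := Fintype.ofFinite G
  have hn3 : ¬ 3 ∣ Nat.card (Subgroup.centralizer {t}) := by
    intro h3
    obtain ⟨y', hy'⟩ := exists_prime_orderOf_dvd_card' (G := Subgroup.centralizer {t}) 3 h3
    have hy : orderOf (y' : G) = 3 := by rw [Subgroup.orderOf_coe]; exact hy'
    exact no_comm_23 h t (y' : G) ht hy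
      ((Subgroup.mem_centralizer_iff.mp y'.2) t (Set.mem_singleton t))
  have hn7 : ¬ 7 ∣ Nat.card (Subgroup.centralizer {t}) := by
    intro h7
    obtain ⟨z', hz'⟩ := exists_prime_orderOf_dvd_card' (G := Subgroup.centralizer {t}) 7 h7
    have hz : orderOf (z' : G) = 7 := by rw [Subgroup.orderOf_coe]; exact hz'
    have htz : t ∈ Subgroup.centralizer {(z' : G)} := by
      rw [Subgroup.mem_centralizer_iff]
      intro w hw
      rw [Set.mem_singleton_iff.mp hw]
      exact ((Subgroup.mem_centralizer_iff.mp z'.2) t (Set.mem_singleton t)).symm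
    rw [cent7 h _ hz] at htz
    have := orderOf_dvd_of_mem_zpowers htz
    rw [ht, hz] at this
    omega
  have dK : Nat.card (Subgroup.centralizer {t}) ∣ 504 := by
    rw [← h]; exact Subgroup.card_subgroup_dvd_card _
  have d8 : Nat.card (Subgroup.centralizer {t}) ∣ 8 := by
    have hc3 : Nat.Coprime (Nat.card (Subgroup.centralizer {t})) 3 :=
      ((Nat.Prime.coprime_iff_not_dvd Nat.prime_three).2 hn3).symm
    have hc7 : Nat.Coprime (Nat.card (Subgroup.centralizer {t})) 7 :=
      ((Nat.Prime.coprime_iff_not_dvd (by norm_num)).2 hn7).symm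
    have hc63 : Nat.Coprime (Nat.card (Subgroup.centralizer {t})) (3 * 3 * 7) :=
      Nat.Coprime.mul_right (Nat.Coprime.mul_right hc3 hc3) hc7
    exact hc63.dvd_of_dvd_mul_right
      (show Nat.card (Subgroup.centralizer {t}) ∣ 8 * (3 * 3 * 7) from dK)
  have hcls := class_card_mul t
  rw [h] at hcls
  obtain ⟨S7, hS7⟩ : ∃ S : Finset G, S = Finset.univ.filter (fun g => orderOf g = 7) :=
    ⟨_, rfl⟩
  obtain ⟨S3, hS3⟩ : ∃ S : Finset G, S = Finset.univ.filter (fun g => g ≠ 1 ∧ g ^ 9 = 1) :=
    ⟨_, rfl⟩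
  obtain ⟨Ct, hCt⟩ : ∃ S : Finset G, S = Finset.univ.filter (fun g => IsConj t g) := ⟨_, rfl⟩
  have hS7c : S7.card = 216 := by
    rw [hS7, ← Fintype.card_subtype, ← Nat.card_eq_fintype_card]; exact count7 h
  have hS3c : S3.card = 224 := by
    rw [hS3, ← Fintype.card_subtype, ← Nat.card_eq_fintype_card]; exact count3 h
  have hCtc : Ct.card = Nat.card {g : G // IsConj t g} := by
    rw [hCt, ← Fintype.card_subtype, ← Nat.card_eq_fintype_card]
  have hconj2 : ∀ g, IsConj t g → orderOf g = 2 := by
    intro g hg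
    obtain ⟨c, hc⟩ := isConj_iff.mp hg
    rw [← hc, S168.orderOf_conj_eq]; exact ht
  have hd1 : Disjoint S7 S3 := by
    rw [Finset.disjoint_left]
    intro g hg7 hg3
    rw [hS7, Finset.mem_filter] at hg7
    rw [hS3, Finset.mem_filter] at hg3
    have h1 := orderOf_dvd_of_pow_eq_one hg3.2.2
    rw [hg7.2] at h1
    omega
  have hd2 : Disjoint (S7 ∪ S3) Ct := by
    rw [Finset.disjoint_left]
    intro g hg hgC
    rw [hCt, Finset.mem_filter] at hgC
    have ho := hconj2 g hgC.2
    rcases Finset.mem_union.mp hg with hg7 | hg3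
    · rw [hS7, Finset.mem_filter] at hg7
      have h1 := hg7.2
      omega
    · rw [hS3, Finset.mem_filter] at hg3
      have h1 := orderOf_dvd_of_pow_eq_one hg3.2.2
      rw [ho] at h1
      omega
  have hd3 : Disjoint ({1} : Finset G) (S7 ∪ S3 ∪ Ct) := by
    rw [Finset.disjoint_left]
    intro g hg1 hg
    rw [Finset.mem_singleton] at hg1
    rcases Finset.mem_union.mp hg with hg' | hgC
    · rcases Finset.mem_union.mp hg' with hg7 | hg3
      · rw [hS7, Finset.mem_filter] at hg7
        have h1 := hg7.2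
        rw [hg1, orderOf_one] at h1
        omega
      · rw [hS3, Finset.mem_filter] at hg3
        exact hg3.2.1 hg1
    · rw [hCt, Finset.mem_filter] at hgC
      have ho := hconj2 g hgC.2
      rw [hg1, orderOf_one] at ho
      omega
  have hcard : (({1} : Finset G) ∪ (S7 ∪ S3 ∪ Ct)).card = 1 + (216 + 224 + Ct.card) := by
    rw [Finset.card_union_of_disjoint hd3, Finset.card_union_of_disjoint hd2,
      Finset.card_union_of_disjoint hd1, Finset.card_singleton, hS7c, hS3c]
  have hle : (({1} : Finset G) ∪ (S7 ∪ S3 ∪ Ct)).card ≤ 504 := by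
    rw [← h, Nat.card_eq_fintype_card]; exact Finset.card_le_univ _
  have hpos : 0 < Nat.card (Subgroup.centralizer {t}) := Nat.card_pos
  have hd8le : Nat.card (Subgroup.centralizer {t}) ≤ 8 := Nat.le_of_dvd (by norm_num) d8
  rw [← hCtc] at hcls
  have hboth : Nat.card (Subgroup.centralizer {t}) = 8 ∧ Ct.card = 63 := by
    generalize Nat.card (Subgroup.centralizer {t}) = d at hcls hpos hd8le d8
    interval_cases d <;> omega
  refine ⟨hboth.1, ?_⟩
  have huniv : ({1} : Finset G) ∪ (S7 ∪ S3 ∪ Ct) = Finset.univ := by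
    apply Finset.eq_univ_of_card
    rw [hcard, hboth.2, ← Nat.card_eq_fintype_card, h]
  intro x hx1 hx8
  have hxm : x ∈ ({1} : Finset G) ∪ (S7 ∪ S3 ∪ Ct) := by rw [huniv]; exact Finset.mem_univ x
  rcases Finset.mem_union.mp hxm with hx | hx
  · exact absurd (Finset.mem_singleton.mp hx) hx1
  rcases Finset.mem_union.mp hx with hx' | hxC
  · exfalso
    rcases Finset.mem_union.mp hx' with hx7 | hx3
    · rw [hS7, Finset.mem_filter] at hx7
      have h1 := orderOf_dvd_of_pow_eq_one hx8
      rw [hx7.2] at h1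
      omega
    · rw [hS3, Finset.mem_filter] at hx3
      have h9 := hx3.2.2
      have h9' : x ^ 9 = x ^ 8 * x := pow_succ x 8
      rw [h9', hx8, one_mul] at h9
      exact hx1 h9
  · rw [hCt, Finset.mem_filter] at hxC
    exact hxC.2

/-- Centralizers of involutions are elementary abelian. -/
theorem invol_cent (t : G) (ht : orderOf t = 2) :
    IsMulCommutative (Subgroup.centralizer ({t} : Set G)) ∧
      ∀ c ∈ Subgroup.centralizer ({t} : Set G), c ^ 2 = 1 := by
  obtain ⟨hc8, hconj⟩ := invol_main h t ht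
  have hsq : ∀ c ∈ Subgroup.centralizer ({t} : Set G), c ^ 2 = 1 := by
    intro c hc
    by_cases hc1 : c = 1
    · rw [hc1, one_pow]
    · have hc8' : c ^ 8 = 1 := by
        have h0 := congrArg Subtype.val
          (pow_card_eq_one' (G := ↥(Subgroup.centralizer ({t} : Set G))) (x := ⟨c, hc⟩))
        rw [hc8] at h0
        exact h0
      obtain ⟨g, hg⟩ := isConj_iff.mp (hconj c hc1 hc8')
      have ho : orderOf c = 2 := by rw [← hg, S168.orderOf_conj_eq]; exact ht
      rw [← ho]; exact pow_orderOf_eq_one c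
  refine ⟨⟨⟨fun a b => Subtype.ext ?_⟩⟩, hsq⟩
  exact comm_of_sq a.1 b.1 (hsq _ a.2) (hsq _ b.2) (hsq _ (Subgroup.mul_mem _ a.2 b.2))

theorem syl2_facts (T : Sylow 2 G) :
    ¬ IsCyclic (T : Subgroup G) ∧ ¬ (T : Subgroup G).Normal := by
  have hT := card_syl2 h T
  refine ⟨?_, not_normal_of_card h _ (by rw [hT]; norm_num) (by rw [hT]; norm_num)⟩
  intro hcyc
  obtain ⟨g, hg⟩ := hcyc.exists_generator
  have ho : orderOf g = 8 := by
    rw [orderOf_eq_card_of_forall_mem_zpowers hg, hT]
  have ho' : orderOf (g : G) = 8 := by rw [Subgroup.orderOf_coe]; exact ho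
  obtain ⟨t, ht⟩ := exists_prime_orderOf_dvd_card' (G := G) 2 (by rw [h]; norm_num)
  obtain ⟨-, hconj⟩ := invol_main h t ht
  have hg1 : (g : G) ≠ 1 := by
    intro h1
    rw [h1, orderOf_one] at ho'
    omega
  have hg8 : (g : G) ^ 8 = 1 := by
    have := pow_orderOf_eq_one (g : G)
    rwa [ho'] at this
  obtain ⟨c, hc⟩ := isConj_iff.mp (hconj _ hg1 hg8)
  have h2 : orderOf (g : G) = 2 := by rw [← hc, S168.orderOf_conj_eq]; exact ht
  omega

end

end Cfsg.Agent.Lib.helper3.S504
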