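import Mathlib
import Cfsg.Agent.Lib.helper23.BurnsidePQ

set_option autoImplicit false
set_option linter.style.haveILetI false

namespace Cfsg.Agent.Lib.helper3

universe u

/-- Orders up to 100 are either of the form `p^a q^b` or one of eight exceptions. -/
theorem small_orders (n : ℕ) (h1 : 1 ≤ n) (h2 : n ≤ 100) :
    n ∈ ({30, 42, 60, 66, 70, 78, 84, 90} : Finset ℕ) ∨
      ∃ p q a b : ℕ, p.Prime ∧ q.Prime ∧ n = p ^ a * q ^ b := by
  interval_cases n
  · exact Or.inr ⟨2, 3, 0, 0, by norm_num, by norm_num, by norm_num⟩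
  · exact Or.inr ⟨2, 3, 1, 0, by norm_num, by norm_num, by norm_num⟩
  · exact Or.inr ⟨3, 2, 1, 0, by norm_num, by norm_num, by norm_num⟩
  · exact Or.inr ⟨2, 3, 2, 0, by norm_num, by norm_num, by norm_num⟩
  · exact Or.inr ⟨5, 3, 1, 0, by norm_num, by norm_num, by norm_num⟩
  · exact Or.inr ⟨2, 3, 1, 1, by norm_num, by norm_num, by norm_num⟩
  · exact Or.inr ⟨7, 3, 1, 0, by norm_num, by norm_num, by norm_num⟩
  · exact Or.inr ⟨2, 3, 3, 0, by norm_num, by norm_num, by norm_num⟩
  · exact Or.inr ⟨3, 2, 2, 0, by norm_num, by norm_num, by norm_num⟩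
  · exact Or.inr ⟨2, 5, 1, 1, by norm_num, by norm_num, by norm_num⟩
  · exact Or.inr ⟨11, 3, 1, 0, by norm_num, by norm_num, by norm_num⟩
  · exact Or.inr ⟨2, 3, 2, 1, by norm_num, by norm_num, by norm_num⟩
  · exact Or.inr ⟨13, 3, 1, 0, by norm_num, by norm_num, by norm_num⟩
  · exact Or.inr ⟨2, 7, 1, 1, by norm_num, by norm_num, by norm_num⟩
  · exact Or.inr ⟨3, 5, 1, 1, by norm_num, by norm_num, by norm_num⟩
  · exact Or.inr ⟨2, 3, 4, 0, by norm_num, by norm_num, by norm_num⟩
  · exact Or.inr ⟨17, 3, 1, 0, by norm_num, by norm_num, by norm_num⟩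
  · exact Or.inr ⟨2, 3, 1, 2, by norm_num, by norm_num, by norm_num⟩
  · exact Or.inr ⟨19, 3, 1, 0, by norm_num, by norm_num, by norm_num⟩
  · exact Or.inr ⟨2, 5, 2, 1, by norm_num, by norm_num, by norm_num⟩
  · exact Or.inr ⟨3, 7, 1, 1, by norm_num, by norm_num, by norm_num⟩
  · exact Or.inr ⟨2, 11, 1, 1, by norm_num, by norm_num, by norm_num⟩
  · exact Or.inr ⟨23, 3, 1, 0, by norm_num, by norm_num, by norm_num⟩
  · exact Or.inr ⟨2, 3, 3, 1, by norm_num, by norm_num, by norm_num⟩
  · exact Or.inr ⟨5, 3, 2, 0, by norm_num, by norm_num, by norm_num⟩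
  · exact Or.inr ⟨2, 13, 1, 1, by norm_num, by norm_num, by norm_num⟩
  · exact Or.inr ⟨3, 2, 3, 0, by norm_num, by norm_num, by norm_num⟩
  · exact Or.inr ⟨2, 7, 2, 1, by norm_num, by norm_num, by norm_num⟩
  · exact Or.inr ⟨29, 3, 1, 0, by norm_num, by norm_num, by norm_num⟩
  · exact Or.inl (by decide)
  · exact Or.inr ⟨31, 3, 1, 0, by norm_num, by norm_num, by norm_num⟩
  · exact Or.inr ⟨2, 3, 5, 0, by norm_num, by norm_num, by norm_num⟩
  · exact Or.inr ⟨3, 11, 1, 1, by norm_num, by norm_num, by norm_num⟩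
  · exact Or.inr ⟨2, 17, 1, 1, by norm_num, by norm_num, by norm_num⟩
  · exact Or.inr ⟨5, 7, 1, 1, by norm_num, by norm_num, by norm_num⟩
  · exact Or.inr ⟨2, 3, 2, 2, by norm_num, by norm_num, by norm_num⟩
  · exact Or.inr ⟨37, 3, 1, 0, by norm_num, by norm_num, by norm_num⟩
  · exact Or.inr ⟨2, 19, 1, 1, by norm_num, by norm_num, by norm_num⟩
  · exact Or.inr ⟨3, 13, 1, 1, by norm_num, by norm_num, by norm_num⟩
  · exact Or.inr ⟨2, 5, 3, 1, by norm_num, by norm_num, by norm_num⟩
  · exact Or.inr ⟨41, 3, 1, 0, by norm_num, by norm_num, by norm_num⟩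
  · exact Or.inl (by decide)
  · exact Or.inr ⟨43, 3, 1, 0, by norm_num, by norm_num, by norm_num⟩
  · exact Or.inr ⟨2, 11, 2, 1, by norm_num, by norm_num, by norm_num⟩
  · exact Or.inr ⟨3, 5, 2, 1, by norm_num, by norm_num, by norm_num⟩
  · exact Or.inr ⟨2, 23, 1, 1, by norm_num, by norm_num, by norm_num⟩
  · exact Or.inr ⟨47, 3, 1, 0, by norm_num, by norm_num, by norm_num⟩
  · exact Or.inr ⟨2, 3, 4, 1, by norm_num, by norm_num, by norm_num⟩
  · exact Or.inr ⟨7, 3, 2, 0, by norm_num, by norm_num, by norm_num⟩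
  · exact Or.inr ⟨2, 5, 1, 2, by norm_num, by norm_num, by norm_num⟩
  · exact Or.inr ⟨3, 17, 1, 1, by norm_num, by norm_num, by norm_num⟩
  · exact Or.inr ⟨2, 13, 2, 1, by norm_num, by norm_num, by norm_num⟩
  · exact Or.inr ⟨53, 3, 1, 0, by norm_num, by norm_num, by norm_num⟩
  · exact Or.inr ⟨2, 3, 1, 3, by norm_num, by norm_num, by norm_num⟩
  · exact Or.inr ⟨5, 11, 1, 1, by norm_num, by norm_num, by norm_num⟩
  · exact Or.inr ⟨2, 7, 3, 1, by norm_num, by norm_num, by norm_num⟩
  · exact Or.inr ⟨3, 19, 1, 1, by norm_num, by norm_num, by norm_num⟩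
  · exact Or.inr ⟨2, 29, 1, 1, by norm_num, by norm_num, by norm_num⟩
  · exact Or.inr ⟨59, 3, 1, 0, by norm_num, by norm_num, by norm_num⟩
  · exact Or.inl (by decide)
  · exact Or.inr ⟨61, 3, 1, 0, by norm_num, by norm_num, by norm_num⟩
  · exact Or.inr ⟨2, 31, 1, 1, by norm_num, by norm_num, by norm_num⟩
  · exact Or.inr ⟨3, 7, 2, 1, by norm_num, by norm_num, by norm_num⟩
  · exact Or.inr ⟨2, 3, 6, 0, by norm_num, by norm_num, by norm_num⟩
  · exact Or.inr ⟨5, 13, 1, 1, by norm_num, by norm_num, by norm_num⟩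
  · exact Or.inl (by decide)
  · exact Or.inr ⟨67, 3, 1, 0, by norm_num, by norm_num, by norm_num⟩
  · exact Or.inr ⟨2, 17, 2, 1, by norm_num, by norm_num, by norm_num⟩
  · exact Or.inr ⟨3, 23, 1, 1, by norm_num, by norm_num, by norm_num⟩
  · exact Or.inl (by decide)
  · exact Or.inr ⟨71, 3, 1, 0, by norm_num, by norm_num, by norm_num⟩
  · exact Or.inr ⟨2, 3, 3, 2, by norm_num, by norm_num, by norm_num⟩
  · exact Or.inr ⟨73, 3, 1, 0, by norm_num, by norm_num, by norm_num⟩
  · exact Or.inr ⟨2, 37, 1, 1, by norm_num, by norm_num, by norm_num⟩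
  · exact Or.inr ⟨3, 5, 1, 2, by norm_num, by norm_num, by norm_num⟩
  · exact Or.inr ⟨2, 19, 2, 1, by norm_num, by norm_num, by norm_num⟩
  · exact Or.inr ⟨7, 11, 1, 1, by norm_num, by norm_num, by norm_num⟩
  · exact Or.inl (by decide)
  · exact Or.inr ⟨79, 3, 1, 0, by norm_num, by norm_num, by norm_num⟩
  · exact Or.inr ⟨2, 5, 4, 1, by norm_num, by norm_num, by norm_num⟩
  · exact Or.inr ⟨3, 2, 4, 0, by norm_num, by norm_num, by norm_num⟩
  · exact Or.inr ⟨2, 41, 1, 1, by norm_num, by norm_num, by norm_num⟩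
  · exact Or.inr ⟨83, 3, 1, 0, by norm_num, by norm_num, by norm_num⟩
  · exact Or.inl (by decide)
  · exact Or.inr ⟨5, 17, 1, 1, by norm_num, by norm_num, by norm_num⟩
  · exact Or.inr ⟨2, 43, 1, 1, by norm_num, by norm_num, by norm_num⟩
  · exact Or.inr ⟨3, 29, 1, 1, by norm_num, by norm_num, by norm_num⟩
  · exact Or.inr ⟨2, 11, 3, 1, by norm_num, by norm_num, by norm_num⟩
  · exact Or.inr ⟨89, 3, 1, 0, by norm_num, by norm_num, by norm_num⟩
  · exact Or.inl (by decide)
  · exact Or.inr ⟨7, 13, 1, 1, by norm_num, by norm_num, by norm_num⟩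
  · exact Or.inr ⟨2, 23, 2, 1, by norm_num, by norm_num, by norm_num⟩
  · exact Or.inr ⟨3, 31, 1, 1, by norm_num, by norm_num, by norm_num⟩
  · exact Or.inr ⟨2, 47, 1, 1, by norm_num, by norm_num, by norm_num⟩
  · exact Or.inr ⟨5, 19, 1, 1, by norm_num, by norm_num, by norm_num⟩
  · exact Or.inr ⟨2, 3, 5, 1, by norm_num, by norm_num, by norm_num⟩
  · exact Or.inr ⟨97, 3, 1, 0, by norm_num, by norm_num, by norm_num⟩
  · exact Or.inr ⟨2, 7, 1, 2, by norm_num, by norm_num, by norm_num⟩
  · exact Or.inr ⟨3, 11, 2, 1, by norm_num, by norm_num, by norm_num⟩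
  · exact Or.inr ⟨2, 5, 2, 2, by norm_num, by norm_num, by norm_num⟩

/-- A finite simple solvable group is cyclic. -/
theorem isCyclic_of_simple_solvable (G : Type u) [Group G] [IsSimpleGroup G]
    [hs : Group.IsSolvable G] : IsCyclic G := by
  have hcomm : ∀ a b : G, a * b = b * a := IsSimpleGroup.comm_iff_isSolvable.mpr hs
  letI : CommGroup G := { ‹Group G› with mul_comm := hcomm }
  exact IsSimpleGroup.isCyclic

/-- A group of order `2m` with `m > 1` odd is not simple. -/
theorem not_simple_of_card_mod_four (G : Type u) [Group G] [Finite G]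
    (h4 : Nat.card G % 4 = 2) (h2 : 2 < Nat.card G) : ¬ IsSimpleGroup G := by
  intro hsimple
  have h2dvd : 2 ∣ Nat.card G := by omega
  have hmin : (Nat.card G).minFac = 2 := (Nat.minFac_eq_two_iff _).mpr h2dvd
  haveI : Fact (Nat.Prime 2) := ⟨Nat.prime_two⟩
  obtain P : Sylow 2 G := default
  have hPcard : Nat.card P = 2 := by
    obtain ⟨k, hk⟩ := IsPGroup.iff_card.mp P.isPGroup'
    have hk1 : k ≠ 0 := by
      rintro rfl
      rw [pow_zero] at hk
      exact P.ne_bot_of_dvd_card h2dvd (Subgroup.eq_bot_of_card_eq _ hk)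
    have hk2 : k < 2 := by
      by_contra hge
      push Not at hge
      have h4dvd : 4 ∣ Nat.card G := by
        have h1 : (2 : ℕ) ^ 2 ∣ 2 ^ k := pow_dvd_pow 2 hge
        have h3 : 2 ^ k ∣ Nat.card G := by rw [← hk]; exact Subgroup.card_subgroup_dvd_card _
        exact h1.trans h3
      omega
    have : k = 1 := by omega
    rw [hk, this, pow_one]
  have hcyc : IsCyclic P := isCyclic_of_prime_card hPcard
  have hcomp := IsCyclic.isComplement' hmin hcyc
  set K := (MonoidHom.transferSylow P (hcyc.normalizer_le_centralizer hmin)).ker with hK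
  have hKn : K.Normal := inferInstance
  have hidx : K.index = 2 := by rw [hcomp.symm.index_eq_card, hPcard]
  rcases hKn.eq_bot_or_eq_top with h | h
  · rw [h, Subgroup.index_bot] at hidx
    omega
  · rw [h, Subgroup.index_top] at hidx
    omega

/-- A group of order 84 is not simple. -/
theorem not_simple_84 (G : Type u) [Group G] [Finite G] (h : Nat.card G = 84) :
    ¬ IsSimpleGroup G := by
  intro hsimple
  haveI : Fact (Nat.Prime 7) := ⟨by norm_num⟩
  obtain P : Sylow 7 G := default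
  have h7 : 7 ∣ Nat.card G := by rw [h]; norm_num
  obtain ⟨k, hk⟩ := IsPGroup.iff_card.mp P.isPGroup'
  have hci := (P : Subgroup G).card_mul_index
  rw [hk, h] at hci
  have hnd := P.not_dvd_index
  have hk1 : k = 1 := by
    rcases Nat.lt_or_ge k 2 with hlt | hge
    · interval_cases k
      · exfalso
        rw [pow_zero, one_mul] at hci
        rw [hci] at hnd
        exact hnd (by norm_num)
      · rfl
    · exfalso
      have h1 : (7 : ℕ) ^ 2 ∣ 7 ^ k := pow_dvd_pow 7 hge
      have h3 : 7 ^ k ∣ 84 := Dvd.intro _ hci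
      have := h1.trans h3
      omega
  rw [hk1, pow_one] at hci
  have hidx : (P : Subgroup G).index = 12 := by omega
  have hdvd := P.card_dvd_index
  rw [hidx] at hdvd
  have hmod : Nat.card (Sylow 7 G) ≡ 1 [MOD 7] := card_sylow_modEq_one 7 G
  have hle : Nat.card (Sylow 7 G) ≤ 12 := Nat.le_of_dvd (by norm_num) hdvd
  have hone : Nat.card (Sylow 7 G) = 1 := by
    have hm : Nat.card (Sylow 7 G) % 7 = 1 := hmod
    have hpos : 0 < Nat.card (Sylow 7 G) := Nat.card_pos
    interval_cases hn : Nat.card (Sylow 7 G) <;> omega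
  have hnorm : (Subgroup.normalizer ((P : Subgroup G) : Set G)).index = 1 := by
    have h9 := P.card_eq_index_normalizer
    rw [hone] at h9
    exact h9.symm
  have hPn : (P : Subgroup G).Normal :=
    Subgroup.normalizer_eq_top_iff.mp (Subgroup.index_eq_one.mp hnorm)
  have hPc : Nat.card (P : Subgroup G) = 7 := by rw [hk, hk1, pow_one]
  rcases hPn.eq_bot_or_eq_top with h0 | h0
  · rw [h0, Subgroup.card_bot] at hPc
    omega
  · rw [h0, Subgroup.card_top, h] at hPc
    omega

/-- A non-cyclic finite simple group of order at most 100 has order 60. -/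
theorem simple_card_le_100 (G : Type u) [Group G] [Finite G] [IsSimpleGroup G]
    (hG : ¬ IsCyclic G) (h : Nat.card G ≤ 100) : Nat.card G = 60 := by
  have hns : ¬ Group.IsSolvable G := fun hs => hG (isCyclic_of_simple_solvable G)
  rcases small_orders (Nat.card G) Nat.card_pos h with hmem | ⟨p, q, a, b, hp, hq, e⟩
  · simp only [Finset.mem_insert, Finset.mem_singleton] at hmem
    rcases hmem with h1 | h1 | h1 | h1 | h1 | h1 | h1 | h1
    · exact absurd ‹IsSimpleGroup G› (not_simple_of_card_mod_four G (by rw [h1]) (by rw [h1]; norm_num))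
    · exact absurd ‹IsSimpleGroup G› (not_simple_of_card_mod_four G (by rw [h1]) (by rw [h1]; norm_num))
    · exact h1
    · exact absurd ‹IsSimpleGroup G› (not_simple_of_card_mod_four G (by rw [h1]) (by rw [h1]; norm_num))
    · exact absurd ‹IsSimpleGroup G› (not_simple_of_card_mod_four G (by rw [h1]) (by rw [h1]; norm_num))
    · exact absurd ‹IsSimpleGroup G› (not_simple_of_card_mod_four G (by rw [h1]) (by rw [h1]; norm_num))
    · exact absurd ‹IsSimpleGroup G› (not_simple_84 G h1)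
    · exact absurd ‹IsSimpleGroup G› (not_simple_of_card_mod_four G (by rw [h1]) (by rw [h1]; norm_num))
  · exact absurd (Cfsg.Agent.Lib.helper23.burnside_paqb p q a b hp hq e) hns

end Cfsg.Agent.Lib.helper3
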