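import Mathlib
import Cfsg.Agent.Lib.helper3.UniqP
import Cfsg.Agent.Lib.helper3.Uniq660a
import Cfsg.Agent.Lib.helper3.Uniq1092a

set_option autoImplicit false
set_option linter.style.haveILetI false

/-! Simple groups of order 660 and 1092 are unique up to isomorphism. -/

namespace Cfsg.Agent.Lib.helper3.UG

open Cfsg.Agent.Lib.helper3.S168 Cfsg.Agent.Lib.helper3.UP

universe u

variable {G : Type u} [Group G] [Finite G] [IsSimpleGroup G]

/-- Sylow data for a simple group of order `p m (p+1)` -/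
theorem sylow_data (p m : ℕ) [hp : Fact p.Prime] (hG : Nat.card G = p * (m * (p + 1)))
    (hndvd : ¬ p ∣ m * (p + 1))
    (harith : ∀ k n : ℕ, k * n = m * (p + 1) → n % p = 1 → n ≠ 1 → k = m)
    (P : Sylow p G) : Nat.card (P : Subgroup G) = p ∧
      Nat.card (Subgroup.normalizer ((P : Subgroup G) : Set G)) = p * m := by
  have hp1 := hp.out.one_lt
  have hcP : Nat.card (P : Subgroup G) = p := by
    have h1 := sylow_card_of (p := p) 1 (m * (p + 1)) (by rw [hG, pow_one]) hndvd P
    rwa [pow_one] at h1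
  refine ⟨hcP, ?_⟩
  have hmul := card_normalizer_mul P
  have hmod : Nat.card (Sylow p G) % p = 1 := by
    have h1 : Nat.card (Sylow p G) % p = 1 % p := card_sylow_modEq_one p G
    rwa [Nat.mod_eq_of_lt hp1] at h1
  have hdvd : p ∣ Nat.card (Subgroup.normalizer ((P : Subgroup G) : Set G)) := by
    have h1 := Subgroup.card_dvd_of_le (Subgroup.le_normalizer (H := (P : Subgroup G)))
    rwa [hcP] at h1
  have hne1 : Nat.card (Sylow p G) ≠ 1 := by
    intro h1
    rw [h1, mul_one] at hmul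
    have htop : Subgroup.normalizer ((P : Subgroup G) : Set G) = ⊤ :=
      Subgroup.eq_top_of_card_eq _ hmul
    have hnorm : (P : Subgroup G).Normal := Subgroup.normalizer_eq_top_iff.mp htop
    rcases hnorm.eq_bot_or_eq_top with hb | ht
    · rw [hb, Subgroup.card_bot] at hcP; omega
    · rw [ht, Subgroup.card_top, hG] at hcP
      have h2 : p * (m * (p + 1)) = p * 1 := by rw [hcP, mul_one]
      have h3 := Nat.eq_of_mul_eq_mul_left hp.out.pos h2
      have h4 : p + 1 = 1 := Nat.dvd_one.mp (Dvd.intro_left m h3)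
      omega
  rw [hG] at hmul
  obtain ⟨k, hk⟩ := hdvd
  rw [hk] at hmul ⊢
  have hkn : k * Nat.card (Sylow p G) = m * (p + 1) := by
    have h' : p * (k * Nat.card (Sylow p G)) = p * (m * (p + 1)) := by
      rw [← mul_assoc]; exact hmul
    exact Nat.eq_of_mul_eq_mul_left hp.out.pos h'
  rw [harith k _ hkn hmod hne1]

theorem iso11 (h : Nat.card G = 660) : Nonempty (G ≃* ↥(U11.K 2)) := by
  haveI : Fact (Nat.Prime 11) := ⟨by norm_num⟩
  obtain ⟨P⟩ : Nonempty (Sylow 11 G) := inferInstance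
  obtain ⟨hcP, hcN⟩ := sylow_data 11 5 (h.trans (by norm_num)) (by norm_num) (by
    intro k n hkn hmod hne
    have hle : n ≤ 60 := Nat.le_of_dvd (by norm_num) (Dvd.intro_left k hkn)
    interval_cases n <;> omega) P
  obtain ⟨a, ha, ⟨e⟩⟩ := main_rep 11 5 P hcP hcN (h.trans (by norm_num)) (by norm_num)
    (by norm_num) U11.D1 U11.D2 (fun a => a ^ 5 = -1) U11.det U11.su U11.sc U11.st
    U11.hsu U11.hsc U11.hst
  exact ⟨e.trans (MulEquiv.subgroupCongr (U11.K_eq a ha))⟩

theorem iso13 (h : Nat.card G = 1092) : Nonempty (G ≃* ↥(U13.K 1)) := by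
  haveI : Fact (Nat.Prime 13) := ⟨by norm_num⟩
  obtain ⟨P⟩ : Nonempty (Sylow 13 G) := inferInstance
  obtain ⟨hcP, hcN⟩ := sylow_data 13 6 (h.trans (by norm_num)) (by norm_num) (by
    intro k n hkn hmod hne
    have hle : n ≤ 84 := Nat.le_of_dvd (by norm_num) (Dvd.intro_left k hkn)
    interval_cases n <;> omega) P
  obtain ⟨a, ha, ⟨e⟩⟩ := main_rep 13 6 P hcP hcN (h.trans (by norm_num)) (by norm_num)
    (by norm_num) U13.D1 U13.D2 (fun a => a ^ 6 = 1) U13.det U13.su U13.sc U13.st
    U13.hsu U13.hsc U13.hst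
  exact ⟨e.trans (MulEquiv.subgroupCongr (U13.K_eq a ha))⟩

end Cfsg.Agent.Lib.helper3.UG
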