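import Mathlib
import Cfsg.Agent.Lib.helper3.UniqP

set_option autoImplicit false
set_option linter.style.haveILetI false
set_option linter.unusedSectionVars false

/-! Variant of `UP.main_rep` with an arbitrary generator `g` of the squares of `ZMod p` and a
counting hypothesis in place of the Cauchy-type hypothesis. -/

namespace Cfsg.Agent.Lib.helper3.UP

open Cfsg.Agent.Lib.helper3.S168

universe u

variable {G : Type u} [Group G] [Finite G]

theorem main_rep2 (p : ℕ) [hp : Fact p.Prime] [IsSimpleGroup G] (m : ℕ) (g : ZMod p)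
    (P : Sylow p G)
    (hcP : Nat.card (P : Subgroup G) = p)
    (hcN : Nat.card (Subgroup.normalizer ((P : Subgroup G) : Set G)) = p * m)
    (hG : Nat.card G = p * m * (p + 1)) (hmp : m < p) (hm0 : 0 < m)
    (D1 : Nat.card {j : ZMod p // j ^ (p * m) = 1 ∧ j ≠ g} < m)
    (D2 : ∀ j : ZMod p, j ^ (p * m) = 1 → ∃ i : ℕ, j = g ^ i)
    (Pa : ZMod p → Prop)
    (D3 : ∀ T : X p → X p, Function.Injective T → T none = some 0 → T (some 0) = none →
      (∃ j, j ^ (p * m) = 1 ∧ ∀ q, T (affn p g 0 q) = affn p j 0 (T q)) →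
      (∃ y j z, j ^ (p * m) = 1 ∧
        ∀ q, T (affn p 1 1 (T q)) = affn p 1 y (T (affn p j z q))) →
      ∃ a, Pa a ∧ ∀ q, T q = tf p a q)
    (su sc : Equiv.Perm (X p)) (st : ZMod p → Equiv.Perm (X p))
    (hsu : ∀ q, su q = affn p 1 1 q) (hsc : ∀ q, sc q = affn p g 0 q)
    (hst : ∀ a, Pa a → ∀ q, st a q = tf p a q) :
    ∃ a, Pa a ∧
      Nonempty (G ≃* ↥(Subgroup.closure ({su, sc, st a} : Set (Equiv.Perm (X p))))) := by
  haveI : NeZero p := ⟨hp.out.ne_zero⟩
  have hp2 : 2 ≤ p := hp.out.two_le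
  have hpm0 : 0 < p * m := Nat.mul_pos (by omega) hm0
  -- generator of P
  obtain ⟨u0, hu0⟩ := exists_prime_orderOf_dvd_card' (G := ↥(P : Subgroup G)) p (by rw [hcP])
  obtain ⟨u, huP⟩ := u0
  have hu : orderOf u = p := by rw [← hu0, Subgroup.orderOf_mk]
  have hup : u ^ p = 1 := by
    have h1 := pow_orderOf_eq_one u
    rwa [hu] at h1
  have hPz : (P : Subgroup G) = Subgroup.zpowers u := by
    symm
    apply Subgroup.eq_of_le_of_card_ge
    · rw [Subgroup.zpowers_le]; exact huP
    · rw [Nat.card_zpowers, hu, hcP]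
  obtain ⟨N, hN⟩ : ∃ N : Subgroup G, N = Subgroup.normalizer ((P : Subgroup G) : Set G) :=
    ⟨_, rfl⟩
  have hcardN : Nat.card N = p * m := by rw [hN]; exact hcN
  have huN : u ∈ N := by rw [hN]; exact Subgroup.le_normalizer huP
  have hupN : ∀ a : ℕ, u ^ a ∈ N := fun a => Subgroup.pow_mem _ huN a
  -- exponents
  have hexp : ∀ n ∈ N, ∃ k : ℕ, n * u * n⁻¹ = u ^ k := by
    intro n hn
    have hmem : n * u * n⁻¹ ∈ Subgroup.zpowers u := by
      rw [← hPz]
      rw [hN] at hn
      exact (Subgroup.mem_normalizer_iff.mp hn u).mp (by rw [hPz]; exact Subgroup.mem_zpowers u)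
    obtain ⟨k, hk⟩ := (Submonoid.mem_powers_iff _ _).mp (mem_powers_iff_mem_zpowers.mpr hmem)
    exact ⟨k, hk.symm⟩
  have hpm : ∀ n ∈ N, ∀ k : ℕ, n * u * n⁻¹ = u ^ k → (k : ZMod p) ^ (p * m) = 1 := by
    intro n hn k hk
    have h1 := conj_pow_iter u n k hk (p * m)
    have h2 : n ^ (p * m) = 1 := by
      have h3 := pow_card_eq_one' (G := ↥N) (x := ⟨n, hn⟩)
      rw [hcardN] at h3
      exact congrArg Subtype.val h3
    rw [h2, one_mul, inv_one, mul_one] at h1
    have h3 : u ^ (k ^ (p * m)) = u ^ 1 := by rw [← h1, pow_one]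
    rw [pow_eq_pow_iff_modEq, hu] at h3
    have h4 := (ZMod.natCast_eq_natCast_iff _ _ _).mpr h3
    push_cast at h4
    exact h4
  -- base point
  obtain ⟨g₀, hg₀⟩ : ∃ g₀ : G, g₀ ∉ N := by
    by_contra hall
    have htop : N = ⊤ :=
      (Subgroup.eq_top_iff' N).mpr (fun g => by_contra (fun hg => hall ⟨g, hg⟩))
    rw [htop, Subgroup.card_top, hG] at hcardN
    have h1 : p * m * (p + 1) = p * m * 1 := by rw [hcardN, mul_one]
    have h2 := Nat.eq_of_mul_eq_mul_left hpm0 h1
    omega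
  have hval0 : (0 : ZMod p).val = 0 := ZMod.val_zero
  have hval1 : (1 : ZMod p).val = 1 := ZMod.val_one p
  have h10 : (1 : ZMod p) ≠ 0 := one_ne_zero
  have hlam0 : lam p N u g₀ (some 0) = ((g₀ : G) : G ⧸ N) := by
    show ((u ^ (0 : ZMod p).val * g₀ : G) : G ⧸ N) = _
    rw [hval0, pow_zero, one_mul]
  -- injectivity of the labelling
  have hlam_inj : Function.Injective (lam p N u g₀) := by
    intro a b hab
    rcases a with _ | x <;> rcases b with _ | y
    · rfl
    · exfalso
      have hab' : ((1 : G) : G ⧸ N) = ((u ^ y.val * g₀ : G) : G ⧸ N) := hab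
      rw [QuotientGroup.eq] at hab'
      apply hg₀
      have e : g₀ = (u ^ y.val)⁻¹ * (1⁻¹ * (u ^ y.val * g₀)) := by group
      rw [e]; exact Subgroup.mul_mem _ (Subgroup.inv_mem _ (hupN _)) hab'
    · exfalso
      have hab' : ((u ^ x.val * g₀ : G) : G ⧸ N) = ((1 : G) : G ⧸ N) := hab
      rw [QuotientGroup.eq] at hab'
      apply hg₀
      have e : g₀ = (u ^ x.val)⁻¹ * ((u ^ x.val * g₀)⁻¹ * 1)⁻¹ := by group
      rw [e]; exact Subgroup.mul_mem _ (Subgroup.inv_mem _ (hupN _)) (Subgroup.inv_mem _ hab')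
    · have hab' : ((u ^ x.val * g₀ : G) : G ⧸ N) = ((u ^ y.val * g₀ : G) : G ⧸ N) := hab
      rw [QuotientGroup.eq] at hab'
      by_contra hne
      have hxy : x ≠ y := fun e => hne (by rw [e])
      apply hg₀
      rw [hN]
      apply conj_not_mem p P hcP g₀ ((u ^ x.val)⁻¹ * u ^ y.val)
      · exact Subgroup.mul_mem _ (Subgroup.inv_mem _ (Subgroup.pow_mem _ huP _))
          (Subgroup.pow_mem _ huP _)
      · intro h1
        have h2 : u ^ x.val = u ^ y.val := by
          calc u ^ x.val = u ^ x.val * ((u ^ x.val)⁻¹ * u ^ y.val) := by rw [h1, mul_one]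
            _ = u ^ y.val := by group
        rw [pow_eq_pow_iff_modEq, hu] at h2
        exact hxy (ZMod.val_injective p
          (Nat.ModEq.eq_of_lt_of_lt h2 (ZMod.val_lt x) (ZMod.val_lt y)))
      · have e : g₀⁻¹ * ((u ^ x.val)⁻¹ * u ^ y.val) * g₀ =
            (u ^ x.val * g₀)⁻¹ * (u ^ y.val * g₀) := by group
        rw [e, ← hN]; exact hab'
  have hcardΩ : Nat.card (G ⧸ N) = p + 1 := by
    have h1 := Subgroup.card_mul_index N
    rw [hcardN, hG] at h1
    have h2 : N.index = p + 1 := Nat.eq_of_mul_eq_mul_left hpm0 h1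
    rw [← h2]; rfl
  have hcardX : Nat.card (X p) = p + 1 := by
    rw [Nat.card_eq_fintype_card, Fintype.card_option, ZMod.card]
  have hbij : Function.Bijective (lam p N u g₀) :=
    hlam_inj.bijective_of_nat_card_le (by rw [hcardΩ, hcardX])
  have hsurj := hbij.2
  -- N is the stabiliser of the point at infinity
  have hNfix : ∀ n ∈ N, n • lam p N u g₀ none = lam p N u g₀ none := by
    intro n hn
    show ((n * 1 : G) : G ⧸ N) = ((1 : G) : G ⧸ N)
    rw [QuotientGroup.eq]
    have e : (n * 1)⁻¹ * 1 = n⁻¹ := by group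
    rw [e]; exact Subgroup.inv_mem _ hn
  have hfixN : ∀ g : G, g • lam p N u g₀ none = lam p N u g₀ none → g ∈ N := by
    intro g hg
    have hg' : ((g * 1 : G) : G ⧸ N) = ((1 : G) : G ⧸ N) := hg
    rw [QuotientGroup.eq] at hg'
    have e : g = ((g * 1)⁻¹ * 1)⁻¹ := by group
    rw [e]; exact Subgroup.inv_mem _ hg'
  have hpt : ∀ n ∈ N, ∃ w : ZMod p, n • lam p N u g₀ (some 0) = lam p N u g₀ (some w) := by
    intro n hn
    obtain ⟨q, hq⟩ := hsurj (n • lam p N u g₀ (some 0))
    rcases q with _ | w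
    · exfalso
      have h1 : n • lam p N u g₀ none = n • lam p N u g₀ (some 0) := by rw [hNfix n hn, hq]
      have h2 := hlam_inj (smul_left_cancel n h1)
      exact absurd h2.symm (Option.some_ne_none _)
    · exact ⟨w, hq.symm⟩
  -- elements of N act as affine maps
  have hact : ∀ n ∈ N, ∀ k : ℕ, n * u * n⁻¹ = u ^ k → ∀ z : ZMod p,
      n • lam p N u g₀ (some 0) = lam p N u g₀ (some z) →
      ∀ q, n • lam p N u g₀ q = lam p N u g₀ (affn p (k : ZMod p) z q) := by
    intro n hn k hk z hz q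
    rcases q with _ | x
    · exact hNfix n hn
    · have e1 : lam p N u g₀ (some x) = u ^ x.val • lam p N u g₀ (some 0) := by
        rw [hlam0]; rfl
      have e2 : n * u ^ x.val = u ^ (k * x.val) * n := by
        have h1 := conj_pow_of u n k hk x.val
        calc n * u ^ x.val = n * u ^ x.val * n⁻¹ * n := by group
          _ = u ^ (k * x.val) * n := by rw [h1]
      rw [e1, smul_smul, e2, ← smul_smul, hz]
      show ((u ^ (k * x.val) * (u ^ z.val * g₀) : G) : G ⧸ N) =
        ((u ^ ((k : ZMod p) * x + z).val * g₀ : G) : G ⧸ N)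
      have e3 : u ^ (k * x.val) * (u ^ z.val * g₀) = u ^ ((k : ZMod p) * x + z).val * g₀ := by
        rw [← mul_assoc, ← pow_add]
        congr 1
        apply pow_val_eq p u hu
        push_cast
        rw [ZMod.natCast_zmod_val, ZMod.natCast_zmod_val]
      rw [e3]
  have hupow : ∀ (w : ZMod p) (q : X p),
      u ^ w.val • lam p N u g₀ q = lam p N u g₀ (affn p 1 w q) := by
    intro w q
    have h1 : u ^ w.val * u * (u ^ w.val)⁻¹ = u ^ 1 := by rw [pow_one]; group
    have h2 : u ^ w.val • lam p N u g₀ (some 0) = lam p N u g₀ (some w) := by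
      rw [hlam0]; rfl
    have h3 := hact (u ^ w.val) (hupN _) 1 h1 w h2 q
    rwa [Nat.cast_one] at h3
  have hu1 : ∀ q, u • lam p N u g₀ q = lam p N u g₀ (affn p 1 1 q) := by
    intro q
    have h1 := hupow 1 q
    rwa [hval1, pow_one] at h1
  -- faithfulness
  have hfaith : ∀ g g' : G, (∀ q, g • lam p N u g₀ q = g' • lam p N u g₀ q) → g = g' := by
    intro g g' hgg
    have hker : (MulAction.toPermHom G (G ⧸ N)).ker = ⊥ := by
      rcases (inferInstance :
        ((MulAction.toPermHom G (G ⧸ N)).ker).Normal).eq_bot_or_eq_top with hk | hk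
      · exact hk
      · exfalso
        have hmem : u ∈ (MulAction.toPermHom G (G ⧸ N)).ker := by rw [hk]; trivial
        have h1 : MulAction.toPermHom G (G ⧸ N) u = 1 := MonoidHom.mem_ker.mp hmem
        have h2 : u • lam p N u g₀ (some 0) = lam p N u g₀ (some 0) :=
          congrArg (fun σ : Equiv.Perm (G ⧸ N) => σ (lam p N u g₀ (some 0))) h1
        rw [hu1] at h2
        have h3 := hlam_inj h2
        rw [affn_some, mul_zero, zero_add] at h3
        exact h10 (Option.some.inj h3)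
    have h1 : g⁻¹ * g' ∈ (MulAction.toPermHom G (G ⧸ N)).ker := by
      rw [MonoidHom.mem_ker]
      ext ω
      obtain ⟨q, rfl⟩ := hsurj ω
      show (g⁻¹ * g') • lam p N u g₀ q = lam p N u g₀ q
      rw [mul_smul, ← hgg q, inv_smul_smul]
    rw [hker, Subgroup.mem_bot] at h1
    exact inv_mul_eq_one.mp h1
  -- an element of N acting as x ↦ g x
  obtain ⟨c', hc'N, kc, hkc, hkc4⟩ :
      ∃ c' ∈ N, ∃ k : ℕ, c' * u * c'⁻¹ = u ^ k ∧ (k : ZMod p) = g := by
    by_contra hno
    have hno' : ∀ n ∈ N, ∀ k : ℕ, n * u * n⁻¹ = u ^ k → (k : ZMod p) ≠ g :=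
      fun n hn k hk hkg => hno ⟨n, hn, k, hk, hkg⟩
    choose kf hkf using fun n : ↥N => hexp n.1 n.2
    choose zf hzf using fun n : ↥N => hpt n.1 n.2
    have hFinj : Function.Injective (fun n : ↥N =>
        ((⟨(kf n : ZMod p), hpm n.1 n.2 (kf n) (hkf n), hno' n.1 n.2 (kf n) (hkf n)⟩ :
          {j : ZMod p // j ^ (p * m) = 1 ∧ j ≠ g}), zf n)) := by
      intro n n' hnn
      have h1 : (kf n : ZMod p) = (kf n' : ZMod p) :=
        congrArg (fun x : {j : ZMod p // j ^ (p * m) = 1 ∧ j ≠ g} × ZMod p => (x.1 : ZMod p)) hnn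
      have h2 : zf n = zf n' :=
        congrArg (fun x : {j : ZMod p // j ^ (p * m) = 1 ∧ j ≠ g} × ZMod p => x.2) hnn
      apply Subtype.ext
      apply hfaith
      intro q
      rw [hact n.1 n.2 (kf n) (hkf n) (zf n) (hzf n),
        hact n'.1 n'.2 (kf n') (hkf n') (zf n') (hzf n'), h1, h2]
    have hle := Nat.card_le_card_of_injective _ hFinj
    rw [Nat.card_prod, hcardN, Nat.card_eq_fintype_card (α := ZMod p), ZMod.card] at hle
    have h3 := Nat.mul_le_mul_right p (Nat.succ_le_of_lt D1)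
    nlinarith [h3, hle, hp2]
  obtain ⟨zc, hzc⟩ := hpt c' hc'N
  have hc'act := hact c' hc'N kc hkc zc hzc
  rw [hkc4] at hc'act
  obtain ⟨c, hcdef⟩ : ∃ c : G, c = u ^ (-zc).val * c' := ⟨_, rfl⟩
  have hcN : c ∈ N := by rw [hcdef]; exact Subgroup.mul_mem _ (hupN _) hc'N
  have hc : ∀ q, c • lam p N u g₀ q = lam p N u g₀ (affn p g 0 q) := by
    intro q
    rw [hcdef, mul_smul, hc'act, hupow, affn_comp]
    have e1 : (1 : ZMod p) * g = g := one_mul g
    have e2 : (1 : ZMod p) * zc + -zc = 0 := by ring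
    rw [e1, e2]
  have hcpow : ∀ (i : ℕ) (q : X p),
      c ^ i • lam p N u g₀ q = lam p N u g₀ (affn p (g ^ i) 0 q) := by
    intro i
    induction i with
    | zero =>
      intro q
      rw [pow_zero, one_smul, pow_zero]
      rcases q with _ | x
      · rfl
      · rw [affn_some, one_mul, add_zero]
    | succ i ih =>
      intro q
      rw [pow_succ, mul_smul, hc, ih, affn_comp]
      have e1 : g ^ i * g = g ^ (i + 1) := (pow_succ g i).symm
      have e2 : g ^ i * 0 + 0 = 0 := by ring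
      rw [e1, e2]
  -- the element swapping the two base points
  have hg₀inv : g₀⁻¹ ∉ N := fun h => hg₀ (by simpa using Subgroup.inv_mem _ h)
  obtain ⟨y₀, hy₀⟩ : ∃ y₀ : ZMod p, g₀⁻¹ • lam p N u g₀ none = lam p N u g₀ (some y₀) := by
    obtain ⟨q, hq⟩ := hsurj (g₀⁻¹ • lam p N u g₀ none)
    rcases q with _ | w
    · exfalso; exact hg₀inv (hfixN _ hq.symm)
    · exact ⟨w, hq.symm⟩
  obtain ⟨t, htdef⟩ : ∃ t : G, t = g₀ * u ^ y₀.val := ⟨_, rfl⟩
  have ht1 : t • lam p N u g₀ none = lam p N u g₀ (some 0) := by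
    rw [htdef, mul_smul, hNfix _ (hupN _), hlam0]
    show ((g₀ * 1 : G) : G ⧸ N) = ((g₀ : G) : G ⧸ N)
    rw [mul_one]
  have ht2 : t • lam p N u g₀ (some 0) = lam p N u g₀ none := by
    rw [htdef, mul_smul, hupow, affn_some, mul_zero, zero_add, ← hy₀, smul_inv_smul]
  obtain ⟨e, he⟩ : ∃ e : X p ≃ G ⧸ N, ∀ q, e q = lam p N u g₀ q :=
    ⟨Equiv.ofBijective _ hbij, fun _ => rfl⟩
  obtain ⟨τ, hτ⟩ : ∃ τ : X p → X p, ∀ q, t • lam p N u g₀ q = lam p N u g₀ (τ q) :=
    ⟨fun q => e.symm (t • lam p N u g₀ q),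
      fun q => ((he _).symm.trans (e.apply_symm_apply _)).symm⟩
  have hτinj : Function.Injective τ := by
    intro a b hab
    have h1 : t • lam p N u g₀ a = t • lam p N u g₀ b := by rw [hτ, hτ, hab]
    exact hlam_inj (smul_left_cancel t h1)
  have hτ1 : τ none = some 0 := hlam_inj ((hτ none).symm.trans ht1)
  have hτ2 : τ (some 0) = none := hlam_inj ((hτ (some 0)).symm.trans ht2)
  have hT2 : ∃ j : ZMod p, j ^ (p * m) = 1 ∧ ∀ q, τ (affn p g 0 q) = affn p j 0 (τ q) := by
    obtain ⟨d, hd⟩ : ∃ d : G, d = t * c * t⁻¹ := ⟨_, rfl⟩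
    have ht1' : t⁻¹ • lam p N u g₀ (some 0) = lam p N u g₀ none := by rw [← ht1, inv_smul_smul]
    have ht2' : t⁻¹ • lam p N u g₀ none = lam p N u g₀ (some 0) := by rw [← ht2, inv_smul_smul]
    have hc0 : c • lam p N u g₀ (some 0) = lam p N u g₀ (some 0) := by
      rw [hc, affn_some, mul_zero, zero_add]
    have hdN : d ∈ N := by
      apply hfixN
      rw [hd, mul_smul, mul_smul, ht2', hc0, ht2]
    have hd0 : d • lam p N u g₀ (some 0) = lam p N u g₀ (some 0) := by
      rw [hd, mul_smul, mul_smul, ht1', hNfix c hcN, ht1]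
    obtain ⟨k, hk⟩ := hexp d hdN
    have hdact := hact d hdN k hk 0 hd0
    refine ⟨(k : ZMod p), hpm d hdN k hk, ?_⟩
    intro q
    apply hlam_inj
    rw [← hτ, ← hc, ← hdact, ← hτ, ← mul_smul, ← mul_smul]
    have e1 : t * c = d * t := by rw [hd]; group
    rw [e1]
  have hT4 : ∃ (y j z : ZMod p), j ^ (p * m) = 1 ∧
      ∀ q, τ (affn p 1 1 (τ q)) = affn p 1 y (τ (affn p j z q)) := by
    obtain ⟨y, hy⟩ : ∃ y : ZMod p, τ (some 1) = some y := by
      rcases hq : τ (some 1) with _ | y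
      · exfalso
        have h1 := hτinj (hq.trans hτ2.symm)
        exact h10 (Option.some.inj h1)
      · exact ⟨y, rfl⟩
    obtain ⟨n', hn'⟩ : ∃ n' : G, n' = (u ^ y.val * t)⁻¹ * (t * u * t) := ⟨_, rfl⟩
    have hn'N : n' ∈ N := by
      apply hfixN
      rw [hn', mul_smul, mul_smul, mul_smul, ht1, hu1, affn_some, mul_zero, zero_add, hτ, hy]
      rw [inv_smul_eq_iff, mul_smul, ht1, hupow, affn_some, mul_zero, zero_add]
    obtain ⟨k, hk⟩ := hexp n' hn'N
    obtain ⟨z, hz⟩ := hpt n' hn'N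
    have hact' := hact n' hn'N k hk z hz
    refine ⟨y, (k : ZMod p), z, hpm n' hn'N k hk, ?_⟩
    intro q
    apply hlam_inj
    rw [← hτ, ← hu1, ← hτ, ← hupow, ← hτ, ← hact']
    rw [← mul_smul, ← mul_smul, ← mul_smul, ← mul_smul]
    have e1 : t * u * t = u ^ y.val * t * n' := by rw [hn', mul_inv_cancel_left]
    rw [e1]
  obtain ⟨a, haP, hτa⟩ := D3 τ hτinj hτ1 hτ2 hT2 hT4
  -- generation
  have hNgen : ∀ n ∈ N, n ∈ Subgroup.closure ({u, c, t} : Set G) := by
    intro n hn
    obtain ⟨k, hk⟩ := hexp n hn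
    obtain ⟨z, hz⟩ := hpt n hn
    have hnact := hact n hn k hk z hz
    obtain ⟨i, hi⟩ := D2 _ (hpm n hn k hk)
    have hn_eq : n = u ^ z.val * c ^ i := by
      apply hfaith
      intro q
      rw [hnact, hi, mul_smul, hcpow, hupow, affn_comp]
      have e1 : (1 : ZMod p) * g ^ i = g ^ i := one_mul _
      have e2 : (1 : ZMod p) * 0 + z = z := by ring
      rw [e1, e2]
    rw [hn_eq]
    exact Subgroup.mul_mem _ (Subgroup.pow_mem _ (Subgroup.subset_closure (by simp)) _)
      (Subgroup.pow_mem _ (Subgroup.subset_closure (by simp)) _)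
  have hgen : Subgroup.closure ({u, c, t} : Set G) = ⊤ := by
    rw [Subgroup.eq_top_iff']
    intro g
    by_cases hgN : g ∈ N
    · exact hNgen g hgN
    · obtain ⟨q, hq⟩ := hsurj (g • lam p N u g₀ none)
      rcases q with _ | y
      · exact absurd (hfixN g hq.symm) hgN
      · have hn'N : (u ^ y.val * t)⁻¹ * g ∈ N := by
          apply hfixN
          rw [mul_smul, ← hq, inv_smul_eq_iff, mul_smul, ht1, hupow, affn_some, mul_zero,
            zero_add]
        have e1 : g = u ^ y.val * t * ((u ^ y.val * t)⁻¹ * g) := by rw [mul_inv_cancel_left]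
        rw [e1]
        exact Subgroup.mul_mem _ (Subgroup.mul_mem _
          (Subgroup.pow_mem _ (Subgroup.subset_closure (by simp)) _)
          (Subgroup.subset_closure (by simp))) (hNgen _ hn'N)
  -- the permutation representation
  have hρu : rho p e u = su := rho_eq p e u su (fun q => by rw [he, he, hsu]; exact hu1 q)
  have hρc : rho p e c = sc := rho_eq p e c sc (fun q => by rw [he, he, hsc]; exact hc q)
  have hρt : rho p e t = st a :=
    rho_eq p e t (st a) (fun q => by rw [he, he, hst a haP, ← hτa]; exact hτ q)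
  have hinj : Function.Injective (rho (G := G) p e) := by
    intro g g' hgg
    apply hfaith
    intro q
    have h1 : rho p e g q = rho p e g' q := by rw [hgg]
    rw [rho_apply, rho_apply] at h1
    have h2 := e.symm.injective h1
    rw [he] at h2
    exact h2
  have hrange : (rho (G := G) p e).range =
      Subgroup.closure ({su, sc, st a} : Set (Equiv.Perm (X p))) := by
    rw [MonoidHom.range_eq_map, ← hgen, MonoidHom.map_closure]
    congr 1
    rw [Set.image_insert_eq, Set.image_insert_eq, Set.image_singleton, hρu, hρc, hρt]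
  exact ⟨a, haP, ⟨(MonoidHom.ofInjective hinj).trans (MulEquiv.subgroupCongr hrange)⟩⟩

end Cfsg.Agent.Lib.helper3.UP
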