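import Mathlib
import Cfsg.Agent.Lib.helper3.UniqP2
import Cfsg.Agent.Lib.helper3.UniqGlue
import Cfsg.Agent.Lib.helper3.UniqQ17a
import Cfsg.Agent.Lib.helper3.UniqQ19a
import Cfsg.Agent.Lib.helper3.UniqQ23a

set_option autoImplicit false
set_option linter.style.haveILetI false

/-! Simple groups of order 2448, 3420 and 6072 are unique up to isomorphism. -/

namespace Cfsg.Agent.Lib.helper3.UG

open Cfsg.Agent.Lib.helper3.S168 Cfsg.Agent.Lib.helper3.UP

universe u

variable {G : Type u} [Group G] [Finite G] [IsSimpleGroup G]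


theorem iso17 (h : Nat.card G = 2448) : Nonempty (G ≃* ↥(V17.K 1)) := by
  haveI : Fact (Nat.Prime 17) := ⟨by norm_num⟩
  obtain ⟨P⟩ : Nonempty (Sylow 17 G) := inferInstance
  obtain ⟨hcP, hcN⟩ := sylow_data 17 8 (h.trans (by norm_num)) (by norm_num) (by
    intro k n hkn hmod hne
    have hle : n ≤ 144 := Nat.le_of_dvd (by norm_num) (Dvd.intro_left k hkn)
    interval_cases n <;> omega) P
  obtain ⟨a, ha, ⟨e⟩⟩ := main_rep2 17 8 2 P hcP hcN (h.trans (by norm_num)) (by norm_num)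
    (by norm_num) V17.D1 V17.D2 (fun a => a ^ 8 = 1) V17.det V17.su V17.sc V17.st
    V17.hsu V17.hsc V17.hst
  exact ⟨e.trans (MulEquiv.subgroupCongr (V17.K_eq a ha))⟩

theorem iso19 (h : Nat.card G = 3420) : Nonempty (G ≃* ↥(V19.K 2)) := by
  haveI : Fact (Nat.Prime 19) := ⟨by norm_num⟩
  obtain ⟨P⟩ : Nonempty (Sylow 19 G) := inferInstance
  obtain ⟨hcP, hcN⟩ := sylow_data 19 9 (h.trans (by norm_num)) (by norm_num) (by
    intro k n hkn hmod hne
    have hle : n ≤ 180 := Nat.le_of_dvd (by norm_num) (Dvd.intro_left k hkn)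
    interval_cases n <;> omega) P
  obtain ⟨a, ha, ⟨e⟩⟩ := main_rep2 19 9 4 P hcP hcN (h.trans (by norm_num)) (by norm_num)
    (by norm_num) V19.D1 V19.D2 (fun a => a ^ 9 = -1) V19.det V19.su V19.sc V19.st
    V19.hsu V19.hsc V19.hst
  exact ⟨e.trans (MulEquiv.subgroupCongr (V19.K_eq a ha))⟩

theorem iso23 (h : Nat.card G = 6072) : Nonempty (G ≃* ↥(V23.K 5)) := by
  haveI : Fact (Nat.Prime 23) := ⟨by norm_num⟩
  obtain ⟨P⟩ : Nonempty (Sylow 23 G) := inferInstance
  obtain ⟨hcP, hcN⟩ := sylow_data 23 11 (h.trans (by norm_num)) (by norm_num) (by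
    intro k n hkn hmod hne
    have hle : n ≤ 264 := Nat.le_of_dvd (by norm_num) (Dvd.intro_left k hkn)
    interval_cases n <;> omega) P
  obtain ⟨a, ha, ⟨e⟩⟩ := main_rep2 23 11 4 P hcP hcN (h.trans (by norm_num)) (by norm_num)
    (by norm_num) V23.D1 V23.D2 (fun a => a ^ 11 = -1) V23.det V23.su V23.sc V23.st
    V23.hsu V23.hsc V23.hst
  exact ⟨e.trans (MulEquiv.subgroupCongr (V23.K_eq a ha))⟩

end Cfsg.Agent.Lib.helper3.UG
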